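import Mathlib
import Cfsg.Agent.ZJ.Lin
import Cfsg.Agent.PLocal.Amb

/-! Frames for the characterization of `Fi₂₂` by a subgroup `2⁶ : Sp₆(2)`. -/

set_option autoImplicit false

namespace Cfsg.Agent.F6

open Subgroup Cfsg.Agent.Class TT TT.UQ U6R ZJ Cfsg.Agent.PLocal.Amb

/-- The natural module of `Sp₆(2)`, written as `F₄³`. -/
abbrev V6 : Type := Fin 3 → GF4

abbrev P6 : Type := Equiv.Perm V6

/-- The symplectic form (values `0`, `1`). -/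
def f6 (x y : V6) : GF4 :=
  x 0 * y 0 ^ 2 + x 0 ^ 2 * y 0 + (x 1 * y 1 ^ 2 + x 1 ^ 2 * y 1) + (x 2 * y 2 ^ 2 + x 2 ^ 2 * y 2)

theorem forall3 {p : V6 → Prop} (h : ∀ a b c, p ![a, b, c]) (v : V6) : p v := by
  have : v = ![v 0, v 1, v 2] := by funext i; fin_cases i <;> rfl
  exact this ▸ h _ _ _

theorem v6_add_self (v : V6) : v + v = 0 := by funext i; exact gf_add_self _

theorem f6_self (x : V6) : f6 x x = 0 := by revert x; refine forall3 ?_; decide +kernel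

theorem f6_comm (x y : V6) : f6 x y = f6 y x := by unfold f6; ring

theorem f6_add_left (x y v : V6) : f6 (x + y) v = f6 x v + f6 y v := by
  have h : ∀ a b : GF4, (a + b) ^ 2 = a ^ 2 + b ^ 2 := by decide
  simp only [f6, Pi.add_apply, h]; ring

theorem f6_add_right (x y v : V6) : f6 v (x + y) = f6 v x + f6 v y := by
  rw [f6_comm, f6_add_left, f6_comm x, f6_comm y]

theorem f6_cases (x y : V6) : f6 x y = 0 ∨ f6 x y = 1 := by
  have h : ∀ a b : GF4, a * b ^ 2 + a ^ 2 * b = 0 ∨ a * b ^ 2 + a ^ 2 * b = 1 := by decide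
  unfold f6
  rcases h (x 0) (y 0) with a | a <;> rcases h (x 1) (y 1) with b | b <;>
    rcases h (x 2) (y 2) with c | c <;> rw [a, b, c] <;> decide

theorem f6_zero_left (v : V6) : f6 0 v = 0 := by simp [f6]

/-- Affine symplectic maps. -/
structure IsAS (g : P6) : Prop where
  add : ∀ x y, g (x + y) = g x + g y + g 0
  form : ∀ x y, f6 (g x + g 0) (g y + g 0) = f6 x y

/-- Translations. -/
def tr (x : V6) : P6 := Equiv.addRight x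

theorem tr_apply (x y : V6) : tr x y = y + x := rfl

/-- The transvection as a function. -/
def rf (v x : V6) : V6 := x + f6 x v • v

theorem rf_rf (v x : V6) : rf v (rf v x) = x := by
  rcases f6_cases x v with e | e
  · simp [rf, e]
  · simp only [rf, e, one_smul, f6_add_left, f6_self, add_zero, add_assoc, v6_add_self]

/-- Transvections. -/
def rv (v : V6) : P6 := ⟨rf v, rf v, rf_rf v, rf_rf v⟩

theorem rv_apply (v x : V6) : rv v x = x + f6 x v • v := rfl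

def z6 : V6 := ![0, 0, 1]

/-- All vectors. -/
def all6 : List V6 :=
  [0, 1, om, om ^ 2].flatMap fun a => [0, 1, om, om ^ 2].flatMap fun b =>
    [0, 1, om, om ^ 2].map fun c => ![a, b, c]

/-- The invariant separating the classes of involutions of `2⁶ : Sp₆(2)`: fixed points, fixed
vectors of the linear part, and whether the linear part has type `a`. -/
def ty (t : V6 → V6) : ℕ × ℕ × Bool :=
  (all6.countP fun y => t y = y, all6.countP fun y => t y + t 0 = y,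
    all6.all fun y => f6 y (t y + t 0) = 0)

variable {G : Type*} [Group G]

/-- Coordinates for `A` and the action of `N(A)` on the cosets of the complement. -/
structure St (A : Subgroup G) (α : V6 → G) (ϖ : G → P6) : Prop where
  add : ∀ x y, α (x + y) = α x * α y
  inj : Function.Injective α
  mem : ∀ g, g ∈ A ↔ ∃ x, α x = g
  mul : ∀ g ∈ 𝐍[A], ∀ k ∈ 𝐍[A], ϖ (g * k) = ϖ g * ϖ k
  as : ∀ g ∈ 𝐍[A], IsAS (ϖ g)
  act : ∀ g ∈ 𝐍[A], ∀ x, g * α x * g⁻¹ = α (ϖ g x + ϖ g 0)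
  tr : ∀ x, ϖ (α x) = tr x
  surj : ∀ σ, IsAS σ → ∃ g ∈ 𝐍[A], ϖ g = σ
  odd : ∀ g ∈ 𝐍[A], ϖ g = 1 → Odd (orderOf g)
  simple : ∀ R : Subgroup G, A ≤ R → R ≤ 𝐍[A] → 𝐍[A] ≤ 𝐍[R] →
    (∀ g ∈ R, ∃ x, ϖ g = F6.tr x) ∨ ∀ σ, IsAS σ → ∃ g ∈ R, ϖ g = σ

/-- The action of an element of `A` outside `J` on `J / Z`. -/
def phf (v : V4) : V4 := ![v 1 ^ 2, v 0 ^ 2, v 3 ^ 2, v 2 ^ 2]

theorem phf_phf : ∀ v, phf (phf v) = v := forall4 (by decide +kernel)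

def phi : P4 := ⟨phf, phf, phf_phf, phf_phf⟩

theorem phi_apply (v : V4) : phi v = ![v 1 ^ 2, v 0 ^ 2, v 3 ^ 2, v 2 ^ 2] := rfl

theorem phi_phi (v : V4) : phi (phi v) = v := phf_phf v

theorem phi_sq : phi * phi = 1 := Equiv.ext phi_phi

theorem phi_semi : IsSemi phi := by
  have h : ∀ a b : GF4, (a + b) ^ 2 = a ^ 2 + b ^ 2 := by decide
  have h4 : ∀ a : GF4, (a ^ 2) ^ 2 = a := by decide
  refine ⟨fun u v => ?_, fun c v => ?_, fun u v => ?_⟩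
  · funext i; fin_cases i <;> simp [phi_apply, h]
  · funext i; fin_cases i <;> simp [phi_apply, mul_pow]
  · simp only [h4_def, phi_apply, h, mul_pow, h4, Matrix.cons_val_zero, Matrix.cons_val_one,
      Matrix.cons_val]
    ring

theorem phi_x1 : phi x1 = x1 := by rw [phi_apply]; decide

theorem phi_x2 : phi x2 = x2 := by rw [phi_apply]; decide

theorem sing_of_phi {v : V4} (h : phi v = v) : 𝐡 v v = 0 := by
  have : ∀ v, phf v = v → hd v v = 0 := forall4 (by decide +kernel)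
  rw [h4_eq_hd]; exact this v h

/-- A quadratic form on the fixed space of `phi`. -/
def Qw (v : V4) : GF4 := v 0 * v 1 + v 2 * v 3

/-- The group `J = 2 × 2^{1+8}` and the action of its normalizer. -/
structure JM (Z J : Subgroup G) (z d : G) (π : G → V4) (ρ : G → P4) : Prop where
  memZ : ∀ y, y ∈ Z ↔ y = 1 ∨ y = z ∨ y = d ∨ y = d * z
  z1 : z ≠ 1
  d1 : d ≠ 1
  dz : d ≠ z
  zz : z * z = 1
  dd : d * d = 1
  le : Z ≤ J
  cent : ∀ y ∈ Z, ∀ x ∈ J, Commute x y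
  comm : ∀ x ∈ J, ∀ y ∈ J, Eqv z (x * y * x⁻¹) y
  sq : ∀ x ∈ J, x * x = 1 ∨ x * x = z
  add : ∀ x ∈ J, ∀ y ∈ J, π (x * y) = π x + π y
  surj : ∀ v, ∃ x ∈ J, π x = v
  ker : ∀ x ∈ J, π x = 0 ↔ x ∈ Z
  sq' : ∀ x ∈ J, x * x = 1 ↔ 𝐡 (π x) (π x) = 0
  comm' : ∀ x ∈ J, ∀ y ∈ J, Commute x y ↔ bf (π x) (π y) = 0
  act : ∀ g ∈ 𝐍[J], ∀ x ∈ J, π (g * x * g⁻¹) = ρ g (π x)
  triv : ∀ g ∈ 𝐍[J], ρ g = 1 → ∀ k : ℕ, g ^ 2 ^ k = 1 → g ∈ J

/-- `t` is fused by `⟨N(J), N(A)⟩` into `J - {d, dz}`. -/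
def InJ (A J : Subgroup G) (z d t : G) : Prop :=
  ∃ g ∈ 𝐍[J] ⊔ 𝐍[A], g * t * g⁻¹ ∈ J ∧ g * t * g⁻¹ ≠ d ∧ g * t * g⁻¹ ≠ d * z

/-- Everything that is used about `N(A)`, in terms of `J`. -/
structure Fr (A Z J : Subgroup G) (z d a e w : G) (π : G → V4) (ρ : G → P4) (μ : G → GF4) : Prop
    extends JM Z J z d π ρ where
  μadd : ∀ x ∈ J, ∀ y ∈ J, μ (x * y) = μ x + μ y
  μ01 : ∀ x ∈ J, μ x = 0 ∨ μ x = 1
  μz : μ z = 0
  μd : μ d = 1
  aM : a ∈ 𝐍[J]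
  aa : a * a = 1
  ρa : ρ a = phi
  ad : a * d * a⁻¹ = d * z
  μa : ∀ x ∈ J, μ (a * x * a⁻¹) = μ x
  lift : ∀ g, IsLin g → Commute g phi → ∃ m ∈ 𝐍[J], m ∈ 𝐍[A] ∧ CZ Z m ∧ ρ m = g ∧
    ∀ x ∈ J, μ (m * x * m⁻¹) + Qw (phi (g (π x)) + g (π x)) = μ x + Qw (phi (π x) + π x)
  cphi : ∀ g ∈ 𝐍[J], Commute (ρ g) phi →
    IsLin (ρ g) ∧ CZ Z g ∨ IsLin (ρ g * phi) ∧ CZ Z (g * a)
  Asq : ∀ x ∈ A, x * x = 1
  Acard : Nat.card A = 64
  zA : z ∈ A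
  aA : a ∈ A
  wA : w ∈ A
  JN : J ≤ 𝐍[A]
  trans : ∀ x ∈ A, x ≠ 1 → ∃ n ∈ 𝐍[A], n * z * n⁻¹ = x
  AW : ∀ c, phi c = c → ∃ x ∈ A, x ∈ J ∧ π x = c
  wJ : w ∈ J
  πw : π w = x1
  eM : e ∈ 𝐍[J]
  ee : e * e = 1
  ρe : ρ e = tv x1
  eZ : CZ Z e
  de : ∃ n ∈ 𝐍[A], n * d * n⁻¹ = e
  ec : ∀ x ∈ J, 𝐡 (π x) x1 = 0 → Commute x e
  ew : ∃ k ∈ J, k * e * k⁻¹ = w * e
  n2 : ∀ x ∈ J, π x = x2 → InJ A J z d (e * x)
  n3 : ∀ x ∈ J, ∀ s : GF4, π x = s • x1 → (∃ k ∈ J, k * e * k⁻¹ = e * x) ∨ InJ A J z d (e * x)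
  inv : ∀ t ∈ 𝐍[J], t * t = 1 → Commute (ρ t) phi → ρ t ≠ 1 → (∀ c ∈ uS 4, ρ t ≠ tv c) →
    InJ A J z d t ∨ ∃ g ∈ 𝐍[J] ⊔ 𝐍[A], ∃ x ∈ J, (∀ s : GF4, π x ≠ s • x1) ∧ g * t * g⁻¹ = e * x

/-- The elements of `N(J)` centralizing `Z` act as elements of `SU₄(2)`. -/
def HK (Z J : Subgroup G) (ρ : G → P4) : Prop := ∀ g ∈ 𝐍[J], CZ Z g → ρ g ∈ K4

/-- All transvections are induced. -/
def SU (Z J : Subgroup G) (ρ : G → P4) : Prop := ∀ c ∈ uS 4, ∃ g ∈ 𝐍[J], CZ Z g ∧ ρ g = tv c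

/-- Weak closure of `J` and its consequences. -/
structure WF (J : Subgroup G) (z d : G) : Prop where
  wc : ∀ P : Subgroup G, IsPGroup 2 P → ∀ g k : G, cj(g, J) ≤ P → cj(k, J) ≤ P → cj(g, J) = cj(k, J)
  syl : ∀ T : Subgroup G, IsSyl 2 T 𝐍[J] → IsSyl 2 T ⊤
  zd : ¬ IsConj z d

/-- The class of `d` and the fusion of involutions. -/
structure DF (A Z J : Subgroup G) (z d e w : G) : Prop where
  dJ : ∀ t ∈ J, IsConj d t → t = d ∨ t = d * z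
  dM : ∀ t ∈ 𝐍[J], IsConj d t → t ∉ J → ∃ m ∈ 𝐍[J], CZ Z m ∧ m * e * m⁻¹ = t
  blk : ∀ x ∈ J, IsConj d (e * x) → ∃ k ∈ J, k * e * k⁻¹ = e * x
  comm : ∀ s t, IsConj d s → IsConj d t → ∀ n : ℕ, (s * t) ^ 2 ^ n = 1 → Commute s t
  cls : ∀ t ∈ 𝐍[J], t * t = 1 → t ≠ 1 → ∃ g ∈ 𝐍[J] ⊔ 𝐍[A],
    g * t * g⁻¹ = z ∨ g * t * g⁻¹ = d ∨ g * t * g⁻¹ = w * d
  zwd : ¬ IsConj z (w * d)

namespace JM

variable {Z J : Subgroup G} {z d : G} {π : G → V4} {ρ : G → P4} (h : JM Z J z d π ρ)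
include h

theorem zZ : z ∈ Z := (h.memZ z).2 (by simp)

theorem dZ : d ∈ Z := (h.memZ d).2 (by simp)

theorem zJ : z ∈ J := h.le h.zZ

theorem dJ : d ∈ J := h.le h.dZ

theorem cz {x : G} (hx : x ∈ J) : CZ Z x := fun y hy => h.cent y hy x hx

theorem zsq {y : G} (hy : y ∈ Z) : y * y = 1 := by
  rcases (h.memZ y).1 hy with rfl | rfl | rfl | rfl
  · simp
  · exact h.zz
  · exact h.dd
  · rw [← pow_two, (h.cent z h.zZ d h.dJ).mul_pow, pow_two, pow_two, h.dd, h.zz, mul_one]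

theorem pi_Z {x : G} (hx : x ∈ Z) : π x = 0 := (h.ker x (h.le hx)).2 hx

theorem pi_one : π 1 = 0 := h.pi_Z (one_mem _)

theorem pi_inv {x : G} (hx : x ∈ J) : π x⁻¹ = π x :=
  v4_eq_of_add (by rw [← h.add _ (inv_mem hx) _ hx, inv_mul_cancel, h.pi_one])

theorem mem_of_pi {x y : G} (hx : x ∈ J) (hy : y ∈ J) (e : π x = π y) : x⁻¹ * y ∈ Z :=
  (h.ker _ (mul_mem (inv_mem hx) hy)).1 (by
    rw [h.add _ (inv_mem hx) _ hy, h.pi_inv hx, e, v4_add_self])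

theorem mem_Z {m : G} (hm : m ∈ J) (hc : ∀ x ∈ J, Commute x m) : m ∈ Z :=
  (h.ker m hm).1 (eq_zero_of_bf fun v => by
    obtain ⟨x, hx, rfl⟩ := h.surj v
    exact (h.comm' x hx m hm).1 (hc x hx))

theorem pow_four {x : G} (hx : x ∈ J) : x ^ 4 = 1 := by
  rw [show x ^ 4 = x * x * (x * x) by simp only [pow_succ, pow_zero, one_mul, mul_assoc]]
  rcases h.sq x hx with e | e <;> simp [e, h.zz]

theorem isPGroup : IsPGroup 2 J := fun x => ⟨2, Subtype.ext (h.pow_four x.2)⟩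

theorem conj_of_ne {x y : G} (hx : x ∈ J) (hy : y ∈ J) (hn : ¬ Commute x y) :
    x * y * x⁻¹ = y * z := (h.comm x hx y hy).resolve_left fun e => hn (commute_of_conj_eq e)

theorem rho_ext {g : G} (hg : g ∈ 𝐍[J]) {r : P4} (e : ∀ x ∈ J, π (g * x * g⁻¹) = r (π x)) :
    ρ g = r := Equiv.ext fun v => by
  obtain ⟨x, hx, rfl⟩ := h.surj v
  rw [← h.act g hg x hx, e x hx]

theorem rho_mul {g k : G} (hg : g ∈ 𝐍[J]) (hk : k ∈ 𝐍[J]) : ρ (g * k) = ρ g * ρ k :=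
  h.rho_ext (mul_mem hg hk) fun x hx => by
    rw [Equiv.Perm.mul_apply, ← h.act _ hk _ hx,
      ← h.act _ hg _ (conj_mem_of_mem_normalizer hk hx)]
    congr 1; group

theorem rho_of_mem {q : G} (hq : q ∈ J) : ρ q = 1 := h.rho_ext (le_normalizer hq) fun x hx => by
  rw [h.add _ (mul_mem hq hx) _ (inv_mem hq), h.add _ hq _ hx, h.pi_inv hq, add_comm (π q),
    v4_add_add']
  rfl

theorem rho_one : ρ 1 = 1 := h.rho_of_mem (one_mem _)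

theorem rho_inv {g : G} (hg : g ∈ 𝐍[J]) : ρ g⁻¹ = (ρ g)⁻¹ :=
  eq_inv_of_mul_eq_one_left (by rw [← h.rho_mul (inv_mem hg) hg, inv_mul_cancel, h.rho_one])

theorem rho_conj {g k : G} (hg : g ∈ 𝐍[J]) (hk : k ∈ 𝐍[J]) :
    ρ (g * k * g⁻¹) = ρ g * ρ k * (ρ g)⁻¹ := by
  rw [h.rho_mul (mul_mem hg hk) (inv_mem hg), h.rho_mul hg hk, h.rho_inv hg]

/-- The action as a homomorphism. -/
def hom : 𝐍[J] →* P4 := MonoidHom.mk' (fun g => ρ g) fun g k => h.rho_mul g.2 k.2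

theorem hom_apply (g : 𝐍[J]) : h.hom g = ρ g := rfl

theorem rho_pow {g : G} (hg : g ∈ 𝐍[J]) (n : ℕ) : ρ (g ^ n) = ρ g ^ n :=
  map_pow h.hom ⟨g, hg⟩ n

theorem rho_add {g : G} (hg : g ∈ 𝐍[J]) (u v : V4) : ρ g (u + v) = ρ g u + ρ g v := by
  obtain ⟨x, hx, rfl⟩ := h.surj u
  obtain ⟨y, hy, rfl⟩ := h.surj v
  rw [← h.add x hx y hy, ← h.act g hg _ (mul_mem hx hy), ← h.act g hg x hx, ← h.act g hg y hy,
    ← h.add _ (conj_mem_of_mem_normalizer hg hx) _ (conj_mem_of_mem_normalizer hg hy), conj_mul]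

theorem rho_self {g : G} (hg : g ∈ 𝐍[J]) (v : V4) : 𝐡 (ρ g v) (ρ g v) = 𝐡 v v := by
  obtain ⟨x, hx, rfl⟩ := h.surj v
  have h1 := h.sq' _ (conj_mem_of_mem_normalizer hg hx)
  rw [h.act g hg x hx, conj_mul, mul_inv_eq_one, mul_eq_left, h.sq' x hx] at h1
  rcases h4_self_cases (π x) with e | e <;> rcases h4_self_cases (ρ g (π x)) with e' | e' <;>
    simp_all

theorem pi_comm {g x : G} (hg : g ∈ 𝐍[J]) (hx : x ∈ J) :
    π (g * x * g⁻¹ * x⁻¹) = ρ g (π x) + π x := by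
  rw [h.add _ (conj_mem_of_mem_normalizer hg hx) _ (inv_mem hx), h.act g hg x hx, h.pi_inv hx]

theorem normZ {g y : G} (hg : g ∈ 𝐍[J]) (hy : y ∈ Z) : g * y * g⁻¹ ∈ Z :=
  h.mem_Z (conj_mem_of_mem_normalizer hg (h.le hy)) fun _ hx =>
    (comm_conj_inv.2 (h.cent y hy _ (conj_mem_of_mem_normalizer (inv_mem hg) hx)).symm).symm

theorem commz {g : G} (hg : g ∈ 𝐍[J]) : Commute g z := by
  obtain ⟨x, hx, e⟩ := h.surj e0
  have h1 : ∀ y ∈ J, 𝐡 (π y) (π y) = 1 → y * y = z := fun y hy e =>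
    (h.sq y hy).resolve_left fun c => by rw [h.sq' y hy, e] at c; exact one_ne_zero c
  have h2 : 𝐡 (π x) (π x) = 1 := by rw [e, h4_e0]; rfl
  have h3 := h1 _ (conj_mem_of_mem_normalizer hg hx) (by rw [h.act g hg x hx, h.rho_self hg, h2])
  rw [conj_mul, h1 x hx h2] at h3
  exact commute_of_conj_eq h3

theorem conj_d {g : G} (hg : g ∈ 𝐍[J]) : g * d * g⁻¹ = d ∨ g * d * g⁻¹ = d * z := by
  rcases (h.memZ _).1 (h.normZ hg h.dZ) with e | e | e | e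
  · exact absurd (by simpa [mul_inv_eq_one] using e) h.d1
  · rw [← conj_eq_of_commute (h.commz hg), conj_inj] at e
    exact absurd e h.dz
  · exact .inl e
  · exact .inr e

theorem cz_of {g : G} (hg : g ∈ 𝐍[J]) (e : Commute g d) : CZ Z g := fun y hy => by
  rcases (h.memZ y).1 hy with rfl | rfl | rfl | rfl
  · exact Commute.one_right g
  · exact h.commz hg
  · exact e
  · exact e.mul_right (h.commz hg)

/-- Transport along a conjugation. -/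
theorem conj (g : G) : JM cj(g, Z) cj(g, J) (g * z * g⁻¹) (g * d * g⁻¹) (fun x => π (g⁻¹ * x * g))
    fun x => ρ (g⁻¹ * x * g) := by
  have c1 : ∀ x y : G, g⁻¹ * x * g = y ↔ x = g * y * g⁻¹ := fun x y =>
    ⟨fun e => by rw [← e]; group, fun e => by rw [e]; group⟩
  have c2 : ∀ x y : G, g⁻¹ * (x * y) * g = g⁻¹ * x * g * (g⁻¹ * y * g) := fun x y => by group
  have c3 : ∀ x y : G, Commute (g⁻¹ * x * g) (g⁻¹ * y * g) ↔ Commute x y := fun x y => by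
    simpa using commute_conj_iff' g⁻¹ x y
  have c4 : ∀ x y : G, g⁻¹ * (x * y * x⁻¹) * g =
      g⁻¹ * x * g * (g⁻¹ * y * g) * (g⁻¹ * x * g)⁻¹ := fun x y => by group
  have c5 : ∀ x, x ∈ 𝐍[cj(g, J)] → g⁻¹ * x * g ∈ 𝐍[J] := fun x hx => by
    rwa [normalizer_cj, mem_cj] at hx
  refine ⟨fun y => ?_, ?_, ?_, ?_, ?_, ?_, cj_mono g h.le, fun y hy x hx => ?_,
    fun x hx y hy => ?_, fun x hx => ?_, fun x hx y hy => ?_, fun v => ?_, fun x hx => ?_,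
    fun x hx => ?_, fun x hx y hy => ?_, fun k hk x hx => ?_, fun k hk e n hn => ?_⟩
  · rw [mem_cj, h.memZ]; simp only [c1, conj_mul, mul_one, mul_inv_cancel]
  · simpa [mul_inv_eq_one] using h.z1
  · simpa [mul_inv_eq_one] using h.d1
  · simpa using h.dz
  · rw [conj_mul, h.zz]; simp
  · rw [conj_mul, h.dd]; simp
  · exact (c3 _ _).1 (h.cent _ (mem_cj.1 hy) _ (mem_cj.1 hx))
  · have := h.comm _ (mem_cj.1 hx) _ (mem_cj.1 hy)
    rw [← c4] at this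
    exact this.imp (fun e => by simpa using e) fun e => by rw [(c1 _ _).1 e]; group
  · have := h.sq _ (mem_cj.1 hx)
    rw [← c2] at this
    exact this.imp (fun e => by simpa using (c1 _ _).1 e) (c1 _ _).1
  · rw [c2, h.add _ (mem_cj.1 hx) _ (mem_cj.1 hy)]
  · obtain ⟨x, hx, e⟩ := h.surj v
    exact ⟨_, conj_mem_cj g hx, by simpa [mul_assoc] using e⟩
  · rw [h.ker _ (mem_cj.1 hx), mem_cj]
  · rw [← h.sq' _ (mem_cj.1 hx), ← c2, c1]; simp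
  · rw [← h.comm' _ (mem_cj.1 hx) _ (mem_cj.1 hy), c3]
  · rw [c4, h.act _ (c5 k hk) _ (mem_cj.1 hx)]
  · refine mem_cj.2 (h.triv _ (c5 k hk) e n ?_)
    have := conj_pow (a := g⁻¹) (b := k) (i := 2 ^ n)
    rw [inv_inv] at this
    rw [this, hn]; simp

end JM

end Cfsg.Agent.F6
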