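import Mathlib
import Cfsg.Agent.F6.Defs

/-! Linear algebra in `ΓU₄(2)`. -/

set_option autoImplicit false

namespace Cfsg.Agent.F6

open Subgroup Cfsg.Agent.Class TT TT.UQ U6R ZJ Cfsg.Agent.PLocal.Amb

theorem sc4_zpow_mem {n : ℤ} (h : sc4 ^ n ∈ K4) : sc4 ^ n = 1 :=
  eq_one_of_commute_tv h fun _ hc => (IsLin.comm_sc4 (tv_lin hc)).symm.zpow_left n

theorem ga_conj_mem {g k : P4} (hg : IsGa g) (hk : k ∈ K4) : g * k * g⁻¹ ∈ K4 := by
  induction hk using closure_induction with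
  | mem x hx => obtain ⟨u, hu, rfl⟩ := hx; exact hg.conj_tv hu ▸ subset_closure ⟨_, hg.mem hu, rfl⟩
  | one => simp
  | mul x y _ _ hx hy => rw [← conj_mul]; exact mul_mem hx hy
  | inv x _ hx => rw [← conj_inv]; exact inv_mem hx

theorem sc4_cube : sc4 ^ 3 = 1 := sc4_order ▸ pow_orderOf_eq_one _

theorem semi_sc4 {ψ : P4} (h : IsSemi ψ) (n : ℤ) : ψ * sc4 ^ n * ψ⁻¹ = (sc4 ^ n)⁻¹ := by
  rw [← conj_zpow, ← inv_zpow, inv_eq_of_mul_eq_one_right ((pow_three _).symm.trans sc4_cube)]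
  congr 1
  exact mul_inv_eq_iff_eq_mul.2 (Equiv.ext fun v => (h.smul om v).trans (by rw [pow_two, mul_smul]; rfl))

theorem sc4_half {n : ℤ} (h : sc4 ^ n * sc4 ^ n ∈ K4) : sc4 ^ n = 1 := by
  rw [← zpow_add] at h
  have h1 : (sc4 ^ n) ^ 3 = 1 := by rw [← zpow_natCast, ← zpow_comm, zpow_natCast, sc4_cube, one_zpow]
  rwa [pow_three, ← zpow_add, sc4_zpow_mem h, mul_one] at h1

theorem mem_K4_of_phi {g : P4} (hg : IsLin g) (h : Commute g phi) : g ∈ K4 := by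
  obtain ⟨n, hn⟩ := ZJ.IsLin.exists_mul hg
  have h1 := mul_mem hn (inv_mem (ga_conj_mem phi_semi.ga hn))
  rw [← conj_mul, semi_sc4 phi_semi, conj_eq_of_commute h.symm, mul_inv_rev, inv_inv, mul_assoc,
    mul_inv_cancel_left] at h1
  rwa [sc4_half h1, one_mul] at hn

theorem exists_dK {a : GF4} (ha : a ≠ 0) : ∃ k ∈ K4, k x1 = a • x1 ∧ k x2 = a ^ 2 • x2 := by
  have hl := lin_of_mem_closure dK.2
  rcases gf_cases a ha with rfl | rfl | rfl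
  · exact ⟨1, one_mem _, by simp⟩
  · exact ⟨dK, dK.2, dK_x1, dK_x2⟩
  · exact ⟨dK * dK, mul_mem dK.2 dK.2, by
      simp only [Equiv.Perm.mul_apply, dK_x1, dK_x2, hl.smul, smul_smul]; decide⟩

theorem exists_K4_one {u : V4} (hu : u ∈ uS 4) : ∃ k ∈ K4, k x1 = u := by
  obtain ⟨g, hg, a, ha, e⟩ := exists_move x1_mem hu
  obtain ⟨k, hk, e1, -⟩ := exists_dK (inv_ne_zero ha)
  exact ⟨g * k, mul_mem hg hk, by
    rw [Equiv.Perm.mul_apply, e1, (lin_of_mem_closure hg).smul, e, inv_smul_smul₀ ha]⟩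

theorem exists_K4_two {u v : V4} (hu : u ∈ uS 4) (hv : v ∈ uS 4) (huv : 𝐡 v u = 0)
    (hn : ∀ s : GF4, v ≠ s • u) : ∃ k ∈ K4, ∃ s : GF4, s ≠ 0 ∧ k x1 = s • u ∧ k x2 = v := by
  obtain ⟨g, hg, rfl, rfl⟩ := exists_lin_two hu hv huv hn
  obtain ⟨n, hk⟩ := ZJ.IsLin.exists_mul hg
  obtain ⟨s, hs, e⟩ : ∃ s : GF4, s ≠ 0 ∧ ∀ v, (sc4 ^ n) v = s • v :=
    ⟨_, (Units.mk0 om (by decide) ^ n).ne_zero, fun v => congrArg (· v)
      (map_zpow (MulAction.toPermHom GF4ˣ V4) (Units.mk0 om (by decide)) n).symm⟩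
  obtain ⟨k, hk', e1, e2⟩ := exists_dK hs
  refine ⟨_, mul_mem hk hk', s * s, mul_ne_zero hs hs, ?_, ?_⟩ <;>
    simp only [Equiv.Perm.mul_apply, e, e1, e2, hg.smul, smul_smul, gf_cube s hs, one_smul]

theorem card_fix_semi {y : P4} (h : IsSemi y) (h2 : y * y = 1) :
    Nat.card {v // y v = v} = 16 := by
  have := Nat.card_eq_of_bijective (fun p : {v // y v = v} × {v // y v = v} => p.1.1 + om • p.2.1)
    ⟨by
      rintro ⟨⟨a, ha⟩, b, hb⟩ ⟨⟨c, hc⟩, d, hd⟩ (e : a + om • b = c + om • d)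
      have h1 := congrArg₂ (· + ·) (congrArg y e) e
      simp only [h.add, h.smul, ha, hb, hc, hd, ← add_om_smul, add_add_add_comm _ (_ + _), v4_add_self,
        zero_add, v4_add_add'] at h1
      subst h1
      obtain rfl := add_right_cancel e
      rfl, fun v => by
      obtain ⟨a, b, ha, hb, rfl⟩ := h.decomp (fun v => congrArg (· v) h2) v
      exact ⟨(⟨a, ha⟩, ⟨b, hb⟩), rfl⟩⟩
  rw [Nat.card_prod, Nat.card_fun, Nat.card_eq_fintype_card (α := GF4), card_GF4, Nat.card_fin] at this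
  exact Nat.mul_self_inj.1 this

section

variable {ψ : P4} (h : IsSemi ψ) (h2 : ψ * ψ = 1)
include h h2

theorem exists_sing (c : V4) : ∃ d, d ≠ 0 ∧ ψ d = d ∧ 𝐡 d c = 0 ∧ 𝐡 d d = 0 := by
  obtain ⟨⟨a, ha⟩, ⟨b, hb⟩, e, n⟩ := Function.not_injective_iff.1 (mt (Nat.card_le_card_of_injective
    fun v : {v // ψ v = v} => (𝐡 v.1 c, decide (𝐡 v.1 v.1 = 0))) (by
      rw [card_fix_semi h h2, Nat.card_prod, Nat.card_eq_fintype_card, card_GF4]; simp))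
  simp only [Prod.mk.injEq, decide_eq_decide] at e
  refine ⟨a + b, fun r => n (Subtype.ext (v4_eq_of_add r)), by rw [h.add, ha, hb],
    by rw [h4_add_left, e.1, gf_add_self], ?_⟩
  rw [h4_add_add, bf_eq]
  rcases h4_self_cases a with r | r <;> rcases h4_self_cases b with s | s <;>
    rcases h.h4_cases ha hb with t | t <;> simp_all [gf_add_self]

theorem plane {p q : V4} (hp : ψ p = p ∧ ψ q = q ∨ ψ p = q ∧ ψ q = p)
    (h3 : ∀ v, 𝐡 (v + (𝐡 v p • p + 𝐡 v q • q)) p = 0 ∧ 𝐡 (v + (𝐡 v p • p + 𝐡 v q • q)) q = 0) :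
    ∃ f g, (𝐡 f f = 1 ∧ 𝐡 g g = 1 ∧ 𝐡 f g = 0) ∧ (𝐡 f p = 0 ∧ 𝐡 f q = 0 ∧ 𝐡 g p = 0 ∧ 𝐡 g q = 0) ∧
      (ψ f = f ∧ ψ g = g ∨ ψ f = g ∧ ψ g = f) := by
  obtain ⟨a, a0, ha, a1, a2, a3⟩ : ∃ a, a ≠ 0 ∧ ψ a = a ∧ 𝐡 a p = 0 ∧ 𝐡 a q = 0 ∧ 𝐡 a a = 0 := by
    rcases hp with ⟨e1, e2⟩ | ⟨e1, -⟩
    · obtain ⟨a, a0, ha, r, s⟩ := exists_sing h h2 (p + om • q)
      rw [h4_add_right, h4_smul_right] at r
      refine ⟨a, a0, ha, ?_⟩
      revert r
      rcases h.h4_cases ha e1 with t | t <;> rcases h.h4_cases ha e2 with u | u <;> rw [t, u, s] <;> decide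
    · obtain ⟨a, a0, ha, r, s⟩ := exists_sing h h2 p
      exact ⟨a, a0, ha, r, by rw [← e1, ← ha, h.ga.perp, r], s⟩
  obtain ⟨b, hb, b1, b2, b3⟩ : ∃ b, ψ b = b ∧ 𝐡 b p = 0 ∧ 𝐡 b q = 0 ∧ 𝐡 b a = 1 := by
    obtain ⟨b, hb⟩ := not_forall.1 (mt (h.eq_zero fun v => congrArg (· v) h2) a0)
    obtain ⟨hb, r⟩ := Classical.not_imp.1 hb
    refine ⟨_, ?_, (h3 b).1, (h3 b).2, ?_⟩
    · rw [h.add, h.add, h.smul, h.smul, ← h.form, ← h.form, hb]
      rcases hp with ⟨e1, e2⟩ | ⟨e1, e2⟩ <;> rw [e1, e2]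
      rw [add_comm (_ • q)]
    · simp only [h4_add_left, h4_smul_left, h4_eq_zero_comm.1 a1, h4_eq_zero_comm.1 a2, mul_zero,
        add_zero, (h.h4_cases hb ha).resolve_left r]
  have b4 : 𝐡 a b = 1 := by rw [← h4_sq, b3, one_pow]
  rcases h4_self_cases b with r | r
  · refine ⟨om ^ 2 • a + b, om • a + b, ?_, ?_, Or.inr ?_⟩
    · simp only [h4_add_left, h4_add_right, h4_smul_left, h4_smul_right, a3, b3, b4, r]; decide
    · simp [h4_add_left, h4_smul_left, a1, a2, b1, b2]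
    · simp only [h.add, h.smul, ha, hb, gf_four, and_self]
  · refine ⟨b, a + b, ?_, ?_, Or.inl ⟨hb, by rw [h.add, ha, hb]⟩⟩
    · simp only [h4_add_left, h4_add_right, a3, b3, b4, r]; decide
    · simp [h4_add_left, a1, a2, b1, b2]

theorem semi_lin : ∃ k, IsLin k ∧ Commute (k * ψ * k⁻¹) phi ∧
    ((∀ v, ψ v = v → 𝐡 v v = 0) → k * ψ * k⁻¹ = phi) := by
  obtain ⟨a, b, ⟨a1, b1, a2⟩, -, e⟩ := plane h h2 (p := 0) (q := 0) (Or.inl ⟨h.zero, h.zero⟩)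
    (by simp [h4_zero_right])
  have a3 := h4_eq_zero_comm.1 a2
  obtain ⟨c, d, ⟨c1, d1, c2⟩, ⟨c3, c4, d2, d3⟩, e'⟩ := plane h h2 e fun v => by
    simp [h4_add_left, h4_smul_left, a1, b1, a2, a3, gf_add_self]
  let f (v : V4) := v 0 • a + v 1 • b + v 2 • c + v 3 • d
  have f1 : ∀ u v, 𝐡 (f u) (f v) = 𝐡 u v := fun u v => by
    simp only [f, h4_add_left, h4_add_right, h4_smul_left, h4_smul_right, a1, b1, a2, a3, c1, d1, c2, c3,
      c4, d2, d3, h4_eq_zero_comm.1 c2, h4_eq_zero_comm.1 c3, h4_eq_zero_comm.1 c4,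
      h4_eq_zero_comm.1 d2, h4_eq_zero_comm.1 d3, h4_def u v]
    ring
  have f2 : ∀ u v, f (u + v) = f u + f v := fun u v => by simp only [f, Pi.add_apply]; module
  let k := Equiv.ofBijective f (Finite.injective_iff_bijective.1 fun u v r => v4_eq_of_add
    (eq_zero_of_h4 fun x => by rw [← f1, f2, r, v4_add_self, h4_zero_right]))
  have hk : IsLin k := ⟨f2, fun c v => by
    simp only [k, Equiv.ofBijective_apply, f, Pi.smul_apply, smul_eq_mul]; module, f1⟩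
  have key : ∀ g : V4 → V4, (∀ v, ψ (f v) = f (g v)) → ∀ v, (k⁻¹ * ψ * k⁻¹⁻¹) v = g v := fun g r v =>
    (Equiv.Perm.inv_eq_iff_eq (f := k)).2 (r v)
  have cm : ∀ g : V4 → V4, (∀ v, ψ (f v) = f (g v)) → (∀ v, g (phf v) = phf (g v)) →
      Commute (k⁻¹ * ψ * k⁻¹⁻¹) phi := fun g r s => Equiv.ext fun v =>
    (key g r _).trans ((s v).trans (congrArg phf (key g r v).symm))
  refine ⟨k⁻¹, hk.inv, ?_, fun hs => Equiv.ext (key phf fun v => ?_)⟩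
  · rcases e with ⟨e1, e2⟩ | ⟨e1, e2⟩ <;> rcases e' with ⟨e3, e4⟩ | ⟨e3, e4⟩
    on_goal 1 => refine cm (fun v => ![v 0 ^ 2, v 1 ^ 2, v 2 ^ 2, v 3 ^ 2]) (fun v => ?_) fun _ => rfl
    on_goal 2 => refine cm (fun v => ![v 0 ^ 2, v 1 ^ 2, v 3 ^ 2, v 2 ^ 2]) (fun v => ?_) fun _ => rfl
    on_goal 3 => refine cm (fun v => ![v 1 ^ 2, v 0 ^ 2, v 2 ^ 2, v 3 ^ 2]) (fun v => ?_) fun _ => rfl
    on_goal 4 => refine cm phf (fun v => ?_) fun _ => rfl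
    all_goals
      simp only [f, phf, h.add, h.smul, e1, e2, e3, e4, Matrix.cons_val]
      try abel
  · obtain ⟨e1, e2⟩ := e.resolve_left fun r => one_ne_zero (a1.symm.trans (hs a r.1))
    obtain ⟨e3, e4⟩ := e'.resolve_left fun r => one_ne_zero (c1.symm.trans (hs c r.1))
    simp only [f, phf, h.add, h.smul, e1, e2, e3, e4, Matrix.cons_val]
    abel

omit h2 in
theorem mem_K4_of_conj (hK : ψ * phi ∈ K4) {k : P4} (hk : IsLin k) (c : Commute (k * ψ * k⁻¹) phi) :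
    k ∈ K4 := by
  obtain ⟨n, hn⟩ := ZJ.IsLin.exists_mul hk
  have h1 := (hk.mul_semi h).mul_lin hk.inv
  have h3 := mul_mem (mul_mem (mul_mem hn hK) (ga_conj_mem phi_semi.inv.ga (inv_mem hn)))
    (inv_mem (mem_K4_of_phi (h1.mul phi_semi) (c.mul_left (Commute.refl _))))
  replace h3 : sc4 ^ n * (k * ψ * k⁻¹ * sc4 ^ n * (k * ψ * k⁻¹)⁻¹)⁻¹ ∈ K4 := by convert h3 using 1; group
  rw [semi_sc4 h1, inv_inv] at h3
  rwa [sc4_half h3, one_mul] at hn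

end

theorem semi_sing {ψ : P4} (h : IsSemi ψ) (h2 : ψ * ψ = 1) (hK : ψ * phi ∈ K4)
    (hs : ∀ v, ψ v = v → 𝐡 v v = 0) : ∃ k ∈ K4, k * ψ * k⁻¹ = phi :=
  let ⟨k, hk, c, e⟩ := semi_lin h h2
  ⟨k, mem_K4_of_conj h hK hk c, e hs⟩

theorem semi_conj {ψ : P4} (h : IsSemi ψ) (h2 : ψ * ψ = 1) (hK : ψ * phi ∈ K4) :
    ∃ k ∈ K4, Commute (k * ψ * k⁻¹) phi :=
  let ⟨k, hk, c, _⟩ := semi_lin h h2
  ⟨k, mem_K4_of_conj h hK hk c, c⟩

theorem card_le_lin {Y : Subgroup P4} (h : ∀ y ∈ Y, IsGa y) :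
    Nat.card Y ≤ 2 * Nat.card (Y ⊓ LG : Subgroup P4) :=
  card_le_two_mul_of_mul_mem inf_le_left fun x hx y hy hx' hy' => ⟨mul_mem hx hy,
    ((h x hx).resolve_left fun c => hx' ⟨hx, c⟩).mul ((h y hy).resolve_left fun c => hy' ⟨hy, c⟩)⟩

theorem card_two_le {Y : Subgroup P4} (h : ∀ y ∈ Y, IsGa y) (h2 : IsPGroup 2 Y) :
    Nat.card Y ≤ 128 := by
  obtain ⟨n, hn⟩ := (h2.to_inf_left (K := LG)).exists_card_eq
  have h1 := card_dvd_of_le (inf_le_right : Y ⊓ LG ≤ LG)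
  rw [sup_eq_LG.2, hn] at h1
  have := Nat.le_of_dvd (by decide) (((by decide : Nat.Coprime 2 1215).pow_left n).dvd_of_dvd_mul_right
    (m := 64) h1)
  have := card_le_lin h
  omega

theorem card_fix_conj (k t : P4) : Nat.card {v // (k * t * k⁻¹) v = v} = Nat.card {v // t v = v} :=
  Nat.card_congr (k⁻¹.subtypeEquiv fun _ => (Equiv.Perm.eq_inv_iff_eq (f := k)).symm)

theorem card_fix_tv {c : V4} (hc : c ∈ uS 4) : Nat.card {v // tv c v = v} = 64 := by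
  obtain ⟨k, hk, rfl⟩ := exists_lin_one hc
  simp only [← hk.ga.conj_tv x1_mem, card_fix_conj, tv_eq_tf x1_mem]
  rw [Nat.card_eq_fintype_card, Fintype.card_subtype]
  decide +kernel

theorem conj_two {k : P4} (hk : IsGa k) : tv (k x1) * tv (k x2) = k * (tv x1 * tv x2) * k⁻¹ := by
  rw [← conj_mul, hk.conj_tv x1_mem, hk.conj_tv x2_mem]

theorem fix_two' (y : V4) : (tv x1 * tv x2) y = y ↔ ∃ s t : GF4, y = s • x1 + t • x2 :=
  ⟨fun e => ⟨_, _, eq_of_perp (exists_two e).1 (exists_two e).2.1⟩, by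
    rintro ⟨s, t, rfl⟩; rw [tv_two_apply]; revert s t; decide +kernel⟩

theorem fix_two {u v : V4} (hu : u ∈ uS 4) (hv : v ∈ uS 4) (huv : 𝐡 v u = 0)
    (hn : ∀ s : GF4, v ≠ s • u) (y : V4) : ((tv u * tv v) y = y ↔ ∃ s t : GF4, y = s • u + t • v) ∧
      ((∃ s t : GF4, y = s • u + t • v) ↔ ∃ x, y = (tv u * tv v) x + x) := by
  obtain ⟨k, hk, rfl, rfl⟩ := exists_lin_two hu hv huv hn
  obtain ⟨y, rfl⟩ := k.surjective y
  have e : ∀ x, (tv (k x1) * tv (k x2)) (k x) = k ((tv x1 * tv x2) x) := fun x => by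
    rw [conj_two hk.ga]; simp
  simp only [k.surjective.exists (p := fun x => k y = _ + x), e, ← hk.smul, ← hk.add, k.injective.eq_iff,
    ← fix_two', true_and]
  refine ⟨fun e => (exists_two e).2.2.2, ?_⟩
  rintro ⟨x, rfl⟩
  exact (fix_two' _).2 ⟨_, _, by rw [tv_two_apply, add_assoc x, add_comm x, v4_add_add']⟩

theorem card_fix_two {u v : V4} (hu : u ∈ uS 4) (hv : v ∈ uS 4) (huv : 𝐡 v u = 0)
    (hn : ∀ s : GF4, v ≠ s • u) : Nat.card {y // (tv u * tv v) y = y} = 16 := by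
  obtain ⟨k, hk, rfl, rfl⟩ := exists_lin_two hu hv huv hn
  simp only [conj_two hk.ga, card_fix_conj, tv_two_apply]
  rw [Nat.card_eq_fintype_card, Fintype.card_subtype]
  decide +kernel

theorem tv_mul_ne {u v c : V4} (hu : u ∈ uS 4) (hv : v ∈ uS 4) (hc : c ∈ uS 4) (huv : 𝐡 v u = 0) :
    tv u * tv v ≠ tv c := U6R.tv_mul_ne hu hv hc huv

theorem perp_of_two_pow {u v : V4} (hu : u ∈ uS 4) (hv : v ∈ uS 4) {n : ℕ}
    (h : (tv u * tv v) ^ 2 ^ n = 1) : 𝐡 v u = 0 := by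
  by_contra r
  have h1 : (tv u * tv v) ^ 3 = 1 :=
    calc _ = tv u * tv v * tv u * (tv v * tv u * tv v) := by rw [pow_three]; group
      _ = tv v * (tv u * (tv v * tv v) * tv u) * tv v := by rw [tv_braid hu hv r]; group
      _ = 1 := by rw [tv_mul_self hv, mul_one, tv_mul_self hu, mul_one, tv_mul_self hv]
  obtain ⟨c, rfl⟩ := (tv_eq_iff hu hv).1 ((eq_inv_of_mul_eq_one_left ((pow_eq_one_iff_of_coprime
    ((by decide : Nat.Coprime 2 3).pow_left n)).1 ⟨h, h1⟩)).trans (tv_inv hv))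
  exact r (by rw [h4_smul_right, show 𝐡 v v = 0 from hv.2, mul_zero])

/-- `y` fixes the points of `x1`, `x2` -/
def Ns (y : P4) : Prop := ∃ α δ : GF4, y x1 = α • x1 ∧ y x2 = δ • x2

/-- `y` swaps the points of `x1`, `x2` -/
def Sw (y : P4) : Prop := ∃ β γ : GF4, y x1 = β • x2 ∧ y x2 = γ • x1

set_option synthInstance.maxSize 1000 in
theorem ns_or_sw {y : P4} (hy : IsGa y) (c : Commute y (tv x1 * tv x2)) : Ns y ∨ Sw y := by
  have e := (conj_two hy).trans (conj_eq_of_commute c)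
  have f : ∀ x, (tv x1 * tv x2) x = x → ∃ s t : GF4, y x = s • x1 + t • x2 := fun x r =>
    (fix_two' _).1 ((congrArg (· x) c.eq).symm.trans (congrArg y r))
  obtain ⟨a, b, h1⟩ := f x1 (by rw [tv_two_apply]; decide)
  obtain ⟨c, d, h2⟩ := f x2 (by rw [tv_two_apply]; decide)
  have h3 := congrArg (· e0) e
  have h4 := congrArg (· e2) e
  simp only [tv_two_apply] at h3 h4
  rw [Equiv.Perm.mul_apply, tv_eq_tf (hy.mem x1_mem), tv_eq_tf (hy.mem x2_mem), h1, h2] at h3 h4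
  have : b = 0 ∧ c = 0 ∨ a = 0 ∧ d = 0 := by
    clear h1 h2; revert a b c d; decide +kernel
  exact this.imp (fun r => ⟨a, d, by simpa [r] using h1, by simpa [r] using h2⟩)
    fun r => ⟨b, c, by simpa [r] using h1, by simpa [r] using h2⟩

theorem Ns.fix {y : P4} (h : Ns y) (hy : IsLin y) (h2 : y * y = 1) : y x1 = x1 ∧ y x2 = x2 := by
  have key : ∀ x (a : GF4), x ≠ 0 → y x = a • x → y x = x := fun x a hx e => by
    have := congrArg (· x) h2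
    simp only [Equiv.Perm.mul_apply, e, hy.smul, smul_smul, Equiv.Perm.one_apply] at this
    rw [e, (by decide : ∀ a : GF4, a * a = 1 → a = 1) a
      (smul_left_injective GF4 hx (this.trans (one_smul _ _).symm)), one_smul]
  obtain ⟨a, d, e1, e2⟩ := h
  exact ⟨key _ _ x1_mem.1 e1, key _ _ x2_mem.1 e2⟩

theorem card_le_of_fix {Y : Subgroup P4} (h : ∀ y ∈ Y, IsLin y ∧ y x1 = x1 ∧ y x2 = x2)
    (P : GF4 × GF4 × GF4 → Prop) [DecidablePred P] (hP : ∀ y ∈ Y, ∀ a b d : GF4, (∀ v, y v = v +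
      ((v 0 + v 1) * a + (v 2 + v 3) * b ^ 2) • x1 + ((v 0 + v 1) * b + (v 2 + v 3) * d) • x2) → P (a, b, d)) :
    Nat.card Y ≤ (Finset.univ.filter fun x => x.1 + x.1 ^ 2 = 0 ∧ x.2.2 + x.2.2 ^ 2 = 0 ∧ P x).card := by
  choose a b d h1 h2 h3 using fun y : Y => (h y y.2).1.eq_of_fix (h y y.2).2.1 (h y y.2).2.2
  rw [← Nat.card_eq_finsetCard]
  refine Nat.card_le_card_of_injective (fun y => ⟨(a y, b y, d y), Finset.mem_filter.2
    ⟨Finset.mem_univ _, h1 y, h2 y, hP y y.2 _ _ _ (h3 y)⟩⟩) fun y z e => Subtype.ext (Equiv.ext fun v => ?_)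
  simp only [Subtype.mk.injEq, Prod.mk.injEq] at e
  rw [h3, h3, e.1, e.2.1, e.2.2]

theorem rel_of_comm {t y : P4} {n : ℕ} (ht : IsLin t ∧ n = 1 ∨ IsSemi t ∧ n = 2) (c : Commute t y)
    {a b d : GF4} (e : ∀ v, y v = v + ((v 0 + v 1) * a + (v 2 + v 3) * b ^ 2) • x1 +
      ((v 0 + v 1) * b + (v 2 + v 3) * d) • x2) {α β γ δ : GF4} (h1 : t x1 = α • x1 + β • x2)
    (h2 : t x2 = γ • x1 + δ • x2) : ∃ r s : GF4, α ^ 2 * r + β ^ 2 * s = 1 ∧ γ ^ 2 * r + δ ^ 2 * s = 0 ∧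
      a ^ n * α + b ^ n * γ = r * a + s * b ^ 2 ∧ a ^ n * β + b ^ n * δ = r * b + s * d := by
  have hg : IsGa t := ht.imp (·.1) (·.1)
  have h3 : 𝐡 (t e0) (t x1) = 1 ∧ ∀ (c : GF4) v, t (c • v) = c ^ n • t v := by
    rcases ht with ⟨h, rfl⟩ | ⟨h, rfl⟩ <;> simp [h.form, h.smul, h4_x1, e0]
  have h4 : 𝐡 (t e0) (t x2) = 0 := hg.perp.2 (by simp [h4_x2, e0])
  have h5 := congrArg (· e0) c.eq
  simp only [Equiv.Perm.mul_apply, e, hg.add, h3.2, add_assoc, add_right_inj, h1, h2] at h5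
  replace h3 := h3.1
  simp only [h1, h2, h4_add_right, h4_smul_right, h4_x1, h4_x2] at h3 h4
  exact ⟨_, _, h3, h4, by simpa [x1, x2, e0, add_mul] using congrFun h5 0,
    by simpa [x1, x2, e0, add_mul] using congrFun h5 2⟩

theorem card_elab_two {Y : Subgroup P4} (h : ∀ y ∈ Y, IsGa y ∧ y * y = 1) (hσ : tv x1 * tv x2 ∈ Y) :
    Nat.card Y ≤ 16 := by
  have cm : ∀ x ∈ Y, ∀ y ∈ Y, Commute x y := fun x hx y hy =>
    (inv_eq_of_mul_self (h _ (mul_mem hx hy)).2).symm.trans (by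
      rw [mul_inv_rev, inv_eq_of_mul_self (h x hx).2, inv_eq_of_mul_self (h y hy).2])
  have ns := fun y hy => ns_or_sw (h y hy).1 (cm y hy _ hσ)
  let Y1 := Y ⊓ LG ⊓ (MulAction.stabilizer P4 x1 ⊓ MulAction.stabilizer P4 x2)
  have h1 : ∀ y ∈ Y1, IsLin y ∧ y x1 = x1 ∧ y x2 = x2 := fun y hy => ⟨hy.1.2, hy.2⟩
  have h2 : ∀ y ∈ Y ⊓ LG, Ns y → y ∈ Y1 := fun y hy n => ⟨hy, n.fix hy.2 (h y hy.1).2⟩
  have h3 := card_le_lin fun y hy => (h y hy).1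
  have nz : ∀ t ∈ Y, ∀ (c : GF4) v, t x2 = c • v → c ≠ 0 := fun t ht c v e r =>
    ((h t ht).1.mem x2_mem).1 (by rw [e, r, zero_smul])
  have sw : ∀ t ∈ Y, ∀ n, IsLin t ∧ n = 1 ∨ IsSemi t ∧ n = 2 → Sw t → Nat.card Y1 ≤ 4 * n := by
    rintro t ht n hn ⟨β, γ, e1, e2⟩
    refine (card_le_of_fix h1 (fun x => β ≠ 0 ∧ x.2.1 ^ n * γ = β * x.2.1 ^ 2 ∧ x.1 ^ n * β = β * x.2.2)
      fun y hy a b d e => ?_).trans ?_
    · obtain ⟨r, s, k1, k2, k3, k4⟩ := rel_of_comm hn (cm t ht y hy.1.1) e (α := 0) (β := β) (γ := γ)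
        (δ := 0) (by simpa using e1) (by simpa using e2)
      obtain rfl : r = 0 := by simpa [nz t ht _ _ e2] using k2
      obtain ⟨rfl, k⟩ := (by decide : ∀ β s : GF4, 0 ^ 2 * 0 + β ^ 2 * s = 1 → s = β ∧ β ≠ 0) _ _ k1
      exact ⟨k, by simpa using k3, by simpa using k4⟩
    · have := nz t ht _ _ e2
      clear e1 e2
      rcases hn with ⟨-, rfl⟩ | ⟨-, rfl⟩ <;> revert β γ <;> decide +kernel
  by_cases hs : ∃ t ∈ Y ⊓ LG, Sw t
  · obtain ⟨t, ht, s⟩ := hs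
    have h4 := sw t ht.1 1 (Or.inl ⟨ht.2, rfl⟩) s
    have h5 := card_le_two_mul_of_mul_mem (B := Y1) (A := Y ⊓ LG) inf_le_left fun x hx y hy hx' hy' => by
      obtain ⟨a, b, e1, e2⟩ := (ns x hx.1).resolve_left (mt (h2 x hx) hx')
      obtain ⟨c, d, e3, e4⟩ := (ns y hy.1).resolve_left (mt (h2 y hy) hy')
      exact h2 _ (mul_mem hx hy) ⟨c * b, d * a, by
        simp only [Equiv.Perm.mul_apply, e1, e2, e3, e4, IsLin.smul hx.2, smul_smul, and_self]⟩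
    omega
  have h4 : Y ⊓ LG ≤ Y1 := fun y hy => h2 y hy ((ns y hy.1).resolve_right fun c => hs ⟨y, hy, c⟩)
  by_cases hl : Y ≤ LG
  · exact (card_le_of_le ((le_inf le_rfl hl).trans h4)).trans
      ((card_le_of_fix h1 (fun _ => True) fun _ _ _ _ _ _ => trivial).trans (by decide +kernel))
  obtain ⟨t, ht, hl⟩ := SetLike.not_le_iff_exists.1 hl
  have h5 := card_le_of_le h4
  have h6 := (h t ht).1.resolve_left hl
  suffices Nat.card Y1 ≤ 8 by omega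
  refine (ns t ht).elim (fun ⟨α, δ, e1, e2⟩ => ?_) (sw t ht 2 (Or.inr ⟨h6, rfl⟩))
  refine (card_le_of_fix h1 (fun x => α ≠ 0 ∧ x.2.1 ^ 2 * δ = α * x.2.1) fun y hy a b d e => ?_).trans ?_
  · obtain ⟨r, s, k1, k2, -, k4⟩ := rel_of_comm (Or.inr ⟨h6, rfl⟩) (cm t ht y hy.1.1) e (α := α) (β := 0)
      (γ := 0) (δ := δ) (by simpa using e1) (by simpa using e2)
    obtain rfl : s = 0 := by simpa [nz t ht _ _ e2] using k2
    obtain ⟨rfl, k⟩ := (by decide : ∀ β s : GF4, β ^ 2 * s + 0 ^ 2 * 0 = 1 → s = β ∧ β ≠ 0) _ _ k1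
    exact ⟨k, by simpa using k4⟩
  · have := nz t ht _ _ e2
    clear e1 e2
    revert α δ; decide +kernel

theorem card_elab_le {Y : Subgroup P4} (h : ∀ y ∈ Y, IsGa y ∧ y * y = 1) : Nat.card Y ≤ 16 := by
  by_cases h1 : ∀ y ∈ Y ⊓ LG, y ≠ 1 → ∃ c ∈ uS 4, y = tv c
  · have h2 := card_le_lin fun y hy => (h y hy).1
    have h3 := card_le_two_mul_of_mul_mem (bot_le : ⊥ ≤ Y ⊓ LG) fun x hx y hy hx' hy' => by_contra fun r => by
      obtain ⟨u, hu, rfl⟩ := h1 x hx hx'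
      obtain ⟨v, hv, rfl⟩ := h1 y hy hy'
      obtain ⟨c, hc, e⟩ := h1 _ (mul_mem hx hy) r
      exact tv_mul_ne hu hv hc (perp_of_two_pow hu hv (n := 1) ((pow_two _).trans
        (h _ (mul_mem hx.1 hy.1)).2)) e
    rw [card_bot] at h3
    omega
  push Not at h1
  obtain ⟨y, hy, y1, h1⟩ := h1
  obtain ⟨u, hu, w, hw, h2, h3, rfl⟩ := (IsLin.invol hy.2 (h y hy.1).2 y1).resolve_left
    fun ⟨c, hc, e⟩ => h1 c hc e
  obtain ⟨k, hk, rfl, rfl⟩ := exists_lin_two hu hw h2 h3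
  rw [← card_cj k⁻¹]
  refine card_elab_two (fun y hy => ?_) (mem_cj.2 (by rw [inv_inv, ← conj_two hk.ga]; exact hy.1))
  obtain ⟨z, hz, rfl⟩ := mem_cj_iff_exists.1 hy
  exact ⟨by rw [inv_inv]; exact (h z hz).1.conj hk, by rw [conj_mul, (h z hz).2]; simp⟩

theorem card_iso_le {U : AddSubgroup V4} (h : ∀ u ∈ U, ∀ v ∈ U, bf u v = 0) : Nat.card U ≤ 16 := by
  let f : V4 →+ V4 →+ ZMod 2 := AddMonoidHom.mk' (fun u => AddMonoidHom.mk' (fun v => (bf u v).re)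
    fun v w => by rw [bf_add_right]; rfl) fun u v => AddMonoidHom.ext fun w => by
      simp only [AddMonoidHom.mk'_apply, AddMonoidHom.add_apply, bf_add_left]; rfl
  let B : LinearMap.BilinForm (ZMod 2) V4 :=
    ((AddMonoidHom.toZModLinearMapEquiv 2).toAddMonoidHom.comp f).toZModLinearMap 2
  have h1 := LinearMap.BilinForm.finrank_add_finrank_orthogonal' (B := B) (U.toZModSubmodule 2)
  have h2 := Submodule.finrank_mono (show U.toZModSubmodule 2 ≤ B.orthogonal (U.toZModSubmodule 2) from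
    fun u hu v hv => congrArg QuadraticAlgebra.re (h v hv u hu))
  rw [LinearMap.ker_eq_bot'.2 fun u e => eq_zero_of_bf fun v => (bf_cases v u).resolve_right fun r =>
    one_ne_zero ((congrArg QuadraticAlgebra.re ((bf_comm _ _).trans r)).symm.trans (LinearMap.congr_fun e v)),
    inf_bot_eq, finrank_bot, Module.finrank_pi_fintype] at h1
  simp only [QuadraticAlgebra.finrank_eq_two, Finset.sum_const, Finset.card_univ, Fintype.card_fin] at h1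
  refine (Module.natCard_eq_pow_finrank (K := ZMod 2) (V := U.toZModSubmodule 2)).trans_le ?_
  rw [Nat.card_zmod]
  exact (Nat.pow_le_pow_right two_pos (by simp at h1; omega)).trans (by norm_num : 2 ^ 4 ≤ 16)

end Cfsg.Agent.F6
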