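import Mathlib
import Cfsg.Agent.F6.Lin

/-! Strong closure of `J / Z` in `C(Z) / Z`. -/

set_option autoImplicit false
set_option linter.unusedSectionVars false

namespace Cfsg.Agent.F6

open Subgroup Cfsg.Agent.Class TT TT.UQ U6R ZJ Cfsg.Agent.PLocal.Amb

theorem pair_aux : ∀ a b c d : GF4, tf x1 (tf x2 e0) = tf (a • x1 + b • x2) (tf (c • x1 + d • x2) e0) →
    tf x1 (tf x2 e2) = tf (a • x1 + b • x2) (tf (c • x1 + d • x2) e2) → a = 0 ∨ b = 0 := by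
  decide +kernel

theorem tv_pair {p q r s : V4} (hp : p ∈ uS 4) (hq : q ∈ uS 4) (hr : r ∈ uS 4) (hs : s ∈ uS 4)
    (h1 : 𝐡 q p = 0) (h2 : tv p ≠ tv q) (h3 : 𝐡 s r = 0) (e : tv p * tv q = tv r * tv s) :
    tv r = tv p ∨ tv r = tv q := by
  obtain ⟨k, hk, rfl, rfl⟩ := exists_lin_two hp hq h1 fun a e => h2 ((tv_eq_iff hq hp).2 ⟨a, e⟩).symm
  obtain ⟨r, rfl⟩ := k.surjective r
  obtain ⟨s, rfl⟩ := k.surjective s
  rw [hk.form] at h3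
  replace hr : r ∈ uS 4 := by simpa using hk.inv.ga.mem hr
  replace hs : s ∈ uS 4 := by simpa using hk.inv.ga.mem hs
  simp only [← hk.ga.conj_tv x1_mem, ← hk.ga.conj_tv x2_mem, ← hk.ga.conj_tv hr, ← hk.ga.conj_tv hs,
    conj_mul, conj_inj] at e ⊢
  have f : ∀ v, 𝐡 v r = 0 → 𝐡 v s = 0 → v = v 0 • x1 + v 2 • x2 := fun v a b => by
    have := exists_two (v := v) (by
      rw [e, Equiv.Perm.mul_apply, tv_of_perp hs b, tv_of_perp hr a])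
    exact eq_of_perp this.1 this.2.1
  have e1 := f r hr.2 (h4_eq_zero_comm.1 h3)
  have e2' := f s h3 hs.2
  have g := fun v => DFunLike.congr_fun e v
  simp only [Equiv.Perm.mul_apply, tv_eq_tf x1_mem, tv_eq_tf x2_mem, tv_eq_tf hr, tv_eq_tf hs] at g
  rw [e1, e2'] at g
  rcases pair_aux _ _ _ _ (g e0) (g e2) with c | c <;> rw [c, zero_smul] at e1
  · exact .inr ((tv_eq_iff hr x2_mem).2 ⟨_, e1.trans (zero_add _)⟩)
  · exact .inl ((tv_eq_iff hr x1_mem).2 ⟨_, e1.trans (add_zero _)⟩)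

theorem h4_line {u v : V4} (hu : u ∈ uS 4) (hv : v ∈ uS 4) (h : 𝐡 v u = 0) (a b : GF4) :
    𝐡 (a • u + b • v) u = 0 ∧ 𝐡 (a • u + b • v) v = 0 := by
  simp only [h4_add_left, h4_smul_left, h, h4_eq_zero_comm.1 h, show 𝐡 u u = 0 from hu.2,
    show 𝐡 v v = 0 from hv.2, mul_zero, add_zero, and_self]

theorem h4_line' {u v w : V4} (h1 : 𝐡 w u = 0) (h2 : 𝐡 w v = 0) (a b : GF4) :
    𝐡 w (a • u + b • v) = 0 := by
  simp only [h4_add_right, h4_smul_right, h1, h2, mul_zero, add_zero]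

theorem same_point {u p v : V4} (hu : u ∈ uS 4) (hp : p ∈ uS 4) (h : 𝐡 p u = 0) (h1 : 𝐡 v u = 0)
    (h2 : 𝐡 v p = 0) (h3 : 𝐡 v v ≠ 0) : tv p = tv u := by
  by_contra n
  have hn : ∀ s : GF4, p ≠ s • u := fun a e => n ((tv_eq_iff hp hu).2 ⟨a, e⟩)
  obtain ⟨a, b, e⟩ := (fix_two hu hp h hn v).1.1 (by
    rw [Equiv.Perm.mul_apply, tv_of_perp hp h2, tv_of_perp hu h1])
  exact h3 (by nth_rewrite 2 [e]; exact h4_line' h1 h2 a b)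

theorem exists_second {u : V4} (hu : u ∈ uS 4) : ∃ v ∈ uS 4, 𝐡 v u = 0 ∧ ∀ s : GF4, v ≠ s • u := by
  obtain ⟨k, hk, rfl⟩ := exists_lin_one hu
  refine ⟨k x2, hk.ga.mem x2_mem, by rw [hk.form, h4_x1]; decide, fun s e => ?_⟩
  rw [← hk.smul, k.apply_eq_iff_eq] at e
  revert s; decide

theorem exists_split {u w : V4} (hu : u ∈ uS 4) (h : 𝐡 w u = 0) :
    ∃ p q, w = p + q ∧ 𝐡 p p = 0 ∧ 𝐡 q q = 0 ∧ 𝐡 p u = 0 ∧ 𝐡 q u = 0 := by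
  obtain ⟨k, hk, rfl⟩ := exists_lin_one hu
  obtain ⟨w, rfl⟩ := k.surjective w
  rw [hk.form] at h
  obtain ⟨β, γ, e1, e2⟩ := (by decide +kernel : ∀ a b c : GF4, ∃ β γ : GF4,
    hd ![0, 0, β, γ] ![0, 0, β, γ] = 0 ∧
      hd (![a, a, b, c] + ![0, 0, β, γ]) (![a, a, b, c] + ![0, 0, β, γ]) = 0) (w 0) (w 2) (w 3)
  rw [← eq_of_perp_x1 h] at e2
  have e3 : 𝐡 ![0, 0, β, γ] x1 = 0 := by rw [h4_x1]; simp
  exact ⟨k (w + ![0, 0, β, γ]), k ![0, 0, β, γ], by rw [← hk.add, v4_add_add'],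
    by rwa [hk.form, h4_eq_hd], by rwa [hk.form, h4_eq_hd],
    by rw [hk.form, h4_add_left, h, e3, add_zero], by rwa [hk.form]⟩

variable {G : Type*} [Group G] {Z J J' : Subgroup G} {z d : G} {π π' : G → V4} {ρ ρ' : G → P4}

/-- what is used about the class of `d` -/
structure DS (Z J : Subgroup G) (z d : G) (π : G → V4) (ρ : G → P4) : Prop
    extends JM Z J z d π ρ where
  lin : ∀ g ∈ 𝐍[J], CZ Z g → IsLin (ρ g)
  dJ' : ∀ t ∈ J, IsConj d t → t ∈ Z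
  dM : ∀ t ∈ 𝐍[J], IsConj d t → t ∉ J → ∃ c ∈ uS 4, ρ t = tv c ∧ CZ Z t ∧
    (∀ x ∈ J, 𝐡 (π x) c = 0 → Commute x t) ∧ ∀ x ∈ J, IsConj d (t * x) → ∃ k ∈ J, k * t * k⁻¹ = t * x

/-- the preimage of a point -/
def JM.F (h : JM Z J z d π ρ) (u : V4) : Subgroup G where
  carrier := {x | x ∈ J ∧ ∃ s : GF4, π x = s • u}
  one_mem' := ⟨one_mem _, 0, by rw [h.pi_one, zero_smul]⟩
  mul_mem' := fun ⟨h1, a, e⟩ ⟨h2, b, e'⟩ =>
    ⟨mul_mem h1 h2, a + b, by rw [h.add _ h1 _ h2, e, e', add_smul]⟩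
  inv_mem' := fun ⟨h1, a, e⟩ => ⟨inv_mem h1, a, by rw [h.pi_inv h1, e]⟩

theorem JM.ZF (h : JM Z J z d π ρ) (u : V4) : Z ≤ h.F u := fun _ hx =>
  ⟨h.le hx, 0, by rw [h.pi_Z hx, zero_smul]⟩

theorem JM.F_le (h : JM Z J z d π ρ) {u : V4} {p q : G} {a b : GF4} (hp : p ∈ J) (hq : q ∈ J)
    (e1 : π p = a • u) (e2 : π q = b • u) (a0 : a ≠ 0) (b0 : b ≠ 0) (ab : a ≠ b) {K : Subgroup G}
    (hZ : Z ≤ K) (pK : p ∈ K) (qK : q ∈ K) : h.F u ≤ K := fun x ⟨hx, s, e⟩ => by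
  rcases (by decide : ∀ a b s : GF4, a ≠ 0 → b ≠ 0 → a ≠ b → s = 0 ∨ s = a ∨ s = b ∨ s = a + b)
    a b s a0 b0 ab with rfl | rfl | rfl | rfl
  · exact hZ ((h.ker x hx).1 (e.trans (zero_smul _ _)))
  · exact (K.mul_mem_cancel_left (inv_mem pK)).1 (hZ (h.mem_of_pi hp hx (e1.trans e.symm)))
  · exact (K.mul_mem_cancel_left (inv_mem qK)).1 (hZ (h.mem_of_pi hq hx (e2.trans e.symm)))
  · exact (K.mul_mem_cancel_left (inv_mem (mul_mem pK qK))).1 (hZ (h.mem_of_pi (mul_mem hp hq) hx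
      (by rw [h.add _ hp _ hq, e1, e2, e, add_smul])))

/-- preimages under `ρ` -/
def JM.pre (h : JM Z J z d π ρ) (Y : Subgroup P4) : Subgroup G := (Y.comap h.hom).map (𝐍[J]).subtype

theorem JM.mem_pre (h : JM Z J z d π ρ) {Y : Subgroup P4} {x : G} :
    x ∈ h.pre Y ↔ x ∈ 𝐍[J] ∧ ρ x ∈ Y :=
  ⟨fun ⟨y, hy, e⟩ => e ▸ ⟨y.2, hy⟩, fun ⟨h1, h2⟩ => ⟨⟨x, h1⟩, h2, rfl⟩⟩

theorem JM.mem_of_eq (h : JM Z J z d π ρ) {S : Subgroup G} (hS : IsPGroup 2 S) (hM : S ≤ 𝐍[J])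
    {x y : G} (hx : x ∈ S) (hy : y ∈ S) (e : ρ x = ρ y) : x * y⁻¹ ∈ J :=
  (isPGroup_iff.1 hS _ (mul_mem hx (inv_mem hy))).elim (h.triv _ (hM (mul_mem hx (inv_mem hy))) (by
    rw [h.rho_mul (hM hx) (inv_mem (hM hy)), h.rho_inv (hM hy), e, mul_inv_cancel]))

theorem JM.sqZ (h : JM Z J z d π ρ) {x : G} (hx : x ∈ J) : x * x ∈ Z :=
  (h.sq x hx).elim (fun e => e ▸ one_mem _) fun e => e ▸ h.zZ

theorem JM.commZ (h : JM Z J z d π ρ) {x y : G} (hx : x ∈ J) (hy : y ∈ J) : x * y * x⁻¹ * y⁻¹ ∈ Z :=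
  (h.ker _ (mul_mem (mul_mem (mul_mem hx hy) (inv_mem hx)) (inv_mem hy))).1 (by
    rw [h.pi_comm (le_normalizer hx) hy, h.rho_of_mem hx]; exact v4_add_self _)

namespace DS

variable (h : DS Z J z d π ρ)
include h

theorem conj {g : G} (hg : CZ Z g) :
    DS Z cj(g, J) z d (fun x => π (g⁻¹ * x * g)) fun x => ρ (g⁻¹ * x * g) := by
  have h1 := h.toJM.conj g
  rw [cj_of_mem_normalizer (centralizer_le_normalizer' _ (cz_iff.2 hg)),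
    conj_eq_of_commute (hg z h.zZ), conj_eq_of_commute (hg d h.dZ)] at h1
  have c5 : ∀ x, x ∈ 𝐍[cj(g, J)] → g⁻¹ * x * g ∈ 𝐍[J] := fun x hx => by
    rwa [normalizer_cj, mem_cj] at hx
  have c6 : ∀ {t}, IsConj d t → IsConj d (g⁻¹ * t * g) := fun ht =>
    ht.trans (isConj_iff.2 ⟨g⁻¹, by rw [inv_inv]⟩)
  refine ⟨h1, fun x hx c => h.lin _ (c5 x hx) ((hg.inv.mul c).mul hg), fun t ht c => ?_,
    fun t ht c n => ?_⟩
  · simpa [mul_assoc] using conj_mem_of_mem_normalizer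
      (centralizer_le_normalizer' _ (cz_iff.2 hg)) (h.dJ' _ (mem_cj.1 ht) (c6 c))
  obtain ⟨p, hp, e, h2, h3, h4⟩ := h.dM _ (c5 t ht) (c6 c) (mt mem_cj.2 n)
  refine ⟨p, hp, e, by simpa [mul_assoc] using (hg.mul h2).mul hg.inv, fun x hx e => by
    simpa using (commute_conj_iff' g⁻¹ x t).1 (by simpa using h3 _ (mem_cj.1 hx) e),
    fun x hx c => ?_⟩
  obtain ⟨k, hk, e⟩ := h4 _ (mem_cj.1 hx) (by convert c6 c using 1; group)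
  exact ⟨_, conj_mem_cj g hk, by
    rw [show g * k * g⁻¹ * t * (g * k * g⁻¹)⁻¹ = g * (k * (g⁻¹ * t * g) * k⁻¹) * g⁻¹ by group, e]
    group⟩

theorem dsq {t : G} (ht : IsConj d t) : t * t = 1 := by
  obtain ⟨g, rfl⟩ := isConj_iff.1 ht
  rw [conj_mul, h.dd]; simp

variable {s t : G} {u v : V4}

theorem not_mem (hu : u ∈ uS 4) (e : ρ s = tv u) : s ∉ J := fun c =>
  tv_ne_one hu (e.symm.trans (h.rho_of_mem c))

theorem ovr (hs : s ∈ 𝐍[J]) (c : IsConj d s) (hu : u ∈ uS 4) (e : ρ s = tv u) :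
    CZ Z s ∧ ∀ x ∈ J, 𝐡 (π x) u = 0 → Commute x s := by
  obtain ⟨p, hp, e', h1, h2, -⟩ := h.dM s hs c (h.not_mem hu e)
  obtain ⟨a, rfl⟩ := (tv_eq_iff hp hu).1 (e'.symm.trans e)
  exact ⟨h1, fun x hx f => h2 x hx (by rw [h4_smul_right, f, mul_zero])⟩

theorem pair (hs : s ∈ 𝐍[J]) (c : IsConj d s) (hu : u ∈ uS 4) (e : ρ s = tv u) (c' : IsConj d t)
    (hJ : s * t ∈ J) (ne : s ≠ t) : ∃ a : GF4, a ≠ 0 ∧ π (s * t) = a • u := by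
  obtain ⟨p, -, -, -, -, h2⟩ := h.dM s hs c (h.not_mem hu e)
  have s2 := h.dsq c
  obtain ⟨k, hk, e'⟩ := h2 _ hJ (by rwa [← mul_assoc, s2, one_mul])
  rw [← mul_assoc, s2, one_mul] at e'
  refine ⟨𝐡 (π k) u, fun f => ne (e' ▸ (conj_eq_of_commute ((h.ovr hs c hu e).2 k hk f)).symm), ?_⟩
  have := h.pi_comm hs hk
  rw [e, tv_apply hu, add_right_comm, v4_add_self, zero_add, inv_eq_of_mul_self s2] at this
  rw [← this, ← e', mul_assoc s, mul_assoc s]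

/-- the block lemma -/
theorem block {B : Subgroup G} (hB : B ≤ 𝐍[J]) (sq : ∀ x ∈ B, x * x = 1) {f₀ f₁ f₂ f₃ : G}
    (h0 : f₀ ∈ B ∧ IsConj d f₀ ∧ f₀ ∉ Z) (h1 : f₁ ∈ B ∧ IsConj d f₁ ∧ f₁ ∉ Z)
    (h2 : f₂ ∈ B ∧ IsConj d f₂ ∧ f₂ ∉ Z) (h3 : f₃ ∈ B ∧ IsConj d f₃ ∧ f₃ ∉ Z) (n02 : f₀ ≠ f₂)
    (n13 : f₁ ≠ f₃) (n12 : f₁ ≠ f₂) (n03 : f₀ ≠ f₃) (e : f₀ * f₁ * (f₂ * f₃) = z) : ρ f₀ = ρ f₁ := by
  have ex : ∀ {f}, f ∈ B ∧ IsConj d f ∧ f ∉ Z → ∃ c ∈ uS 4, ρ f = tv c := fun hf =>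
    (h.dM _ (hB hf.1) hf.2.1 fun c => hf.2.2 (h.dJ' _ c hf.2.1)).imp fun _ c => ⟨c.1, c.2.1⟩
  have mul : ∀ {x y}, x ∈ B → y ∈ B → ρ (x * y) = ρ x * ρ y := fun hx hy => h.rho_mul (hB hx) (hB hy)
  have pp : ∀ {x y p q}, x ∈ B → y ∈ B → p ∈ uS 4 → q ∈ uS 4 → ρ x = tv p → ρ y = tv q → 𝐡 q p = 0 :=
    fun hx hy hp hq e e' => perp_of_two_pow hp hq (n := 1) (by
      rw [pow_one, pow_two, ← e, ← e', ← mul hx hy, ← mul (mul_mem hx hy) (mul_mem hx hy),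
        sq _ (mul_mem hx hy), h.rho_one])
  have key : ∀ {a b c e p q}, a ∈ B ∧ IsConj d a ∧ a ∉ Z → b ∈ B ∧ IsConj d b ∧ b ∉ Z →
      c ∈ B ∧ IsConj d c ∧ c ∉ Z → e ∈ B ∧ IsConj d e ∧ e ∉ Z → a ≠ b → c ≠ e → p ∈ uS 4 → q ∈ uS 4 →
      ρ a = tv p → ρ b = tv p → ρ c = tv q → a * b * (c * e) = z → tv p = tv q :=
      fun {a b c e p q} ha hb hc he n n' hp hq e1 e2 e3 e4 => by
    have j1 := h.triv _ (hB (mul_mem ha.1 hb.1)) (by rw [mul ha.1 hb.1, e1, e2, tv_mul_self hp]) 1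
      (by rw [pow_one, pow_two, sq _ (mul_mem ha.1 hb.1)])
    have j2 := (J.mul_mem_cancel_left j1).1 (e4 ▸ h.zJ)
    obtain ⟨x, x0, f1⟩ := h.pair (hB ha.1) ha.2.1 hp e1 hb.2.1 j1 n
    obtain ⟨y, -, f2⟩ := h.pair (hB hc.1) hc.2.1 hq e3 he.2.1 j2 n'
    have := h.pi_Z h.zZ
    rw [← e4, h.add _ j1 _ j2, f1, f2] at this
    exact (tv_eq_iff hp hq).2 ⟨x⁻¹ * y, by rw [mul_smul, ← v4_eq_of_add this, inv_smul_smul₀ x0]⟩
  obtain ⟨p, hp, e0⟩ := ex h0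
  obtain ⟨q, hq, e1⟩ := ex h1
  obtain ⟨r, hr, e2⟩ := ex h2
  obtain ⟨w, hw, e3⟩ := ex h3
  have c := fun {x y} => comm_of_sq_eq_one sq (a := x) (b := y)
  by_contra n
  rw [e0, e1] at n
  have e4 := h.rho_of_mem h.zJ
  rw [← e, mul (mul_mem h0.1 h1.1) (mul_mem h2.1 h3.1), c h2.1 h3.1, mul h0.1 h1.1, mul h3.1 h2.1,
    e0, e1, e2, e3, mul_eq_one_iff_eq_inv, mul_inv_rev, tv_inv hr, tv_inv hw] at e4
  rcases tv_pair hp hq hr hw (pp h0.1 h1.1 hp hq e0 e1) n (pp h2.1 h3.1 hr hw e2 e3) e4 with f | f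
  · exact n (key h0 h2 h1 h3 n02 n13 hp hq e0 (e2.trans f) e1 (by
      rw [← e, (Commute.mul_mul_mul_comm (c h1.1 h2.1) ..)]))
  · exact n (key h1 h2 h0 h3 n12 n03 hq hp e1 (e2.trans f) e0 (by
      rw [← e, c h0.1 h1.1, (Commute.mul_mul_mul_comm (c h0.1 h2.1) ..)])).symm

theorem F_comm (hu : u ∈ uS 4) {x y : G} (hx : x ∈ h.F u) (hy : y ∈ J) (e : 𝐡 (π y) u = 0) :
    Commute y x := by
  obtain ⟨h1, a, f⟩ := hx
  exact (h.comm' y hy x h1).2 (bf_of_h4 (by rw [f, h4_smul_right, e, mul_zero]))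

theorem F_perp (hu : u ∈ uS 4) (e : 𝐡 u v = 0) {x : G} (hx : x ∈ h.F u) : 𝐡 (π x) v = 0 := by
  obtain ⟨-, a, f⟩ := hx
  rw [f, h4_smul_left, e, mul_zero]

theorem F_eq (h' : DS Z J' z d π' ρ') (hs : s ∈ 𝐍[J]) (c : IsConj d s) (hu : u ∈ uS 4)
    (e : ρ s = tv u) (hs' : s ∈ 𝐍[J']) (hF : h.F u ≤ 𝐍[J']) :
    ∃ u' ∈ uS 4, ρ' s = tv u' ∧ h.F u = h'.F u' := by
  have s2 := h.dsq c
  have sJ := h.not_mem hu e
  have cs : ∀ x ∈ h.F u, Commute x s := fun x hx => (h.ovr hs c hu e).2 x hx.1 (h.F_perp hu hu.2 hx)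
  have sq : ∀ x ∈ h.F u, x * x = 1 := fun x hx => (h.sq' x hx.1).2 (by
    obtain ⟨h1, a, f⟩ := hx
    rw [f, h4_smul_left, h4_smul_right, hu.2, mul_zero, mul_zero])
  have ex : ∀ a : GF4, ∃ k ∈ J, 𝐡 (π k) u = a ∧ ∃ x ∈ J, π x = a • u ∧ k * s * k⁻¹ = s * x :=
      fun a => by
    obtain ⟨w, hw⟩ := exists_h4_eq hu.1 a
    obtain ⟨k, hk, rfl⟩ := h.surj w
    refine ⟨k, hk, hw, _, mul_mem (conj_mem_of_mem_normalizer hs hk) (inv_mem hk), ?_, ?_⟩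
    · rw [h.pi_comm hs hk, e, tv_apply hu, add_right_comm, v4_add_self, zero_add, hw]
    · simp only [← mul_assoc, s2, one_mul, inv_eq_of_mul_self s2]
  obtain ⟨k, hk, k1, x, hx, ex1, f1⟩ := ex 1
  obtain ⟨l, -, -, y, hy, ex2, f2⟩ := ex om
  have xF : x ∈ h.F u := ⟨hx, _, ex1⟩
  have yF : y ∈ h.F u := ⟨hy, _, ex2⟩
  have wF := mul_mem xF (mul_mem yF (h.ZF u h.zZ))
  have ex3 : π (x * (y * z)) = (1 + om) • u := by
    rw [h.add _ hx _ (mul_mem hy h.zJ), h.add _ hy _ h.zJ, h.pi_Z h.zZ, add_zero, ex1, ex2, add_smul]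
  have f3 : k * (l * s * l⁻¹) * k⁻¹ = s * (x * (y * z)) := by
    rw [f2, ← conj_mul, f1, h.conj_of_ne hk hy fun c => absurd ((h.comm' k hk y hy).1 c) (by
      rw [bf_eq, ex2, h4_smul_right, k1]; decide), mul_assoc]
  have nB : zpowers s ≤ 𝐍[h.F u] := zpowers_le.2 (centralizer_le_normalizer' _
    (mem_centralizer_iff.2 cs))
  have sqB : ∀ b ∈ zpowers s ⊔ h.F u, b * b = 1 := fun b hb => by
    obtain ⟨_, ⟨n, rfl⟩, w, hw, rfl⟩ := (mem_sup_of_le_normalizer_right nB).1 hb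
    rw [((cs w hw).zpow_right n).mul_mul_mul_comm, sq w hw, ← (Commute.refl s).mul_zpow, s2,
      one_zpow, one_mul]
  have m : ∀ w ∈ h.F u, IsConj d (s * w) → s * w ∈ zpowers s ⊔ h.F u ∧ IsConj d (s * w) ∧ s * w ∉ Z :=
    fun w hw c => ⟨mul_mem_sup (mem_zpowers s) hw, c,
      fun f => sJ ((J.mul_mem_cancel_right hw.1).1 (h.le f))⟩
  have ne : ∀ {p q : G} {a b : GF4}, π p = a • u → π q = b • u → a ≠ b → s * p ≠ s * q :=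
    fun e1 e2 n f => n (smul_left_injective GF4 hu.1 (by
      rw [mul_left_cancel f] at e1; exact e1.symm.trans e2))
  have ex0 : π 1 = (0 : GF4) • u := by rw [h.pi_one, zero_smul]
  have m0 := m 1 (one_mem _) (by rwa [mul_one])
  have m1 := m x xF (f1 ▸ c.trans (isConj_of k s))
  have m2 := m y yF (f2 ▸ c.trans (isConj_of l s))
  have m3 := m _ wF (f3 ▸ (c.trans (isConj_of l s)).trans (isConj_of k _))
  have hB := sup_le (zpowers_le.2 hs') hF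
  have pr : ∀ p ∈ h.F u, ∀ q ∈ h.F u, s * p * (s * q) = p * q := fun p hp q hq => by
    rw [(cs p hp).mul_mul_mul_comm, s2, one_mul]
  have cxy := comm_of_sq_eq_one sq xF yF
  have b1 := h'.block hB sqB m0 m1 m2 m3 (ne ex0 ex2 (by decide)) (ne ex1 ex3 (by decide))
    (ne ex1 ex2 (by decide)) (ne ex0 ex3 (by decide)) (by
      rw [pr 1 (one_mem _) x xF, pr y yF _ wF, one_mul, ← mul_assoc y, ← cxy, mul_assoc x, ← mul_assoc y,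
        sq y yF, one_mul, ← mul_assoc, sq x xF, one_mul])
  have b2 := h'.block hB sqB m0 m2 m1 m3 (ne ex0 ex1 (by decide)) (ne ex2 ex3 (by decide))
    (ne ex2 ex1 (by decide)) (ne ex0 ex3 (by decide)) (by
      rw [pr 1 (one_mem _) y yF, pr x xF _ wF, one_mul, ← mul_assoc x, sq x xF, one_mul, ← mul_assoc,
        sq y yF, one_mul])
  obtain ⟨u', hu', e', -⟩ := h'.dM s hs' c fun f => sJ (h.le (h'.dJ' s f c))
  have fin : ∀ w ∈ h.F u, IsConj d (s * w) → ρ' (s * 1) = ρ' (s * w) → s * 1 ≠ s * w →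
      w ∈ J' ∧ ∃ a : GF4, a ≠ 0 ∧ π' w = a • u' := fun w hw c' f n => by
    rw [mul_one] at f n
    have j := h'.triv w (hF hw) (by rwa [h'.rho_mul hs' (hF hw), left_eq_mul] at f) 1
      (by rw [pow_one, pow_two, sq w hw])
    have := h'.pair hs' c hu' e' c' (by rwa [← mul_assoc, s2, one_mul]) n
    exact ⟨j, by rwa [← mul_assoc, s2, one_mul] at this⟩
  obtain ⟨xJ, a, a0, g1⟩ := fin x xF m1.2.1 b1 (ne ex0 ex1 (by decide))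
  obtain ⟨yJ, b, b0, g2⟩ := fin y yF m2.2.1 b2 (ne ex0 ex2 (by decide))
  refine ⟨u', hu', e', le_antisymm (h.F_le hx hy ex1 ex2 (by decide) (by decide) (by decide)
    (h'.ZF u') ⟨xJ, a, g1⟩ ⟨yJ, b, g2⟩) (h'.F_le xJ yJ g1 g2 a0 b0 (fun f => ?_) (h.ZF u) xF yF)⟩
  have := h.pi_Z (h'.mem_of_pi xJ yJ (by rw [g1, g2, f]))
  rw [h.add _ (inv_mem hx) _ hy, h.pi_inv hx, ex1, ex2] at this
  exact absurd (smul_left_injective GF4 hu.1 (v4_eq_of_add this)) (by decide)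

end DS

end Cfsg.Agent.F6
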