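import Mathlib
import Cfsg.Agent.F6.CenB
import Cfsg.Agent.Lyons.Tools

/-! Strong closure of `J / Z` in `C(Z) / Z`, second part. -/

set_option autoImplicit false
set_option linter.unusedSectionVars false

namespace Cfsg.Agent.F6

open Subgroup Cfsg.Agent.Class TT TT.UQ U6R ZJ Cfsg.Agent.PLocal.Amb

theorem perp_of_fix {u v : V4} (hu : u ∈ uS 4) (e : tv u v = v) : 𝐡 v u = 0 := by
  rw [tv_apply hu, add_eq_left] at e
  exact (smul_eq_zero.1 e).resolve_right hu.1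

theorem sing_of_fix {u v w : V4} (hu : u ∈ uS 4) (hv : v ∈ uS 4) (h : 𝐡 v u = 0)
    (hn : ∀ s : GF4, v ≠ s • u) (e : (tv u * tv v) w = w) : 𝐡 w w = 0 := by
  obtain ⟨a, b, rfl⟩ := (fix_two hu hv h hn w).1.1 e
  exact h4_line' (h4_line hu hv h a b).1 (h4_line hu hv h a b).2 a b

theorem tv_commute {u v : V4} (hu : u ∈ uS 4) (hv : v ∈ uS 4) (h : 𝐡 v u = 0) :
    Commute (tv u) (tv v) := commute_of_conj_eq (by rw [tv_inv hu, tv_comm hu hv h])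

variable {G : Type*} [Group G] [Finite G] {Z J : Subgroup G} {z d : G} {π : G → V4} {ρ : G → P4}

theorem JM.fix_of_sq (h : JM Z J z d π ρ) {j s : G} (hj : j ∈ J) (hs : s ∈ 𝐍[J]) (s2 : s * s = 1)
    (e : j * s * (j * s) ∈ Z) : ρ s (π j) = π j := by
  have := h.pi_Z e
  rw [show j * s * (j * s) = j * (s * j * s⁻¹) by rw [inv_eq_of_mul_self s2]; group,
    h.add _ hj _ (conj_mem_of_mem_normalizer hs hj), h.act s hs j hj] at this
  exact (v4_eq_of_add this).symm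

theorem JM.fix_of_comm (h : JM Z J z d π ρ) {g x : G} (hg : g ∈ 𝐍[J]) (hx : x ∈ J)
    (e : g * x * g⁻¹ * x⁻¹ ∈ Z) : ρ g (π x) = π x :=
  v4_eq_of_add ((h.pi_comm hg hx).symm.trans (h.pi_Z e))

/-- the class of `d` and weak closure -/
structure DW (Z J : Subgroup G) (z d : G) (π : G → V4) (ρ : G → P4) : Prop
    extends DS Z J z d π ρ where
  wc : ∀ P : Subgroup G, IsPGroup 2 P → ∀ g k : G, cj(g, J) ≤ P → cj(k, J) ≤ P → cj(g, J) = cj(k, J)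
  ex : ∀ c ∈ uS 4, ∃ t ∈ 𝐍[J], IsConj d t ∧ ρ t = tv c
  cm : ∀ s t, IsConj d s → IsConj d t → ∀ n : ℕ, (s * t) ^ 2 ^ n = 1 → Commute s t

namespace DW

variable (h : DW Z J z d π ρ) {g y s t j : G} {u v : V4} {S : Subgroup G}
include h

theorem lift1 (hS : IsPGroup 2 S) (hv : v ∈ uS 4) : ∃ P : Subgroup G, IsPGroup 2 P ∧ P ≤ 𝐍[J] ∧
    J ≤ P ∧ (∀ x ∈ S, x ∈ 𝐍[J] → Commute (ρ x) (tv v) → x ∈ P) ∧
      ∃ t ∈ P, IsConj d t ∧ ρ t = tv v := by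
  have m : ∀ {x}, x ∈ h.pre (centralizer {tv v}) ↔ x ∈ 𝐍[J] ∧ Commute (ρ x) (tv v) := by
    intro x; rw [h.mem_pre, mem_centralizer_singleton_iff]; rfl
  obtain ⟨P, hP, le⟩ := exists_isSyl_ge (hS.to_inf_left (K := h.pre (centralizer {tv v})))
    inf_le_right
  have hM : P ≤ 𝐍[J] := fun x hx => (m.1 (hP.le hx)).1
  obtain ⟨t, ht, c, e⟩ := h.ex v hv
  obtain ⟨g, hg, f⟩ := Lyons.exists_conj_mem hP (m.2 ⟨ht, e ▸ Commute.refl _⟩) (k := 1)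
    (by rw [pow_one, pow_two, h.dsq c])
  exact ⟨P, hP.pgrp, hM, hP.le_of_le_normalizer h.isPGroup (fun x hx => m.2 ⟨le_normalizer hx, by
    rw [h.rho_of_mem hx]; exact Commute.one_left _⟩) hM, fun x h1 h2 h3 => le ⟨h1, m.2 ⟨h2, h3⟩⟩,
    _, f, c.trans (isConj_of g t), by
      rw [h.rho_conj (m.1 hg).1 ht, e, conj_eq_of_commute (m.1 hg).2]⟩

theorem exists_J' (hS : IsPGroup 2 S) (hg : CZ Z g) (hy : y ∈ cj(g, J)) :
    ∃ k, CZ Z k ∧ y ∈ cj(k, J) ∧ ∀ b ∈ S, CZ Z b → b * y * b⁻¹ * y⁻¹ ∈ Z → b ∈ 𝐍[cj(k, J)] := by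
  let X : Subgroup G :=
    { carrier := {c | CZ Z c ∧ c * y * c⁻¹ * y⁻¹ ∈ Z}
      one_mem' := ⟨fun _ _ => Commute.one_left _, by simp⟩
      mul_mem' := fun {a b} ⟨h1, h2⟩ ⟨h3, h4⟩ => ⟨h1.mul h3, by
        have := mul_mem h4 h2
        rw [← conj_eq_of_commute (h1 _ h4)] at this
        convert this using 1; group⟩
      inv_mem' := fun {a} ⟨h1, h2⟩ => ⟨h1.inv, by
        have := inv_mem h2
        rw [← conj_eq_of_commute (h1.inv _ this)] at this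
        convert this using 1; group⟩ }
  obtain ⟨P, hP, le⟩ := exists_isSyl_ge (hS.to_inf_left (K := X)) inf_le_right
  have h1 := h.toDS.conj hg
  obtain ⟨c, hc, f⟩ := hP.exists_cj_le h1.isPGroup fun x hx => ⟨h1.cz hx, h1.commZ hx hy⟩
  rw [← cj_mul] at f
  refine ⟨c * g, hc.1.mul hg, ?_, fun b hb h2 h3 => cj_eq_iff.1 ?_⟩
  · have := (h.toDS.conj (hc.1.mul hg)).le hc.2
    rw [Subgroup.mul_mem_cancel_left _ (by rw [cj_mul]; exact conj_mem_cj c hy)] at this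
    exact inv_mem_iff.1 this
  · rw [← cj_mul]
    exact h.wc P hP.pgrp _ _ (by rw [cj_mul]; exact cj_le_of_mem f (le ⟨hb, h2, h3⟩)) f

theorem sett (hS : IsPGroup 2 S) (hM : S ≤ 𝐍[J]) (hJ : J ≤ S) (hs : s ∈ S) (ht : t ∈ S)
    (cs : IsConj d s) (ct : IsConj d t) (hu : u ∈ uS 4) (hv : v ∈ uS 4) (es : ρ s = tv u)
    (et : ρ t = tv v) (huv : 𝐡 v u = 0) (hn : ∀ a : GF4, v ≠ a • u) (hj : j ∈ J) {a b : GF4}
    (ej : π j = a • u + b • v) (e : y = j * s ∨ y = j * (s * t)) (hg : CZ Z g) : y ∉ cj(g, J) := by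
  intro hy
  obtain ⟨k, hk, hy, f⟩ := h.exists_J' hS hg hy
  have h' := h.toDS.conj hk
  have key : ∀ b ∈ S, CZ Z b → Commute b j → Commute b s → Commute b t → b ∈ 𝐍[cj(k, J)] :=
    fun b hb h1 h2 h3 h4 => f b hb h1 (by
      rw [conj_eq_of_commute (e.elim (· ▸ h2.mul_right h3) (· ▸ h2.mul_right (h3.mul_right h4))),
        mul_inv_cancel]
      exact one_mem _)
  obtain ⟨n, hn'⟩ := isPGroup_iff.1 hS _ (mul_mem hs ht)
  have st := h.cm s t cs ct n hn'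
  obtain ⟨s1, s2⟩ := h.ovr (hM hs) cs hu es
  obtain ⟨t1, t2⟩ := h.ovr (hM ht) ct hv et
  obtain ⟨j1, j2⟩ := h4_line hu hv huv a b
  rw [← ej] at j1 j2
  have sN := key s hs s1 (s2 j hj j1).symm (Commute.refl s) st
  obtain ⟨u', hu', e1, F1⟩ := h.F_eq h' (hM hs) cs hu es sN fun x hx =>
    key x (hJ hx.1) (h.cz hx.1) (h.F_comm hu hx hj j1).symm (s2 x hx.1 (h.F_perp hu hu.2 hx))
      (t2 x hx.1 (h.F_perp hu (h4_eq_zero_comm.1 huv) hx))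
  obtain ⟨v', -, -, F2⟩ := h.F_eq h' (hM ht) ct hv et
    (key t ht t1 (t2 j hj j2).symm st.symm (Commute.refl t)) fun x hx =>
    key x (hJ hx.1) (h.cz hx.1) (h.F_comm hv hx hj j2).symm (s2 x hx.1 (h.F_perp hv huv hx))
      (t2 x hx.1 (h.F_perp hv hv.2 hx))
  obtain ⟨x, hx, ex⟩ := h.surj (a • u)
  have x1 : x ∈ h.F u := ⟨hx, a, ex⟩
  have x2 : x⁻¹ * j ∈ h.F v := ⟨mul_mem (inv_mem hx) hj, b, by
    rw [h.add _ (inv_mem hx) _ hj, h.pi_inv hx, ex, ej, ← add_assoc, v4_add_self, zero_add]⟩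
  rw [F1] at x1
  rw [F2] at x2
  have jJ : j ∈ cj(k, J) := (Subgroup.mul_mem_cancel_left _ (inv_mem x1.1)).1 x2.1
  have ne : tv v ≠ tv u := fun c => ((tv_eq_iff hv hu).1 c).elim hn
  rcases e with rfl | rfl <;> rw [Subgroup.mul_mem_cancel_left _ jJ] at hy
  · exact h'.not_mem hu' e1 hy
  obtain ⟨c, -, e2⟩ := h'.pair sN cs hu' e1 ct hy fun c => ne (by rw [← es, c, et])
  have : s * t ∈ h.F u := F1 ▸ ⟨hy, c, e2⟩
  have := h.rho_of_mem this.1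
  rw [h.rho_mul (hM hs) (hM ht), es, et, mul_eq_one_iff_inv_eq, tv_inv hu] at this
  exact ne this.symm

theorem sett1 (hs : s ∈ 𝐍[J]) (cs : IsConj d s) (hu : u ∈ uS 4) (es : ρ s = tv u) (hj : j ∈ J)
    (j1 : 𝐡 (π j) u = 0) (j2 : 𝐡 (π j) (π j) = 0) (hg : CZ Z g) : j * s ∉ cj(g, J) := by
  obtain ⟨v, hv, h1, h2, a, b, e⟩ : ∃ v ∈ uS 4, 𝐡 v u = 0 ∧ (∀ s : GF4, v ≠ s • u) ∧
      ∃ a b : GF4, π j = a • u + b • v := by
    by_cases c : ∃ a : GF4, π j = a • u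
    · obtain ⟨a, e⟩ := c
      obtain ⟨v, hv, h1, h2⟩ := exists_second hu
      exact ⟨v, hv, h1, h2, a, 0, by rw [e, zero_smul, add_zero]⟩
    · exact ⟨π j, ⟨fun e => c ⟨0, by rw [e, zero_smul]⟩, j2⟩, j1, not_exists.1 c, 0, 1, by simp⟩
  obtain ⟨P, hP, hM, hJ, f, t, ht, ct, et⟩ := h.lift1 (isPGroup_zpowers (x := s) ⟨1, by
    rw [pow_one, pow_two, h.dsq cs]⟩) hv
  exact h.sett hP hM hJ (f s (mem_zpowers s) hs (es ▸ tv_commute hu hv h1)) ht cs ct hu hv es et h1 h2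
    hj e (.inl rfl) hg

theorem sett2 (hS : IsPGroup 2 S) (hM : S ≤ 𝐍[J]) (hJ : J ≤ S) (hs : s ∈ S) (cs : IsConj d s)
    (hu : u ∈ uS 4) (es : ρ s = tv u) (hj : j ∈ J) (j1 : 𝐡 (π j) u = 0) (hg : CZ Z g) :
    j * s ∉ cj(g, J) := by
  by_cases j2 : 𝐡 (π j) (π j) = 0
  · exact h.sett1 (hM hs) cs hu es hj j1 j2 hg
  intro hy
  obtain ⟨k, hk, hy, f⟩ := h.exists_J' hS hg hy
  have h' := h.toDS.conj hk
  set ρ' := fun x => ρ (k⁻¹ * x * k)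
  set π' := fun x => π (k⁻¹ * x * k)
  obtain ⟨s1, s2⟩ := h.ovr (hM hs) cs hu es
  have sq := h.dsq cs
  have cZ : ∀ x ∈ J, 𝐡 (π x) u = 0 → x * (j * s) * x⁻¹ * (j * s)⁻¹ ∈ Z := fun x hx e => by
    rw [← conj_mul, conj_eq_of_commute (s2 x hx e), mul_inv_rev, mul_assoc _ s, mul_inv_cancel_left]
    exact h.commZ hx hj
  have key : ∀ x ∈ J, 𝐡 (π x) u = 0 → x ∈ 𝐍[cj(k, J)] := fun x hx e =>
    f x (hJ hx) (h.cz hx) (cZ x hx e)
  have sy : s * (j * s) * s⁻¹ * (j * s)⁻¹ ∈ Z := by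
    rw [conj_eq_of_commute ((s2 j hj j1).symm.mul_right (Commute.refl s)), mul_inv_cancel]
    exact one_mem _
  have sN := f s hs s1 sy
  obtain ⟨u', hu', e1, F1⟩ := h.F_eq h' (hM hs) cs hu es sN fun x hx =>
    key x hx.1 (h.F_perp hu hu.2 hx)
  have v1 : 𝐡 (π' (j * s)) u' = 0 := perp_of_fix hu' (e1 ▸ h'.fix_of_comm sN hy sy)
  have v2 : 𝐡 (π' (j * s)) (π' (j * s)) ≠ 0 := fun c => j2 ((h.sq' j hj).1 (by
    have := (h'.sq' _ hy).2 c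
    rwa [(s2 j hj j1).symm.mul_mul_mul_comm, sq, mul_one] at this))
  obtain ⟨x, hx, ex⟩ := h'.surj u'
  have xF : x ∈ h.F u := F1 ▸ ⟨hx, 1, by rw [ex, one_smul]⟩
  have one : ∀ r ∈ J, 𝐡 (π r) u = 0 → 𝐡 (π r) (π r) = 0 → ρ' r = 1 := fun r hr r1 r2 => by
    by_contra n
    have rN := key r hr r1
    have r3 := (h.sq' r hr).2 r2
    have f1 : ρ' r u' = u' := by
      rw [← ex, ← h'.act r rN x hx, conj_eq_of_commute (h.F_comm hu xF hr r1)]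
    have f2 := h'.fix_of_comm rN hy (cZ r hr r1)
    rcases (h'.lin r rN (h.cz hr)).invol (by rw [← h'.rho_mul rN rN, r3, h'.rho_one]) n with
      ⟨p, hp, e⟩ | ⟨p, hp, q, hq, e2, e3, e⟩ <;> rw [e] at f1 f2
    · refine h.sett1 (hM hs) cs hu es hr r1 r2 hk (h'.triv _ (mul_mem rN sN) ?_ 1 ?_)
      · rw [h'.rho_mul rN sN, e, e1, same_point hu' hp (h4_eq_zero_comm.1 (perp_of_fix hp f1)) v1
          (perp_of_fix hp f2) v2, tv_mul_self hu']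
      · rw [pow_one, pow_two, (s2 r hr r1).symm.mul_mul_mul_comm, sq, r3, one_mul]
    · exact v2 (sing_of_fix hp hq e2 e3 f2)
  obtain ⟨p, q, e, p1, q1, p2, q2⟩ := exists_split hu j1
  obtain ⟨r, hr, rfl⟩ := h.surj p
  have e2 : π (r⁻¹ * j) = q := by
    rw [h.add _ (inv_mem hr) _ hj, h.pi_inv hr, e, ← add_assoc, v4_add_self, zero_add]
  have r2 := mul_mem (inv_mem hr) hj
  have := h'.rho_of_mem hy
  rw [h'.rho_mul (key j hj j1) sN, ← mul_inv_cancel_left r j,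
    h'.rho_mul (key r hr p2) (key _ r2 (e2 ▸ q2)), one r hr p2 p1, one _ r2 (e2 ▸ q2) (e2 ▸ q1),
    one_mul, one_mul, e1] at this
  exact tv_ne_one hu' this

/-- strong closure -/
theorem sc (hg : CZ Z g) (hy : y ∈ cj(g, J)) (hM : y ∈ 𝐍[J]) : y ∈ J := by
  have h' := h.toDS.conj hg
  have y2 := h'.sqZ hy
  have y4 : y ^ 2 ^ 2 = 1 := h'.pow_four hy
  by_contra n
  have hY := isPGroup_zpowers ⟨2, y4⟩
  rcases (h.lin y hM (h'.cz hy)).invol (by rw [← h.rho_mul hM hM, h.rho_of_mem (h.le y2)])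
    (fun e => n (h.triv y hM e 2 y4)) with ⟨u, hu, e⟩ | ⟨u, hu, v, hv, h1, h2, e⟩
  · obtain ⟨P, hP, hN, hJ, f, s, hs, cs, es⟩ := h.lift1 hY hu
    have hj := h.mem_of_eq hP hN (f y (mem_zpowers y) hM (e ▸ Commute.refl _)) hs (e.trans es.symm)
    rw [← inv_mul_cancel_right y s] at hy y2
    exact h.sett2 hP hN hJ hs cs hu es hj
      (perp_of_fix hu (es ▸ h.fix_of_sq hj (hN hs) (h.dsq cs) y2)) hg hy
  have c := tv_commute hu hv h1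
  obtain ⟨Q, hQ, hN', -, f', s, hs, cs, es⟩ := h.lift1 hY hu
  obtain ⟨P, hP, hN, hJ, f, t, ht, ct, et⟩ := h.lift1 hQ hv
  replace hs := f s hs (hN' hs) (es ▸ c)
  have yP := f y (f' y (mem_zpowers y) hM (e ▸ (Commute.refl _).mul_left c.symm)) hM
    (e ▸ c.mul_left (Commute.refl _))
  have st := mul_mem hs ht
  have e' : ρ (s * t) = tv u * tv v := by rw [h.rho_mul (hN hs) (hN ht), es, et]
  have hj := h.mem_of_eq hP hN yP st (e.trans e'.symm)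
  obtain ⟨m, hm⟩ := isPGroup_iff.1 hP _ st
  rw [← inv_mul_cancel_right y (s * t)] at y2
  obtain ⟨a, b, ej⟩ := (fix_two hu hv h1 h2 _).1.1 (e' ▸ h.fix_of_sq hj (hN st) (by
    rw [(h.cm s t cs ct m hm).symm.mul_mul_mul_comm, h.dsq cs, h.dsq ct, one_mul]) y2)
  exact h.sett hP hN hJ hs ht cs ct hu hv es et h1 h2 hj ej (.inr (inv_mul_cancel_right _ _).symm)
    hg hy

end DW

end Cfsg.Agent.F6
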