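import Mathlib
import Cfsg.Agent.F6.Lin
import Cfsg.Agent.Lyons.Tools

/-! Weak closure of `J`. -/

set_option autoImplicit false

namespace Cfsg.Agent.F6

open Subgroup Cfsg.Agent.Class TT TT.UQ U6R ZJ Cfsg.Agent.PLocal.Amb

variable {G : Type*} [Group G] [Finite G] {A Z J : Subgroup G} {z d a e w : G} {π : G → V4}
  {ρ : G → P4} {μ : G → GF4}

/-- Not `CZ`: then `g * a` is `CZ` (`conj_d`, `ad`, `cz_of`). -/
theorem Fr.ga (h : Fr A Z J z d a e w π ρ μ) (hK : HK Z J ρ) {g : G} (hg : g ∈ 𝐍[J]) :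
    CZ Z g ∧ ρ g ∈ K4 ∨ ¬ CZ Z g ∧ CZ Z (g * a) ∧ IsSemi (ρ g) ∧ ρ g * phi ∈ K4 := by
  rcases h.conj_d hg with e1 | e1
  · have := h.cz_of hg (commute_of_conj_eq e1)
    exact .inl ⟨this, hK g hg this⟩
  · have h1 : CZ Z (g * a) := h.cz_of (mul_mem hg h.aM) (commute_of_conj_eq (by
      have e2 : g * a * d * (g * a)⁻¹ = g * (a * d * a⁻¹) * g⁻¹ := by group
      rw [e2, h.ad, ← conj_mul, e1, conj_eq_of_commute (h.commz hg), mul_assoc, h.zz, mul_one]))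
    have h2 : ρ g * phi ∈ K4 := by
      have := hK _ (mul_mem hg h.aM) h1
      rwa [h.rho_mul hg h.aM, h.ρa] at this
    refine .inr ⟨fun c => h.z1 ?_, h1, ?_, h2⟩
    · rw [conj_eq_of_commute (c d h.dZ)] at e1
      exact (left_eq_mul.1 e1)
    · have := (lin_of_mem_closure h2).mul_semi phi_semi
      rwa [mul_assoc, phi_sq, mul_one] at this

theorem JM.card_Z (h : JM Z J z d π ρ) : Nat.card Z = 4 := by
  have e1 : (Z : Set G) = {1, z, d, d * z} := Set.ext fun y => by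
    simpa using h.memZ y
  have h1 : d * z ≠ 1 := fun c => h.dz (by
    rw [← h.zz] at c; exact mul_right_cancel c)
  have h2 : d * z ≠ z := fun c => h.d1 (mul_eq_right.1 c)
  have h3 : d * z ≠ d := fun c => h.z1 (mul_eq_left.1 c)
  change (Z : Set G).ncard = 4
  rw [e1, Set.ncard_insert_of_notMem (by simp [h.z1.symm, h.d1.symm, h1.symm]),
    Set.ncard_insert_of_notMem (by simp [h.dz.symm, h2.symm]), Set.ncard_pair h3.symm]

theorem JM.card_J (h : JM Z J z d π ρ) : Nat.card J = 1024 := by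
  have h0 : (Finset.univ : Finset V4).card = 256 := by
    rw [Finset.card_univ, Fintype.card_fun, Fintype.card_fin]; rfl
  have h1 := card_le_of_fun (X := J) (K := Z) π Finset.univ (fun _ _ => Finset.mem_univ _)
    fun x hx y hy e => h.mem_of_pi hx hy e
  have h2 := le_card_of_fun h.le π Finset.univ (fun v _ => h.surj v) fun x hx k hk => by
    rw [h.add x hx k (h.le hk), h.pi_Z hk, add_zero]
  rw [h0, h.card_Z] at h1 h2
  omega

/-- The image of a subgroup of `J`. -/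
def JM.img (h : JM Z J z d π ρ) {B : Subgroup G} (hB : B ≤ J) : AddSubgroup V4 where
  carrier := π '' B
  zero_mem' := ⟨1, one_mem B, h.pi_one⟩
  add_mem' := by
    rintro _ _ ⟨x, hx, rfl⟩ ⟨y, hy, rfl⟩
    exact ⟨x * y, mul_mem hx hy, h.add x (hB hx) y (hB hy)⟩
  neg_mem' := by
    rintro _ ⟨x, hx, rfl⟩
    exact ⟨x, hx, eq_neg_of_add_eq_zero_left (v4_add_self _)⟩

theorem JM.card_le_img (h : JM Z J z d π ρ) {B : Subgroup G} (hB : B ≤ J) :
    Nat.card B ≤ Nat.card (h.img hB) * Nat.card (B ⊓ Z : Subgroup G) := by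
  classical
  have h1 := card_le_of_fun (X := B) (K := B ⊓ Z) π (h.img hB : Set V4).toFinset
    (fun x hx => Set.mem_toFinset.2 ⟨x, hx, rfl⟩)
    fun x hx y hy e => ⟨B.mul_mem (B.inv_mem hx) hy, h.mem_of_pi (hB hx) (hB hy) e⟩
  rwa [Set.toFinset_card, ← Nat.card_eq_fintype_card] at h1

theorem JM.card_inf_le (h : JM Z J z d π ρ) (B : Subgroup G) :
    Nat.card (B ⊓ Z : Subgroup G) ≤ 4 := h.card_Z ▸ card_le_of_le inf_le_right

/-- `π` maps an abelian subgroup to a `bf`-isotropic one (`card_iso_le`). -/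
theorem JM.card_ab (h : JM Z J z d π ρ) {B : Subgroup G} (hB : B ≤ J)
    (hc : ∀ x ∈ B, ∀ y ∈ B, Commute x y) : Nat.card B ≤ 64 := by
  have h1 := card_iso_le (U := h.img hB) (by
    rintro _ ⟨x, hx, rfl⟩ _ ⟨y, hy, rfl⟩
    exact (h.comm' x (hB hx) y (hB hy)).1 (hc x hx y hy))
  exact (h.card_le_img hB).trans (Nat.mul_le_mul h1 (h.card_inf_le B))

/-- An abelian subgroup of order `64` is self-centralizing in `J`. -/
theorem JM.mem_of_ab (h : JM Z J z d π ρ) {B : Subgroup G} (hB : B ≤ J)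
    (hc : ∀ x ∈ B, ∀ y ∈ B, Commute x y) (h64 : 64 ≤ Nat.card B) {y : G} (hy : y ∈ J)
    (hyc : ∀ x ∈ B, Commute x y) : y ∈ B := by
  have h1 : B ≤ 𝐂[zpowers y] := by
    rw [centralizer_zpowers]
    exact fun x hx => mem_centralizer_singleton_iff.2 (hyc x hx)
  have h2 : zpowers y ≤ 𝐂[zpowers y] := by
    rw [centralizer_zpowers, zpowers_le]
    exact mem_centralizer_singleton_iff.2 rfl
  have h3 : B ⊔ zpowers y ≤ 𝐂[B ⊔ zpowers y] := by
    rw [centralizer_sup]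
    exact le_inf (sup_le (fun x hx b hb => (hc b hb x hx).eq) (le_centralizer_iff.1 h1))
      (sup_le h1 h2)
  have h4 := h.card_ab (B := B ⊔ zpowers y) (sup_le hB (zpowers_le.2 hy))
    fun x hx k hk => h3 hk x hx
  exact (eq_of_le_of_card_ge le_sup_left (h4.trans h64)).ge (mem_sup_right (mem_zpowers y))

theorem JM.le_syl (h : JM Z J z d π ρ) {T : Subgroup G} (hT : IsSyl 2 T 𝐍[J]) : J ≤ T :=
  hT.le_of_le_normalizer h.isPGroup le_normalizer hT.le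

/-- The centre of a Sylow subgroup: `y` centralizes `J ≤ T`, so `y ∈ Z` (`triv`, `mem_Z`); `T`
contains a conjugate of `a` under `N(J)`, which does not centralize `d` or `d z`. -/
theorem Fr.center_syl (h : Fr A Z J z d a e w π ρ μ) {T : Subgroup G} (hT : IsSyl 2 T 𝐍[J]) {y : G}
    (hy : y ∈ T) (hc : ∀ t ∈ T, Commute t y) : y = 1 ∨ y = z := by
  have hJ := h.le_syl hT
  obtain ⟨k, hk⟩ := isPGroup_iff.1 hT.pgrp y hy
  have h1 : y ∈ J := h.triv y (hT.le hy) (h.rho_ext (hT.le hy) fun x hx => by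
    rw [conj_eq_of_commute (hc x (hJ hx)).symm]; rfl) k hk
  obtain ⟨g, hg, h2⟩ := Lyons.exists_conj_mem hT h.aM (k := 1) (by rw [pow_one, pow_two, h.aa])
  have h3 : ¬ Commute (g * a * g⁻¹) d := fun c => h.z1 (by
    have h4 := h.cz_of (hT.le h2) c _ (h.normZ hg h.dZ)
    rw [commute_conj_iff'] at h4
    have h5 := h.ad
    rw [conj_eq_of_commute h4] at h5
    exact left_eq_mul.1 h5)
  rcases (h.memZ y).1 (h.mem_Z h1 fun x hx => hc x (hJ hx)) with e1 | e1 | e1 | e1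
  · exact .inl e1
  · exact .inr e1
  · exact absurd (e1 ▸ hc _ h2) h3
  · refine absurd ?_ h3
    have := (e1 ▸ hc _ h2).mul_right (h.commz (hT.le h2))
    rwa [mul_assoc d, h.zz, mul_one] at this

omit [Finite G] in
/-- An elementary abelian group of transvections has order at most `2`. -/
theorem card_le_two_of_tv {Y : Subgroup P4} (h2 : ∀ y ∈ Y, y * y = 1)
    (h : ∀ y ∈ Y, y ≠ 1 → ∃ c ∈ uS 4, y = tv c) : Nat.card Y ≤ 2 := by
  have := card_le_two_mul_of_mul_mem (A := Y) (B := ⊥) bot_le fun x hx y hy hx1 hy1 => by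
    rw [mem_bot] at hx1 hy1 ⊢
    by_contra c
    obtain ⟨u, hu, rfl⟩ := h x hx hx1
    obtain ⟨v, hv, rfl⟩ := h y hy hy1
    obtain ⟨c, hc, e⟩ := h _ (mul_mem hx hy) c
    exact tv_mul_ne hu hv hc (perp_of_two_pow hu hv (n := 1)
      (by rw [pow_one, pow_two]; exact h2 _ (mul_mem hx hy))) e
  rwa [card_bot] at this

omit [Finite G] in
theorem card_le_fix {U : AddSubgroup V4} {y : P4} (h : ∀ u ∈ U, y u = u) :
    Nat.card U ≤ Nat.card {v // y v = v} :=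
  Nat.card_le_card_of_injective (fun u : U => (⟨u, h u u.2⟩ : {v // y v = v}))
    fun _ _ e => Subtype.ext (congrArg Subtype.val e :)

omit [Finite G] in
theorem mem_of_card_fix {U : AddSubgroup V4} {y : P4} (h : ∀ u ∈ U, y u = u)
    (hc : Nat.card {v // y v = v} ≤ Nat.card U) {v : V4} (hv : y v = v) : v ∈ U := by
  have h1 : (U : Set V4) ⊆ {v | y v = v} := h
  exact (Set.eq_of_subset_of_ncard_le h1 hc).ge hv

theorem JM.weak (h : JM Z J z d π ρ)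
    (hga : ∀ g ∈ 𝐍[J], CZ Z g ∧ IsLin (ρ g) ∨ IsSemi (ρ g)) {Z' J' : Subgroup G} {z' d' : G}
    {π' : G → V4} {ρ' : G → P4} (h' : JM Z' J' z' d' π' ρ') (hg : J' ≤ 𝐍[J]) : J' = J := by
  classical
  by_contra hne
  obtain ⟨y0, hy0, hy0'⟩ : ∃ y ∈ J', y ∉ J := SetLike.not_le_iff_exists.1 fun c =>
    hne (eq_of_le_of_card_ge c (by rw [h.card_J, h'.card_J]))
  have htr : ∀ y ∈ J', ρ y = 1 → y ∈ J := fun y hy e1 =>
    h.triv y (hg hy) e1 2 (h'.pow_four hy)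
  set Y : Subgroup P4 := (J'.subgroupOf 𝐍[J]).map h.hom with hY
  have mY : ∀ r, r ∈ Y ↔ ∃ y ∈ J', ρ y = r := fun r =>
    ⟨fun ⟨y, hy, e1⟩ => ⟨y, hy, e1⟩, fun ⟨y, hy, e1⟩ => ⟨⟨y, hg hy⟩, hy, e1⟩⟩
  have gY : ∀ r ∈ Y, IsGa r := fun r hr => by
    obtain ⟨y, hy, rfl⟩ := (mY r).1 hr
    exact (hga y (hg hy)).imp_left And.right
  have c1 : 1024 ≤ Nat.card Y * Nat.card (J ⊓ J' : Subgroup G) := by
    have := card_le_of_fun (X := J') (K := J ⊓ J') ρ (Y : Set P4).toFinite.toFinset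
      (fun x hx => (Set.Finite.mem_toFinset _).2 ((mY _).2 ⟨x, hx, rfl⟩)) fun x hx y hy e1 =>
        mem_inf.2 ⟨htr _ (J'.mul_mem (J'.inv_mem hx) hy) (by
          rw [h.rho_mul (inv_mem (hg hx)) (hg hy), h.rho_inv (hg hx), e1, inv_mul_cancel]),
          J'.mul_mem (J'.inv_mem hx) hy⟩
    rwa [← Set.ncard_eq_toFinset_card, h'.card_J] at this
  have hz' : z' ∈ J := by
    by_contra c
    have h1 : J ⊓ J' ≤ Z' := fun x hx => h'.mem_Z hx.2 fun y hy => by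
      by_contra c'
      have := conj_mem_of_mem_normalizer (hg hy) hx.1
      rw [h'.conj_of_ne hy hx.2 c'] at this
      exact c ((J.mul_mem_cancel_left hx.1).1 this)
    have h2 := card_le_of_le h1
    have h3 := card_two_le gY ((isPGroup_subgroupOf h'.isPGroup _).map _)
    rw [h'.card_Z] at h2
    nlinarith
  have sY : ∀ r ∈ Y, r * r = 1 := fun r hr => by
    obtain ⟨y, hy, rfl⟩ := (mY r).1 hr
    rw [← h.rho_mul (hg hy) (hg hy)]
    rcases h'.sq y hy with e1 | e1 <;> rw [e1]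
    exacts [h.rho_one, h.rho_of_mem hz']
  have c2 := card_elab_le fun r hr => ⟨gY r hr, sY r hr⟩
  have c3 : 64 ≤ Nat.card (J ⊓ J' : Subgroup G) := by nlinarith
  have hzZ : z' ∈ Z := by
    by_cases hzz : z' = z
    · exact hzz ▸ h.zZ
    have h1 : ∀ x ∈ J ⊓ J', ∀ y ∈ J ⊓ J', Commute x y := fun x hx y hy => by
      by_contra c
      exact hzz (mul_left_cancel ((h'.conj_of_ne hx.2 hy.2 c).symm.trans (h.conj_of_ne hx.1 hy.1 c)))
    have h2 : Z ≤ J ⊓ J' := fun y hy =>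
      h.mem_of_ab inf_le_left h1 c3 (h.le hy) fun x hx => h.cent y hy x hx.1
    have h3 : z ∈ Z' := h'.mem_Z (h2 h.zZ).2 fun x hx => h.commz (hg hx)
    have h4 : d ∈ Z' := h'.mem_Z (h2 h.dZ).2 fun x hx => by
      by_contra c
      rcases h.conj_d (hg hx) with e1 | e1
      · exact c (commute_of_conj_eq e1)
      · exact hzz (mul_left_cancel ((h'.conj_of_ne hx (h2 h.dZ).2 c).symm.trans e1))
    have h5 : Z ≤ Z' := fun y hy => by
      rcases (h.memZ y).1 hy with rfl | rfl | rfl | rfl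
      exacts [one_mem _, h3, h4, mul_mem h4 h3]
    exact (eq_of_le_of_card_ge h5 (by rw [h.card_Z, h'.card_Z])).ge h'.zZ
  set U := h.img (inf_le_left : J ⊓ J' ≤ J) with hU
  have fU : ∀ r ∈ Y, ∀ u ∈ U, r u = u := by
    rintro r hr _ ⟨x, hx, rfl⟩
    obtain ⟨y, hy, rfl⟩ := (mY r).1 hr
    rw [← h.act y (hg hy) x hx.1]
    rcases h'.comm y hy x hx.2 with e1 | e1 <;> rw [e1]
    rw [h.add x hx.1 z' hz', h.pi_Z hzZ, add_zero]
  have c4 := h.card_le_img (inf_le_left : J ⊓ J' ≤ J)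
  have c5 := h.card_inf_le (J ⊓ J')
  rw [← hU] at c4
  have c6 : Nat.card U ≤ 16 := by
    by_contra c
    have h1 : ∀ r ∈ Y, r ≠ 1 → ∃ c ∈ uS 4, r = tv c := fun r hr h1 => by
      have h2 := card_le_fix (fU r hr)
      rcases gY r hr with hl | hl
      · rcases hl.invol (sY r hr) h1 with h3 | ⟨u, hu, v, hv, h3, h4, rfl⟩
        · exact h3
        · rw [card_fix_two hu hv h3 h4] at h2; exact absurd h2 c
      · rw [card_fix_semi hl (sY r hr)] at h2; exact absurd h2 c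
    have h2 := card_le_two_of_tv sY h1
    have h3 : ρ y0 ∈ Y := (mY _).2 ⟨y0, hy0, rfl⟩
    obtain ⟨c, hc, e1⟩ := h1 _ h3 fun c => hy0' (htr y0 hy0 c)
    have h4 := card_le_fix (fU _ h3)
    rw [e1, card_fix_tv hc] at h4
    have h5 := c4.trans (Nat.mul_le_mul h4 c5)
    nlinarith
  have c7 : 16 ≤ Nat.card U := by nlinarith
  have hZ : Z ≤ J ⊓ J' := by
    have : 4 ≤ Nat.card (J ⊓ J' ⊓ Z : Subgroup G) := by nlinarith
    exact (eq_of_le_of_card_ge inf_le_right (h.card_Z ▸ this)).ge.trans inf_le_left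
  have c8 : 16 ≤ Nat.card Y := by
    have := c4.trans (Nat.mul_le_mul c6 c5)
    nlinarith
  have c9 : Nat.card Y ≤ 2 * Nat.card (Y ⊓ LG : Subgroup P4) :=
    card_le_two_mul_of_mul_mem inf_le_left fun x hx y hy hx' hy' =>
      ⟨mul_mem hx hy, ((gY x hx).resolve_left fun c => hx' ⟨hx, c⟩).mul
        ((gY y hy).resolve_left fun c => hy' ⟨hy, c⟩)⟩
  obtain ⟨σ, hσ, h1, h2⟩ : ∃ σ ∈ Y ⊓ LG, σ ≠ 1 ∧ ¬ ∃ c ∈ uS 4, σ = tv c := by
    by_contra c
    have := card_le_two_of_tv (Y := Y ⊓ LG) (fun r hr => sY r hr.1) fun r hr h1 => by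
      by_contra c'
      exact c ⟨r, hr, h1, c'⟩
    omega
  have hl : IsLin σ := hσ.2
  obtain ⟨u, hu, v, hv, h3, h4, e1⟩ := (hl.invol (sY σ hσ.1) h1).resolve_left h2
  obtain ⟨y, hy, e2⟩ := (mY σ).1 hσ.1
  have hcz : CZ Z y := ((hga y (hg hy)).resolve_right (e2 ▸ hl.not_semi)).1
  have mI : ∀ x ∈ J, σ (π x) = π x → x ∈ J ⊓ J' := fun x hx e3 => by
    obtain ⟨i, hi, e4⟩ := mem_of_card_fix (fU σ hσ.1)
      (by rw [e1, card_fix_two hu hv h3 h4]; exact c7) e3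
    have := mul_mem hi (hZ (h.mem_of_pi hi.1 hx e4))
    rwa [mul_inv_cancel_left] at this
  have lI : ∀ x ∈ J ⊓ J', ∃ s t : GF4, π x = s • u + t • v := fun x hx =>
    (fix_two hu hv h3 h4 _).1.1 (e1 ▸ fU σ hσ.1 _ ⟨x, hx, rfl⟩)
  have sI : ∀ x ∈ J ⊓ J', x * x = 1 := fun x hx => by
    obtain ⟨s, t, e3⟩ := lI x hx
    rw [h.sq' x hx.1, e3]
    simp only [h4_add_left, h4_add_right, h4_smul_left, h4_smul_right, h3, hu.2, hv.2,
      h4_eq_zero_comm.1 h3, mul_zero, add_zero]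
  have hyy : y * y ∈ Z := by
    rcases h'.sq y hy with e3 | e3 <;> rw [e3]
    exacts [one_mem _, hzZ]
  have h5 : ∀ x ∈ J ⊓ J', Commute x y := fun x hx => by
    obtain ⟨p, e3⟩ := (fix_two hu hv h3 h4 _).2.1 (lI x hx)
    obtain ⟨j, hj, rfl⟩ := h.surj p
    have hc : y * j * y⁻¹ * j⁻¹ ∈ J :=
      mul_mem (conj_mem_of_mem_normalizer (hg hy) hj) (inv_mem hj)
    have e4 : π (y * j * y⁻¹ * j⁻¹) = π x := by rw [h.pi_comm (hg hy) hj, e2, e3, e1]
    have h6 := sI _ (mI _ hc (by rw [e4]; exact fU σ hσ.1 _ ⟨x, hx, rfl⟩))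
    have h7 : Commute y (y * j * y⁻¹ * j⁻¹) := commute_of_conj_eq (by
      have e5 : y * (y * j * y⁻¹ * j⁻¹) * y⁻¹ =
          y * y * j * (y * y)⁻¹ * j⁻¹ * (y * j * y⁻¹ * j⁻¹)⁻¹ := by group
      rw [e5, conj_eq_of_commute (h.cent _ hyy j hj).symm, mul_inv_cancel, one_mul]
      exact inv_eq_of_mul_eq_one_right h6)
    have := h7.mul_right (hcz _ (h.mem_of_pi hc hx.1 e4))
    rw [mul_inv_cancel_left] at this
    exact this.symm
  have h6 := h'.mem_of_ab inf_le_right (fun x hx k hk => comm_of_sq_eq_one sI hx hk) c3 hy h5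
  exact h1 (e2 ▸ h.rho_of_mem h6.1)

/-- Let `J' = J^g ≤ N(J)`, `J' ≠ J`, `I = J ⊓ J'`, `Y = ρ(J')`; see `JM.weak`. -/
theorem Fr.weak_aux (h : Fr A Z J z d a e w π ρ μ) (hK : HK Z J ρ) {g : G}
    (hg : cj(g, J) ≤ 𝐍[J]) : cj(g, J) = J :=
  h.toJM.weak (fun _ hk => (h.ga hK hk).imp (fun c => ⟨c.1, lin_of_mem_closure c.2⟩)
    fun c => c.2.2.1) (h.conj g) hg

/-- `syl`: `N(T)` normalizes `J` (`J ≤ T`, `weak_aux`), so `T` is Sylow in `G`. `wc`: conjugate `P`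
into `T`. `zd`: if `d = g z g⁻¹`, then `J` and `J^g` lie in `C(d)`; conjugate them by `c ∈ C(d)` into
one Sylow subgroup of `C(d)`: `J^c = J^g`, so `g⁻¹ c ∈ N(J)` fixes `z`, `c z c⁻¹ = d`, `z = d`. -/
theorem Fr.wf (h : Fr A Z J z d a e w π ρ μ) (hK : HK Z J ρ) : WF J z d := by
  have h1 : ∀ T : Subgroup G, IsSyl 2 T 𝐍[J] → IsSyl 2 T ⊤ := fun T hT =>
    isSyl_of_isSyl_normalizer (hT.mono (le_inf le_top le_normalizer) fun n hn =>
      cj_eq_iff.1 (h.weak_aux hK ((cj_le_of_mem_normalizer (h.le_syl hT) hn.2).trans hT.le)))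
  have h2 : ∀ P : Subgroup G, IsPGroup 2 P → ∀ g k : G, cj(g, J) ≤ P → cj(k, J) ≤ P →
      cj(g, J) = cj(k, J) := fun P hP g k hg hk => by
    obtain ⟨T, hT⟩ := exists_isSyl 2 𝐍[J]
    obtain ⟨c, -, hc⟩ := (h1 T hT).exists_cj_le hP le_top
    have h3 : ∀ g : G, cj(g, J) ≤ P → cj(c, cj(g, J)) = J := fun g hg => by
      rw [← cj_mul]
      refine h.weak_aux hK ?_
      rw [cj_mul]
      exact ((cj_mono c hg).trans hc).trans hT.le
    exact cj_inj.1 ((h3 g hg).trans (h3 k hk).symm)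
  refine ⟨h2, h1, fun c => ?_⟩
  obtain ⟨g, hg⟩ := isConj_iff.1 c
  have h3 : J ≤ centralizer {d} := fun x hx =>
    mem_centralizer_singleton_iff.2 (h.cent d h.dZ x hx)
  have h4 : cj(g, J) ≤ centralizer {d} := by
    rw [← hg, centralizer_singleton_conj]
    exact cj_mono g fun x hx => mem_centralizer_singleton_iff.2 (h.cent z h.zZ x hx)
  obtain ⟨S, hS, h5⟩ := exists_isSyl_ge (isPGroup_cj g h.isPGroup) h4
  obtain ⟨k, hk, h6⟩ := hS.exists_cj_le h.isPGroup h3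
  have h7 : g⁻¹ * k ∈ 𝐍[J] := by
    rw [← cj_eq_iff, cj_mul, h2 S hS.pgrp k g h6 h5, cj_inv_cj]
  have h8 : k * z * k⁻¹ = d := by
    rw [← hg]
    nth_rw 2 [← conj_eq_of_commute (h.commz h7)]
    group
  rw [← conj_eq_of_commute (mem_centralizer_singleton_iff.1 hk), conj_inj] at h8
  exact h.dz h8.symm

/-- `N(J) = Y (N(J) ⊓ N(A))` with `Y = ker ρ` (`cphi`, `lift`, `a ∈ A`), and `J ≤ N(A)` is the Sylow
subgroup of `Y`; so a Sylow subgroup of `N(J) ⊓ N(A)` is Sylow in `N(J)`, hence in `G`. -/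
theorem Fr.odd_index (h : Fr A Z J z d a e w π ρ μ) (hw : WF J z d)
    (h1 : ∀ g ∈ 𝐍[J], Commute (ρ g) phi) : Odd (𝐍[A]).index := by
  have h2 : ∀ g ∈ 𝐍[J], ∃ m ∈ 𝐍[J], m ∈ 𝐍[A] ∧ ρ m = ρ g := fun g hg => by
    rcases h.cphi g hg (h1 g hg) with c | c
    · obtain ⟨m, hm, hm', -, e1, -⟩ := h.lift _ c.1 (h1 g hg)
      exact ⟨m, hm, hm', e1⟩
    · obtain ⟨m, hm, hm', -, e1, -⟩ := h.lift _ c.1 ((h1 g hg).mul_left (Commute.refl _))
      refine ⟨m * a, mul_mem hm h.aM, mul_mem hm' (le_normalizer h.aA), ?_⟩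
      rw [h.rho_mul hm h.aM, e1, h.ρa, mul_assoc, phi_sq, mul_one]
  obtain ⟨S, hS⟩ := exists_isSyl 2 ((𝐍[A]).subgroupOf 𝐍[J])
  obtain ⟨T, hT, hST⟩ := exists_isSyl_ge hS.pgrp le_top
  have h3 : T.map h.hom ≤ S.map h.hom := by
    refine (hS.map h.hom).max _ (hT.pgrp.map _) (map_mono hST) ?_
    rintro _ ⟨t, -, rfl⟩
    obtain ⟨m, hm, hm', e1⟩ := h2 t t.2
    exact ⟨⟨m, hm⟩, hm', e1⟩
  have h4 : T.map (𝐍[J]).subtype ≤ 𝐍[A] := by
    rintro _ ⟨t, ht, rfl⟩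
    obtain ⟨s, hs, e1⟩ := h3 ⟨t, ht, rfl⟩
    obtain ⟨k, hk⟩ := isPGroup_iff.1 hT.pgrp _ (mul_mem (inv_mem (hST hs)) ht)
    have h5 : ((s⁻¹ * t : 𝐍[J]) : G) ∈ J := h.triv _ (s⁻¹ * t).2 (by
      rw [← h.hom_apply, map_mul, map_inv, e1, inv_mul_cancel]) k (congrArg Subtype.val hk)
    have := (𝐍[A]).mul_mem (x := s) (hS.le hs) (h.JN h5)
    simpa using this
  have h5 := hT.map (𝐍[J]).subtype
  rw [← MonoidHom.range_eq_map, range_subtype] at h5
  have h6 := (hw.syl _ h5).not_dvd_relIndex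
  rw [relIndex_top_right] at h6
  exact Nat.not_even_iff_odd.1 fun c => h6 (c.two_dvd.trans (index_dvd_of_le h4))

end Cfsg.Agent.F6
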