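import Mathlib
import Cfsg.Agent.F6.Weak

/-! The class of `d`. -/

set_option autoImplicit false

namespace Cfsg.Agent.F6

open Subgroup Cfsg.Agent.Class TT TT.UQ U6R ZJ Cfsg.Agent.PLocal.Amb

variable {G : Type*} [Group G] [Finite G] {A Z J : Subgroup G} {z d a e w : G} {π : G → V4}
  {ρ : G → P4} {μ : G → GF4}

theorem card_uS4 : Nat.card (uS 4) = 135 := by
  rw [show uS 4 = (Finset.univ.filter fun v : V4 => v ≠ 0 ∧ hd v v = 0 : Finset V4) by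
    ext v; simp [uS, h4_eq_hd], Nat.card_eq_fintype_card]
  simp only [Finset.coe_sort_coe, Fintype.card_coe]
  decide +kernel

omit [Finite G] in
theorem InJ.of_conj {t g : G} (hg : g ∈ 𝐍[J] ⊔ 𝐍[A]) (h : InJ A J z d (g * t * g⁻¹)) :
    InJ A J z d t := by
  obtain ⟨k, hk, h⟩ := h
  exact ⟨k * g, mul_mem hk hg, by simpa only [mul_assoc, mul_inv_rev] using h⟩

omit [Finite G] in
theorem exists_two_grp {s t : G} (hs : s * s = 1) (ht : t * t = 1) {n : ℕ}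
    (h : (s * t) ^ 2 ^ n = 1) : ∃ P : Subgroup G, IsPGroup 2 P ∧ s ∈ P ∧ t ∈ P := by
  have e : s * (s * t) * s⁻¹ = (s * t)⁻¹ := by
    rw [← mul_assoc, hs, one_mul, mul_inv_rev, inv_eq_of_mul_self ht]
  refine ⟨zpowers s ⊔ zpowers (s * t), isPGroup_sup (isPGroup_zpowers ⟨1, by simpa [sq] using hs⟩)
    (isPGroup_zpowers ⟨n, h⟩) (zpowers_le.2 (cj_eq_iff.1 ?_)), mem_sup_left (mem_zpowers _), ?_⟩
  · rw [MonoidHom.map_zpowers]
    exact (congrArg zpowers e).trans (zpowers_inv)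
  · have := mul_mem (mem_sup_left (T := zpowers (s * t)) (mem_zpowers s))
      (mem_sup_right (mem_zpowers (s * t)))
    rwa [← mul_assoc, hs, one_mul] at this

namespace Fr

section
variable (h : Fr A Z J z d a e w π ρ μ)
include h

omit [Finite G] in
theorem lift4 (hs : SU Z J ρ) {k : P4} (hk : k ∈ K4) : ∃ m ∈ 𝐍[J], CZ Z m ∧ ρ m = k := by
  induction hk using closure_induction with
  | mem x hx => obtain ⟨c, hc, rfl⟩ := hx; exact hs c hc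
  | one => exact ⟨1, one_mem _, fun y _ => Commute.one_left y, h.rho_one⟩
  | mul x y _ _ hx hy =>
    obtain ⟨m, h1, h2, rfl⟩ := hx
    obtain ⟨n, h3, h4, rfl⟩ := hy
    exact ⟨m * n, mul_mem h1 h3, h2.mul h4, h.rho_mul h1 h3⟩
  | inv x _ hx =>
    obtain ⟨m, h1, h2, rfl⟩ := hx
    exact ⟨m⁻¹, inv_mem h1, h2.inv, h.rho_inv h1⟩

theorem cz_lin (hK : HK Z J ρ) {g : G} (hg : g ∈ 𝐍[J]) (hl : IsLin (ρ g)) : CZ Z g :=
  (h.ga hK hg).elim (·.1) fun c => absurd c.2.2.1 hl.not_semi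

theorem isGa (hK : HK Z J ρ) {g : G} (hg : g ∈ 𝐍[J]) : IsGa (ρ g) :=
  (h.ga hK hg).elim (fun c => (lin_of_mem_closure c.2).ga) fun c => c.2.2.1.ga

omit [Finite G] in
theorem rho_sq {t : G} (ht : t ∈ 𝐍[J]) (t2 : t * t = 1) : ρ t * ρ t = 1 := by
  rw [← h.rho_mul ht ht, t2, h.rho_one]

omit [Finite G] in
theorem rho_cen {o : G} (ho : o ∈ 𝐍[J]) (hc : ∀ x ∈ J, Commute o x) : ρ o = 1 :=
  h.rho_ext ho fun x hx => by rw [conj_eq_of_commute (hc x hx)]; rfl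

theorem adj (hK : HK Z J ρ) {s t : G} (hs : s ∈ 𝐍[J]) (ht : t ∈ 𝐍[J]) (s2 : s * s = 1)
    (t2 : t * t = 1) (e1 : ρ t = ρ s) :
    ∃ o ∈ 𝐍[J], (∀ x ∈ J, Commute o x) ∧ ∃ j ∈ J, o * t * o⁻¹ = s * j := by
  have r2 := h.rho_sq hs s2
  have ri := inv_eq_of_mul_self r2
  let Y : Subgroup G := ⟨⟨⟨{y | y ∈ 𝐍[J] ∧ (ρ y = 1 ∨ ρ y = ρ s)}, fun {x y} hx hy =>
    ⟨mul_mem hx.1 hy.1, by
      rw [h.rho_mul hx.1 hy.1]
      rcases hx.2 with e | e <;> rcases hy.2 with e' | e' <;> simp [e, e', r2]⟩⟩,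
    one_mem _, Or.inl h.rho_one⟩, fun {x} hx => ⟨inv_mem hx.1, by
      rw [h.rho_inv hx.1]
      rcases hx.2 with e | e <;> simp [e, ri]⟩⟩
  have k1 : ∀ R : Subgroup G, IsPGroup 2 R → R ≤ Y → s ∈ R → ∀ x ∈ R, ρ x = ρ s → s⁻¹ * x ∈ J :=
    fun R hR hY hsR x hx e => by
      have h1 := mul_mem (inv_mem hsR) hx
      obtain ⟨n, hn⟩ := isPGroup_iff.1 hR _ h1
      exact h.triv _ (hY h1).1 (by
        rw [h.rho_mul (inv_mem hs) (hY hx).1, h.rho_inv hs, e, inv_mul_cancel]) n hn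
  have p2 : ∀ {x : G}, x * x = 1 → IsPGroup 2 (zpowers x) := fun hx =>
    isPGroup_zpowers ⟨1, by simpa [sq] using hx⟩
  have hP : IsSyl 2 (zpowers s ⊔ J) Y := by
    refine ⟨sup_le (zpowers_le.2 ⟨hs, Or.inr rfl⟩) fun x hx =>
      ⟨le_normalizer hx, Or.inl (h.rho_of_mem hx)⟩,
      isPGroup_sup (p2 s2) h.isPGroup (zpowers_le.2 hs), fun R hR h1 h2 x hx => ?_⟩
    rcases (h2 hx).2 with e | e
    · obtain ⟨n, hn⟩ := isPGroup_iff.1 hR _ hx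
      exact mem_sup_right (h.triv _ (h2 hx).1 e n hn)
    · simpa using mul_mem (mem_sup_left (T := J) (mem_zpowers s))
        (mem_sup_right (k1 R hR h2 (h1 (mem_sup_left (mem_zpowers s))) x hx e))
  obtain ⟨y, hy, h1⟩ := hP.exists_cj_le (p2 t2) (zpowers_le.2 ⟨ht, Or.inr e1⟩)
  have h2 := k1 _ hP.pgrp hP.le (mem_sup_left (mem_zpowers s)) _ (h1 (conj_mem_cj y (mem_zpowers t)))
    (by rw [h.rho_conj hy.1 ht, e1]; rcases hy.2 with e | e <;> simp [e])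
  obtain ⟨y, hy, y1, h2⟩ : ∃ y ∈ 𝐍[J], ρ y = 1 ∧ s⁻¹ * (y * t * y⁻¹) ∈ J := by
    rcases hy.2 with e | e
    · exact ⟨y, hy.1, e, h2⟩
    · refine ⟨s⁻¹ * y, mul_mem (inv_mem hs) hy.1, ?_, ?_⟩
      · rw [h.rho_mul (inv_mem hs) hy.1, h.rho_inv hs, e, inv_mul_cancel]
      · simpa only [mul_assoc, mul_inv_rev] using conj_mem_of_mem_normalizer (inv_mem hs) h2
  have yc := h.cz_lin hK hy (y1 ▸ IsLin.one)
  have y2 : ∀ x ∈ J, Commute (y ^ 2) x := fun x hx => by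
    have h3 := h.mem_of_pi hx (conj_mem_of_mem_normalizer hy hx) (by rw [h.act y hy x hx, y1]; rfl)
    have h4 : y * x * y⁻¹ = x * (x⁻¹ * (y * x * y⁻¹)) := by group
    generalize x⁻¹ * (y * x * y⁻¹) = u at h3 h4
    refine commute_of_conj_eq ?_
    rw [show y ^ 2 * x * (y ^ 2)⁻¹ = y * (y * x * y⁻¹) * y⁻¹ by simp only [sq]; group, h4,
      ← conj_mul, h4, conj_eq_of_commute (yc u h3), mul_assoc, h.zsq h3, mul_one]
  obtain ⟨k, m, ⟨l, hl⟩, hk⟩ := Nat.exists_eq_two_pow_mul_odd (orderOf_pos y).ne'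
  have hj : y ^ m ∈ J := h.triv _ (pow_mem hy _) (by rw [h.rho_pow hy, y1, one_pow]) k (by
    rw [← pow_mul, mul_comm, ← hk, pow_orderOf_eq_one])
  refine ⟨y ^ m * y, mul_mem (pow_mem hy _) hy, fun x hx => ?_, _,
    mul_mem (mul_mem (conj_mem_of_mem_normalizer (inv_mem hs) hj) h2) (inv_mem hj), by group⟩
  rw [← pow_succ, show m + 1 = 2 * (l + 1) by omega, pow_mul]
  exact (y2 x hx).pow_left _

omit [Finite G] in
theorem four {x : G} (hx : x ∈ J) (e1 : π x = x1) :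
    x = w ∨ x = w * z ∨ x = w * d ∨ x = w * d * z := by
  have := (h.memZ _).1 (h.mem_of_pi h.wJ hx (h.πw.trans e1.symm))
  simpa only [inv_mul_eq_iff_eq_mul, mul_one, mul_assoc] using this

omit [Finite G] in
theorem wdJ : w * d ∈ J := mul_mem h.wJ h.dJ

omit [Finite G] in
theorem pi_wd : π (w * d) = x1 := by rw [h.add _ h.wJ _ h.dJ, h.πw, h.pi_Z h.dZ, add_zero]

omit [Finite G] in
theorem exists_z {x : G} (hx : x ∈ J) (e1 : π x ≠ 0) : ∃ k ∈ J, k * (x * z) * k⁻¹ = x := by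
  by_contra hn
  refine e1 (h.pi_Z (h.mem_Z hx fun k hk => by_contra fun c => hn ⟨k, hk, ?_⟩))
  rw [← conj_mul, h.conj_of_ne hk hx c, conj_eq_of_commute (h.cent z h.zZ k hk), mul_assoc, h.zz,
    mul_one]

omit [Finite G] in
theorem exists_wz : ∃ n ∈ 𝐍[A], n * w * n⁻¹ = z := by
  obtain ⟨n, hn, e1⟩ := h.trans w h.wA fun c => x1_mem.1 (by rw [← h.πw, c, h.pi_one])
  exact ⟨n⁻¹, inv_mem hn, by rw [← e1]; group⟩

omit [Finite G] in
theorem cls_J (hs : SU Z J ρ) {t : G} (ht : t ∈ J) (t2 : t * t = 1) (hZ : t ∉ Z) :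
    ∃ g ∈ 𝐍[J] ⊔ 𝐍[A], g * t * g⁻¹ = z ∨ g * t * g⁻¹ = w * d := by
  obtain ⟨k, hk, e1⟩ := exists_K4_one (u := π t) ⟨mt (h.ker t ht).1 hZ, (h.sq' t ht).1 t2⟩
  obtain ⟨m, hm, -, rfl⟩ := h.lift4 hs hk
  obtain ⟨n, hn, e2⟩ := h.exists_wz
  obtain ⟨k1, h1, e3⟩ := h.exists_z h.wJ (h.πw ▸ x1_mem.1)
  obtain ⟨k2, h2, e4⟩ := h.exists_z h.wdJ (h.pi_wd ▸ x1_mem.1)
  have m' := mem_sup_left (T := 𝐍[A]) (inv_mem hm)
  have c : ∀ g k : G, g * k * t * (g * k)⁻¹ = g * (k * t * k⁻¹) * g⁻¹ := fun g k => by group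
  rcases h.four (conj_mem_of_mem_normalizer (inv_mem hm) ht) (by
    rw [h.act _ (inv_mem hm) _ ht, h.rho_inv hm, ← e1]; simp) with e | e | e | e
  · exact ⟨n * m⁻¹, mul_mem (mem_sup_right hn) m', Or.inl (by rw [c, e, e2])⟩
  · exact ⟨n * (k1 * m⁻¹), mul_mem (mem_sup_right hn) (mul_mem (mem_sup_left (le_normalizer h1)) m'),
      Or.inl (by rw [c, c, e, e3, e2])⟩
  · exact ⟨m⁻¹, m', Or.inr e⟩
  · exact ⟨k2 * m⁻¹, mul_mem (mem_sup_left (le_normalizer h2)) m', Or.inr (by rw [c, e, e4])⟩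

theorem exists_T (hK : HK Z J ρ) (hs : SU Z J ρ) :
    ∃ T, IsSyl 2 T 𝐍[J] ∧ J ≤ T ∧ ∀ t ∈ T, ρ t x1 = x1 := by
  obtain ⟨T, hT⟩ := exists_isSyl 2 𝐍[J]
  let _ : MulAction T (uS 4) :=
    { smul := fun t v => ⟨ρ t v, (h.isGa hK (hT.le t.2)).mem v.2⟩
      one_smul := fun v => Subtype.ext (congrArg (· v.1) h.rho_one)
      mul_smul := fun s t v => Subtype.ext (congrArg (· v.1) (h.rho_mul (hT.le s.2) (hT.le t.2))) }
  obtain ⟨c, hc⟩ := hT.pgrp.nonempty_fixed_point_of_prime_not_dvd_card (uS 4) (by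
    rw [card_uS4]; decide)
  obtain ⟨k, hk, e1⟩ := exists_K4_one c.2
  obtain ⟨m, hm, -, rfl⟩ := h.lift4 hs hk
  have hT' := hT.cj_of_mem (inv_mem hm)
  refine ⟨_, hT', hT'.le_of_le_normalizer h.isPGroup le_normalizer hT'.le, ?_⟩
  rintro _ ⟨t, ht, rfl⟩
  have : ρ t c = c := congrArg Subtype.val (hc ⟨t, ht⟩)
  change ρ (m⁻¹ * t * m⁻¹⁻¹) x1 = x1
  rw [h.rho_conj (inv_mem hm) (hT.le ht), h.rho_inv hm, inv_inv, Equiv.Perm.mul_apply,
    Equiv.Perm.mul_apply, e1, this, ← e1]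
  simp

theorem not_wd (hK : HK Z J ρ) (hs : SU Z J ρ) (hw : WF J z d) : ¬ IsConj d (w * d) := by
  intro hc
  obtain ⟨T, hT, hJ, hx⟩ := h.exists_T hK hs
  obtain ⟨n, -, e2⟩ := h.exists_wz
  obtain ⟨k1, -, e3⟩ := h.exists_z h.wJ (h.πw ▸ x1_mem.1)
  have c1 : IsConj w z := isConj_iff.2 ⟨n, e2⟩
  have c2 : IsConj (w * z) z := (isConj_iff.2 ⟨k1, e3⟩).trans c1
  have y2 : w * d * (w * d) = 1 := (h.sq' _ h.wdJ).2 (h.pi_wd ▸ x1_mem.2)
  generalize hy : w * d = y at hc y2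
  have yJ : y ∈ J := hy ▸ h.wdJ
  have py : π y = x1 := hy ▸ h.pi_wd
  have k1 : ∀ t ∈ T, t ∉ T ⊓ centralizer {y} → t * y * t⁻¹ = y * z := fun t ht c => by
    have c3 := isConj_conj hc t
    rcases h.four (conj_mem_of_mem_normalizer (hT.le ht) yJ) (by
      rw [h.act _ (hT.le ht) _ yJ, py, hx t ht]) with e | e | e | e
    · exact absurd ((e ▸ c3).trans c1).symm hw.zd
    · exact absurd ((e ▸ c3).trans c2).symm hw.zd
    · exact absurd ⟨ht, mem_centralizer_singleton_iff.2 (commute_of_conj_eq (e.trans hy))⟩ c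
    · exact hy ▸ e
  have k2 : Nat.card T ≤ 2 * Nat.card (T ⊓ centralizer {y} : Subgroup G) :=
    card_le_two_mul_of_mul_mem inf_le_left fun s hs t ht c c' => ⟨mul_mem hs ht,
      mem_centralizer_singleton_iff.2 (commute_of_conj_eq (by
        rw [show s * t * y * (s * t)⁻¹ = s * (t * y * t⁻¹) * s⁻¹ by group, k1 t ht c', ← conj_mul,
          k1 s hs c, conj_eq_of_commute (h.commz (hT.le hs)), mul_assoc, h.zz, mul_one]))⟩
  obtain ⟨P, hP, h1⟩ := exists_isSyl_ge (hT.pgrp.to_le (inf_le_left : T ⊓ centralizer {y} ≤ T))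
    (inf_le_right : _ ≤ centralizer {y})
  have k3 : P = T ⊓ centralizer {y} := by
    by_contra c
    have h2 : 2 * Nat.card (T ⊓ centralizer {y} : Subgroup G) ≤ Nat.card P := by
      obtain ⟨q, hq⟩ := card_dvd_of_le h1
      have h3 : 0 < Nat.card P := Nat.card_pos
      rcases q with _ | _ | q
      · omega
      · exact absurd (eq_of_le_of_card_ge h1 (by omega)).symm c
      · rw [hq]; nlinarith
    obtain ⟨u, -, h3⟩ := (hw.syl T hT).exists_cj_eq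
      ((hw.syl T hT).of_card_ge hP.pgrp le_top (k2.trans h2))
    have h4 : y ∈ P := hP.le_of_le_normalizer (R := zpowers y)
      (isPGroup_zpowers ⟨1, by simpa [sq] using y2⟩)
      (zpowers_le.2 (mem_centralizer_singleton_iff.2 rfl))
      (hP.le.trans ((centralizer_zpowers y).ge.trans (centralizer_le_normalizer' _))) (mem_zpowers y)
    rcases h.center_syl hT (h3 ▸ conj_mem_cj u h4) (by
      rw [← h3]
      rintro _ ⟨x, hx, rfl⟩
      exact (commute_conj_iff' u x y).2 (mem_centralizer_singleton_iff.1 (hP.le hx))) with e | e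
    · exact h.d1 (isConj_one_left.1 (e ▸ isConj_conj hc u))
    · exact hw.zd (e ▸ isConj_conj hc u).symm
  obtain ⟨g, hg⟩ := isConj_iff.1 hc
  obtain ⟨c, hc', h2⟩ := hP.exists_cj_le (isPGroup_cj g h.isPGroup) (by
    rw [← hg, centralizer_singleton_conj]
    exact cj_mono g fun x hx => mem_centralizer_singleton_iff.2 (h.cent d h.dZ x hx))
  rw [← cj_mul] at h2
  have h3 := hw.wc T hT.pgrp (c * g) 1 (h2.trans (k3.le.trans inf_le_left)) ((cj_one J).le.trans hJ)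
  rw [cj_one, cj_eq_iff] at h3
  have h4 := h.pi_Z (h.normZ h3 h.dZ)
  rw [show c * g * d * (c * g)⁻¹ = c * (g * d * g⁻¹) * c⁻¹ by group, hg,
    conj_eq_of_commute (mem_centralizer_singleton_iff.1 hc'), py] at h4
  exact x1_mem.1 h4

omit [Finite G] in
theorem sq_of_conj {t : G} (c : IsConj d t) : t * t = 1 := by
  obtain ⟨g, rfl⟩ := isConj_iff.1 c
  rw [conj_mul, h.dd]; simp

theorem mem_Z_of (hK : HK Z J ρ) (hs : SU Z J ρ) (hw : WF J z d) {t : G} (ht : t ∈ J)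
    (c : IsConj d t) : t ∈ Z := by
  by_contra hn
  obtain ⟨g, -, e1 | e1⟩ := h.cls_J hs ht (h.sq_of_conj c) hn
  · exact hw.zd (e1 ▸ isConj_conj c g).symm
  · exact h.not_wd hK hs hw (e1 ▸ isConj_conj c g)

theorem dJ' (hK : HK Z J ρ) (hs : SU Z J ρ) (hw : WF J z d) {t : G} (ht : t ∈ J)
    (c : IsConj d t) : t = d ∨ t = d * z := by
  rcases (h.memZ t).1 (h.mem_Z_of hK hs hw ht c) with e1 | e1 | e1
  exacts [absurd (isConj_one_left.1 (e1 ▸ c)) h.d1, absurd (e1 ▸ c).symm hw.zd, e1]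

theorem not_InJ (hK : HK Z J ρ) (hs : SU Z J ρ) (hw : WF J z d) {t : G} (c : IsConj d t) :
    ¬ InJ A J z d t := fun ⟨g, _, h1, h2, h3⟩ =>
  (h.dJ' hK hs hw h1 (isConj_conj c g)).elim h2 h3

omit [Finite G] in
theorem pi_tv {t k : G} {c : V4} (ht : t ∈ 𝐍[J]) (hc : c ∈ uS 4) (e1 : ρ t = tv c) (hk : k ∈ J)
    {x : G} (t2 : t * t = 1) (e2 : k * t * k⁻¹ = t * x) : π x = 𝐡 (π k) c • c := by
  have : x = t * k * t⁻¹ * k⁻¹ := by
    rw [inv_eq_of_mul_self t2, mul_assoc, mul_assoc, ← mul_assoc k, e2, ← mul_assoc, t2, one_mul]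
  rw [this, h.pi_comm ht hk, e1, tv_apply hc, add_comm (π k), v4_add_add']

omit [Finite G] in
theorem perp_of_sq {t x : G} {c : V4} (ht : t ∈ 𝐍[J]) (hc : c ∈ uS 4) (e1 : ρ t = tv c)
    (hx : x ∈ J) (t2 : t * t = 1) (x2 : t * x * (t * x) = 1) : 𝐡 (π x) c = 0 := by
  have h1 : t * x * t⁻¹ = x⁻¹ := by
    rw [inv_eq_of_mul_self t2, eq_inv_iff_mul_eq_one, ← x2]; group
  have h2 := h.act t ht x hx
  rw [h1, h.pi_inv hx, e1, tv_apply hc, left_eq_add, smul_eq_zero] at h2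
  exact h2.resolve_right hc.1

theorem stepE (hK : HK Z J ρ) (hs : SU Z J ρ) {x : G} (hx : x ∈ J) (x2 : e * x * (e * x) = 1) :
    (∃ s : GF4, π x = s • x1 ∧ ∃ k ∈ J, k * e * k⁻¹ = e * x) ∨ InJ A J z d (e * x) := by
  by_cases hn : ∃ s : GF4, π x = s • x1
  · obtain ⟨s, hs⟩ := hn
    exact (h.n3 x hx s hs).imp_left fun c => ⟨s, hs, c⟩
  push Not at hn
  right
  have p1 := h.perp_of_sq h.eM x1_mem h.ρe hx h.ee x2
  have p2 : x * x = 1 := by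
    rwa [(h.ec x hx p1).mul_mul_mul_comm, h.ee, one_mul] at x2
  obtain ⟨k, hk, s, s0, e1, e2⟩ := exists_K4_two x1_mem (v := π x)
    ⟨fun c => hn 0 (by rw [c, zero_smul]), (h.sq' x hx).1 p2⟩ p1 hn
  have kl := lin_of_mem_closure hk
  obtain ⟨m, hm, -, rfl⟩ := h.lift4 hs hk
  have e3 : (ρ m)⁻¹ x1 = s⁻¹ • x1 := by
    rw [Equiv.Perm.inv_eq_iff_eq, kl.smul, e1, inv_smul_smul₀ s0]
  obtain ⟨o, ho, oc, j, hj, e4⟩ := h.adj hK h.eM
    (mul_mem (mul_mem (inv_mem hm) h.eM) (inv_mem (inv_mem hm))) h.ee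
    (by rw [conj_mul, h.ee]; simp) (by
      rw [h.rho_conj (inv_mem hm) h.eM, h.rho_inv hm, h.ρe, kl.inv.ga.conj_tv x1_mem, e3,
        tv_smul x1_mem (inv_ne_zero s0)])
  obtain ⟨b, hb⟩ : ∃ b : GF4, π j = b • x1 := mem_span_of_bf fun v hv => by
    obtain ⟨y, hy, rfl⟩ := h.surj v
    refine (h.comm' y hy j hj).1 ?_
    have c1 := h.ec y hy hv
    have c2 := h.ec _ (conj_mem_of_mem_normalizer hm hy) (by
      rw [h.act m hm y hy, ← inv_smul_smul₀ s0 x1, ← e1, h4_smul_right, kl.form, hv, mul_zero])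
    have c3 := (commute_conj_iff' o _ _).2 (comm_conj_inv.1 c2)
    rw [e4, conj_eq_of_commute (oc y hy)] at c3
    simpa [← mul_assoc] using c1.inv_right.mul_right c3
  obtain ⟨v, hv⟩ := exists_h4_eq x1_mem.1 b
  obtain ⟨k, hk', rfl⟩ := h.surj v
  have x' := conj_mem_of_mem_normalizer (inv_mem hm) hx
  have k' := conj_mem_of_mem_normalizer (inv_mem h.eM) hk'
  refine InJ.of_conj (g := k * (o * m⁻¹))
    (mem_sup_left (mul_mem (le_normalizer hk') (mul_mem ho (inv_mem hm)))) ?_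
  have e5 : k * (o * m⁻¹) * (e * x) * (k * (o * m⁻¹))⁻¹ =
      e * (e⁻¹ * k * e⁻¹⁻¹ * (j * (m⁻¹ * x * m⁻¹⁻¹)) * k⁻¹) := by
    rw [show k * (o * m⁻¹) * (e * x) * (k * (o * m⁻¹))⁻¹ = k * (o * (m⁻¹ * e * m⁻¹⁻¹) * o⁻¹ *
      (o * (m⁻¹ * x * m⁻¹⁻¹) * o⁻¹)) * k⁻¹ by group, e4, conj_eq_of_commute (oc _ x')]
    group
  rw [e5]
  refine h.n2 _ (mul_mem (mul_mem k' (mul_mem hj x')) (inv_mem hk')) ?_
  rw [h.add _ (mul_mem k' (mul_mem hj x')) _ (inv_mem hk'), h.add _ k' _ (mul_mem hj x'),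
    h.add _ hj _ x', h.pi_inv hk', h.act _ (inv_mem h.eM) _ hk', h.act _ (inv_mem hm) _ hx,
    h.rho_inv h.eM, h.rho_inv hm, h.ρe, tv_inv x1_mem, tv_apply x1_mem, hv, hb, ← e2,
    show ∀ v, (ρ m)⁻¹ (ρ m v) = v from (ρ m).symm_apply_apply, add_assoc (π k), v4_add_add, add_comm (π k), v4_add_add']

theorem blk' (hK : HK Z J ρ) (hs : SU Z J ρ) (hw : WF J z d) {x : G} (hx : x ∈ J)
    (c : IsConj d (e * x)) : ∃ k ∈ J, k * e * k⁻¹ = e * x :=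
  ((h.stepE hK hs hx (h.sq_of_conj c)).resolve_right (h.not_InJ hK hs hw c)).elim fun _ c => c.2

theorem stepF (hK : HK Z J ρ) (hs : SU Z J ρ) {t : G} (ht : t ∈ 𝐍[J]) (t2 : t * t = 1)
    (hn : t ∉ J) : InJ A J z d t ∨ ∃ m ∈ 𝐍[J], CZ Z m ∧ m * e * m⁻¹ = t := by
  have r1 : ρ t ≠ 1 := fun c => hn (h.triv t ht c 1 (by simpa [sq] using t2))
  have r2 := h.rho_sq ht t2
  have key : ∀ m ∈ 𝐍[J], Commute (ρ m * ρ t * (ρ m)⁻¹) phi →
      (∀ c ∈ uS 4, ρ m * ρ t * (ρ m)⁻¹ ≠ tv c) → InJ A J z d t := fun m hm c1 c2 => by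
    rw [← h.rho_conj hm ht] at c1 c2
    have t2' : m * t * m⁻¹ * (m * t * m⁻¹) = 1 := by rw [conj_mul, t2]; simp
    refine InJ.of_conj (mem_sup_left hm) ?_
    refine (h.inv _ (mul_mem (mul_mem hm ht) (inv_mem hm)) t2' c1 (by
      rw [h.rho_conj hm ht]; simpa using r1) c2).elim id ?_
    rintro ⟨g, hg, x, hx, c3, c4⟩
    refine InJ.of_conj hg (c4 ▸ (h.stepE hK hs hx ?_).resolve_left fun ⟨s, c5, _⟩ => c3 s c5)
    rw [← c4, conj_mul, t2']; simp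
  rcases h.ga hK ht with ⟨-, h1⟩ | ⟨-, -, h1, h2⟩
  · rcases (lin_of_mem_closure h1).invol r2 r1 with ⟨c, hc, e1⟩ | ⟨u, hu, v, hv, e1, e2, e3⟩
    · obtain ⟨k, hk, rfl⟩ := exists_K4_one hc
      have kl := lin_of_mem_closure hk
      obtain ⟨m, hm, mz, rfl⟩ := h.lift4 hs hk
      obtain ⟨o, ho, oc, j, hj, e4⟩ := h.adj hK h.eM
        (mul_mem (mul_mem (inv_mem hm) ht) (inv_mem (inv_mem hm))) h.ee
        (by rw [conj_mul, t2]; simp) (by
          rw [h.rho_conj (inv_mem hm) ht, h.rho_inv hm, h.ρe, e1, ← kl.ga.conj_tv x1_mem]; group)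
      rcases h.stepE hK hs hj (by rw [← e4, conj_mul, conj_mul, t2]; simp) with ⟨-, -, k, hk, e5⟩ | e5
      · refine Or.inr ⟨m * o⁻¹ * k, mul_mem (mul_mem hm (inv_mem ho)) (le_normalizer hk),
          (mz.mul (CZ.inv fun y hy => oc y (h.le hy))).mul (h.cz hk), ?_⟩
        rw [show m * o⁻¹ * k * e * (m * o⁻¹ * k)⁻¹ = m * o⁻¹ * (k * e * k⁻¹) * (m * o⁻¹)⁻¹ by group,
          e5, ← e4]
        group
      · exact Or.inl (InJ.of_conj (mem_sup_left (inv_mem hm))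
          (InJ.of_conj (mem_sup_left ho) (e4 ▸ e5)))
    · obtain ⟨k, hk, s, s0, e4, e5⟩ := exists_K4_two hu hv e1 e2
      have kl := lin_of_mem_closure hk
      obtain ⟨m, hm, -, rfl⟩ := h.lift4 hs hk
      have e6 : ρ m⁻¹ * ρ t * (ρ m⁻¹)⁻¹ = tv x1 * tv x2 := by
        rw [h.rho_inv hm, e3, ← tv_smul hu s0, ← e4, ← e5, ← kl.ga.conj_tv x1_mem,
          ← kl.ga.conj_tv x2_mem]
        group
      refine Or.inl (key _ (inv_mem hm) ?_ fun c hc => ?_) <;> rw [e6]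
      · refine (Commute.mul_right (commute_of_conj_eq ?_) (commute_of_conj_eq ?_)).symm
        · rw [phi_semi.ga.conj_tv x1_mem, phi_x1]
        · rw [phi_semi.ga.conj_tv x2_mem, phi_x2]
      · exact U6R.tv_mul_ne x1_mem x2_mem hc (by rw [h4_x1]; decide)
  · obtain ⟨k, hk, e1⟩ := semi_conj h1 r2 h2
    have kl := lin_of_mem_closure hk
    obtain ⟨m, hm, -, rfl⟩ := h.lift4 hs hk
    exact Or.inl (key m hm e1 fun c hc e2 =>
      (tv_lin hc).not_semi (e2 ▸ (kl.mul_semi h1).mul_lin kl.inv))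

theorem dM' (hK : HK Z J ρ) (hs : SU Z J ρ) (hw : WF J z d) {t : G} (ht : t ∈ 𝐍[J])
    (c : IsConj d t) (hn : t ∉ J) : ∃ m ∈ 𝐍[J], CZ Z m ∧ m * e * m⁻¹ = t :=
  (h.stepF hK hs ht (h.sq_of_conj c) hn).resolve_left (h.not_InJ hK hs hw c)

theorem stepB (hK : HK Z J ρ) (hs : SU Z J ρ) (hw : WF J z d) {t : G} (ht : t ∈ 𝐍[J])
    (c : IsConj d t) (hn : t ∉ J) : CZ Z t ∧ ∃ c ∈ uS 4, ρ t = tv c ∧
      (∀ x ∈ J, 𝐡 (π x) c = 0 → Commute x t) ∧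
      ∀ x ∈ J, IsConj d (t * x) → ∃ k ∈ J, k * t * k⁻¹ = t * x := by
  obtain ⟨m, hm, mz, rfl⟩ := h.dM' hK hs hw ht c hn
  have mg := h.isGa hK hm
  refine ⟨(mz.mul h.eZ).mul mz.inv, _, mg.mem x1_mem, ?_, fun x hx e1 => ?_, fun x hx c => ?_⟩
  · rw [h.rho_conj hm h.eM, h.ρe, mg.conj_tv x1_mem]
  · refine (comm_conj_inv.2 (h.ec _ (conj_mem_of_mem_normalizer (inv_mem hm) hx) ?_).symm).symm
    rw [h.act _ (inv_mem hm) _ hx, h.rho_inv hm, ← mg.perp]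
    simpa using e1
  · obtain ⟨k, hk, e1⟩ := h.blk' hK hs hw (conj_mem_of_mem_normalizer (inv_mem hm) hx) (by
      convert isConj_conj c m⁻¹ using 1; group)
    refine ⟨_, conj_mem_of_mem_normalizer hm hk, ?_⟩
    rw [show m * k * m⁻¹ * (m * e * m⁻¹) * (m * k * m⁻¹)⁻¹ = m * (k * e * k⁻¹) * m⁻¹ by group, e1]
    group

theorem comm_M (hK : HK Z J ρ) (hs : SU Z J ρ) (hw : WF J z d) {s t : G} (sM : s ∈ 𝐍[J])
    (tM : t ∈ 𝐍[J]) (cs : IsConj d s) (ct : IsConj d t) {n : ℕ} (hn : (s * t) ^ 2 ^ n = 1) :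
    Commute s t := by
  have s2 := h.sq_of_conj cs
  have t2 := h.sq_of_conj ct
  have k1 : ∀ s ∈ J, ∀ t ∈ 𝐍[J], IsConj d s → IsConj d t → Commute t s := fun s hs' t ht cs ct => by
    by_cases c : t ∈ J
    · exact h.cent s (h.mem_Z_of hK hs hw hs' cs) t c
    · exact (h.stepB hK hs hw ht ct c).1 s (h.mem_Z_of hK hs hw hs' cs)
  by_cases sJ : s ∈ J
  · exact (k1 s sJ t tM cs ct).symm
  by_cases tJ : t ∈ J
  · exact k1 t tJ s sM ct cs
  obtain ⟨-, c, hc, a1, a2, a3⟩ := h.stepB hK hs hw sM cs sJ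
  obtain ⟨-, c', hc', b1, -, b3⟩ := h.stepB hK hs hw tM ct tJ
  have stM := mul_mem sM tM
  by_cases he : tv c = tv c'
  · have hj : s * t ∈ J := h.triv _ stM (by rw [h.rho_mul sM tM, a1, b1, he, tv_mul_self hc']) n hn
    have := a2 _ hj (h.perp_of_sq sM hc a1 hj s2 (by rw [← mul_assoc s s, s2, one_mul, t2]))
    exact (by simpa [← mul_assoc] using (Commute.refl s).inv_left.mul_left this : Commute t s).symm
  have p : 𝐡 c' c = 0 := perp_of_two_pow hc hc' (n := n) (by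
    rw [← a1, ← b1, ← h.rho_mul sM tM, ← h.rho_pow stM, hn, h.rho_one])
  have hj : s * t * (s * t) ∈ J := h.triv _ (mul_mem stM stM) (by
    rw [h.rho_mul stM stM, h.rho_mul sM tM, a1, b1, ← mul_assoc, tv_comm hc hc' p,
      tv_mul_self hc']) n (by rw [← sq, ← pow_mul, mul_comm, pow_mul, hn, one_pow])
  have si := inv_eq_of_mul_self s2
  have ti := inv_eq_of_mul_self t2
  have f1 : s * (s * t * (s * t)) = t * s * t⁻¹ := by
    rw [ti, ← mul_assoc, ← mul_assoc, ← mul_assoc, s2, one_mul]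
  have f2 : t * (s * t * (s * t))⁻¹ = s * t * s⁻¹ := by
    simp only [mul_inv_rev, si, ti, ← mul_assoc, t2, one_mul]
  obtain ⟨k, hk, e1⟩ := a3 _ hj (f1 ▸ isConj_conj cs t)
  obtain ⟨k', hk', e2⟩ := b3 _ (inv_mem hj) (f2 ▸ isConj_conj ct s)
  have e3 := h.pi_tv sM hc a1 hk s2 e1
  rw [← h.pi_inv hj, h.pi_tv tM hc' b1 hk' t2 e2] at e3
  have e4 : 𝐡 (π k) c = 0 := by
    by_contra c0
    exact he ((tv_eq_iff hc hc').2 ⟨_, by rw [mul_smul, e3, inv_smul_smul₀ c0]⟩)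
  rw [conj_eq_of_commute (a2 k hk e4), f1] at e1
  exact (commute_of_conj_eq e1.symm).symm

theorem not_zwd (hK : HK Z J ρ) (hs : SU Z J ρ) (hw : WF J z d) : ¬ IsConj z (w * d) := by
  classical
  intro hc
  obtain ⟨T, hT, hJ, hx⟩ := h.exists_T hK hs
  have yn : ∀ k ∈ J, k * (w * d) * k⁻¹ ≠ w := fun k hk c => by
    rcases h.comm k hk _ h.wdJ with e1 | e1 <;> rw [c] at e1
    · exact h.d1 (left_eq_mul.1 e1)
    · rw [mul_assoc, left_eq_mul] at e1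
      exact h.dz (by rw [eq_inv_of_mul_eq_one_left e1, inv_eq_of_mul_self h.zz])
  generalize hy : w * d = y at hc yn
  have yJ : y ∈ J := hy ▸ h.wdJ
  have py : π y = x1 := hy ▸ h.pi_wd
  have k1 : ∀ t ∈ T, IsConj d t → Commute t y := fun t ht c => by
    by_cases tJ : t ∈ J
    · exact (h.cent t (h.mem_Z_of hK hs hw tJ c) y yJ).symm
    · obtain ⟨-, c', hc', b1, b2, -⟩ := h.stepB hK hs hw (hT.le ht) c tJ
      have := hx t ht
      rw [b1, tv_apply hc', add_eq_left, smul_eq_zero] at this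
      exact (b2 y yJ (py ▸ this.resolve_right hc'.1)).symm
  obtain ⟨g0, hg0⟩ := isConj_iff.1 hc.symm
  obtain ⟨c, hc', h1⟩ := ((hw.syl T hT).mono (K := centralizer {z}) (fun t ht =>
    mem_centralizer_singleton_iff.2 (h.commz (hT.le ht))) le_top).exists_cj_le
    (isPGroup_cj g0 (hT.pgrp.to_le (inf_le_left : T ⊓ centralizer {y} ≤ T)))
    (by rw [← hg0, centralizer_singleton_conj]; exact cj_mono g0 inf_le_right)
  rw [← cj_mul] at h1
  have hg : c * g0 * y * (c * g0)⁻¹ = z := by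
    rw [show c * g0 * y * (c * g0)⁻¹ = c * (g0 * y * g0⁻¹) * c⁻¹ by group, hg0,
      conj_eq_of_commute (mem_centralizer_singleton_iff.1 hc')]
  generalize c * g0 = g at h1 hg
  have k2 : Function.Surjective fun t : {t // t ∈ T ∧ IsConj d t} =>
      (⟨g * t * g⁻¹, h1 (conj_mem_cj g ⟨t.2.1, mem_centralizer_singleton_iff.2 (k1 t t.2.1 t.2.2)⟩),
        isConj_conj t.2.2 g⟩ : {t // t ∈ T ∧ IsConj d t}) :=
    Finite.surjective_of_injective fun s t e => Subtype.ext ((conj_inj g).1 (congrArg Subtype.val e))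
  obtain ⟨⟨s, sT, cs⟩, e1⟩ := k2 ⟨d, hJ h.dJ, IsConj.refl d⟩
  obtain ⟨⟨t, tT, ct⟩, e2⟩ := k2 ⟨d * z, hJ (mul_mem h.dJ h.zJ), isConj_iff.2 ⟨a, h.ad⟩⟩
  replace e1 : g * s * g⁻¹ = d := congrArg Subtype.val e1
  replace e2 : g * t * g⁻¹ = d * z := congrArg Subtype.val e2
  obtain rfl : t = s * y := (conj_inj g).1 (by rw [e2, ← conj_mul, e1, hg])
  have sM := hT.le sT
  have s2 := h.sq_of_conj cs
  have sJ : s ∉ J := fun c => x1_mem.1 (by
    have := h.pi_Z (h.mem_Z_of hK hs hw (mul_mem c yJ) ct)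
    rwa [h.add _ c _ yJ, h.pi_Z (h.mem_Z_of hK hs hw c cs), zero_add, py] at this)
  obtain ⟨-, c, hc, a1, -, a3⟩ := h.stepB hK hs hw sM cs sJ
  obtain ⟨k, hk, e3⟩ := a3 y yJ ct
  have e4 := h.pi_tv sM hc a1 hk s2 e3
  obtain ⟨o, ho, oc, j, hj, e5⟩ := h.adj hK h.eM sM h.ee s2 (by
    rw [a1, h.ρe]; exact ((tv_eq_iff x1_mem hc).2 ⟨_, py.symm.trans e4⟩).symm)
  obtain ⟨k1, h2, e6⟩ := h.blk' hK hs hw hj (e5 ▸ isConj_conj cs o)
  obtain ⟨k3, h3, e7⟩ := h.ew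
  rw [(h.ec w h.wJ (h.πw ▸ x1_mem.2)).eq] at e7
  have h4 := conj_mem_of_mem_normalizer (le_normalizer (inv_mem h2)) hk
  have h5 := conj_mem_of_mem_normalizer (le_normalizer (inv_mem h2)) yJ
  have e8 : k1⁻¹ * k * k1⁻¹⁻¹ * e * (k1⁻¹ * k * k1⁻¹⁻¹)⁻¹ = e * (k1⁻¹ * y * k1⁻¹⁻¹) := by
    have : o * (k * s * k⁻¹) * o⁻¹ = o * (s * y) * o⁻¹ := by rw [e3]
    rw [← conj_mul, ← conj_mul, ← conj_mul, e5, ← e6, conj_eq_of_commute (oc k hk),
      conj_eq_of_commute (oc y yJ), conj_eq_of_commute (oc _ (inv_mem hk))] at this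
    rw [show k1⁻¹ * k * k1⁻¹⁻¹ * e * (k1⁻¹ * k * k1⁻¹⁻¹)⁻¹ = k1⁻¹ * (k * (k1 * e * k1⁻¹) * k⁻¹) * k1
      by group, this]
    group
  have e9 := h.pi_tv h.eM x1_mem h.ρe h4 h.ee e8
  rw [h.act _ (le_normalizer (inv_mem h2)) _ yJ, h.rho_of_mem (inv_mem h2), Equiv.Perm.one_apply,
    py] at e9
  replace e9 := (h.pi_tv h.eM x1_mem h.ρe h3 h.ee e7).symm.trans (h.πw.trans e9)
  have e10 := h.ec _ (mul_mem (inv_mem h3) h4) (by
    rw [h.add _ (inv_mem h3) _ h4, h.pi_inv h3, h4_add_left,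
      smul_left_injective GF4 x1_mem.1 e9, gf_add_self])
  refine yn _ (inv_mem h2) (mul_left_cancel (a := e) ?_)
  rw [← e8, ← e7]
  generalize k1⁻¹ * k * k1⁻¹⁻¹ = u at e10
  rw [show u * e * u⁻¹ = k3 * (k3⁻¹ * u * e * (k3⁻¹ * u)⁻¹) * k3⁻¹ by group, conj_eq_of_commute e10]

end

end Fr

/-- `M = N(J)`, `D = d^G ∋ d z, e`; lifts of elements of `K4` can be taken `CZ` (induction on `SU`).
(L) If `s, t ∈ M` are `2`-elements with `ρ s = ρ t = r`, `r² = 1`, then `y t y⁻¹ ∈ s J` for some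
`y ∈ ρ⁻¹⟨r⟩` (`J⟨s⟩`, `J⟨t⟩` are Sylow there by `triv`); elements with `ρ = 1` are `CZ`.
`π⁻¹(x1) = {w, w z, w d, w d z}`, `w ~ z` (`trans`), `w ~ w z`, `w d ~ w d z` under `J`.
`dJ`: an involution `t ∈ J - Z` is `M`-conjugate into `π⁻¹(x1)` (`exists_K4_one`), so `t ∈ D` gives
`w d ∈ D`. Take `T` Sylow in `M` with `ρ(T)` fixing `x1` (it fixes one of the `135` singular vectors).
`T` permutes `{w d, w d z}` as `z ≁ d`, so `|T : C_T(w d)| ≤ 2`. `d` is not `2`-central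
(`center_syl`, `zd`), so `C_T(w d)` is Sylow in `C(w d)` and contains a conjugate `J'` of `J` with
`w d ∈ Z(J')` (`w d = d^g`, `J^g ≤ C(w d)`); `wc` gives `J' = J`, `w d ∈ Z`, false.
Hence `InJ t` implies `t ∉ D`, and `t` is `⟨M,N⟩`-conjugate to `z` or `w d`.
(E) An involution `e x`, `x ∈ J`: `(e x)² = 1` gives `𝐡 (π x) x1 = 0`, so `e` commutes with `x` (`ec`),
`x² = 1`, `π x` singular. If `π x ∈ F₄ x1` use `n3`. Otherwise take `k ∈ K4` with `k x1 = s x1`,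
`k x2 = π x` (`exists_K4_two`), lift `m`; `m⁻¹ e m` lies over `tv x1`; by (L) adjust `m` by
`y ∈ ρ⁻¹⟨tv x1⟩` so that `m⁻¹ e m = e j`; it centralizes `π⁻¹(x1^⊥)`, so `π j ∈ F₄ x1`; so
`m⁻¹ e x m = e x'` with `π x' ∈ x2 + F₄ x1`; conjugating by `J` changes `π x'` by any element of
`F₄ x1` (`π (k e k⁻¹ e) = 𝐡 (π k) x1 • x1`), so `n2` applies: `InJ (e x)`. This gives `blk`.
`cls`, `dM`: an involution `t ∈ M - J`: `ρ t` is `tv c` (conjugate by a `CZ` lift to `tv x1`, (L),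
(E)), or `tv u * tv v` (conjugate to `tv x1 * tv x2`, `exists_K4_two`, then `inv`, (E)), or semilinear
(`semi_conj`, `inv`, (E)).
`comm`: conjugate `⟨s,t⟩` into `T ≤ M` (`syl`). Members of `D ⊓ M - J` are `CZ`, lie over some `tv c`
and centralize `π⁻¹(c^⊥)` (`dM`, `ec`). `s, t` over `tv c, tv c'`, `c ⊥ c'` (`perp_of_two_pow`). Same
transvection: `t = s j`, `t ∈ s^J` (`blk` conjugated), `π j ∈ F₄ c`, commute. Different points:
`s t s = k t k⁻¹` (`blk`), so `π ((s t)²) ∈ F₄ c' ⊓ F₄ c = 0`; then `𝐡 (π k) c' = 0`, `k` centralizes `t`.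
`zwd`: let `y = w d ~ z`, `T` as above. Every member of `D ⊓ T` centralizes `y` (`tv c` fixes `x1`, so
`x1 ⊥ c`). Extremal conjugation: `g y g⁻¹ = z`, `g C_T(y) g⁻¹ ≤ T` (`T` is Sylow in `C(z)`); it maps
the finite set `D ⊓ T` into itself, so onto; `z = d · d z` gives `y = s t`, `s ≠ t ∈ D ⊓ T`. So
`ρ s = ρ t`; not in `J` (`y ≠ z`); `t = k s k⁻¹`, `π y = x1` shows `ρ s = tv x1`. Write `s = m e m⁻¹`
(`dM`), `ρ m x1 = λ x1`; correcting with (L) one may take `m ∈ ρ⁻¹⟨tv x1⟩ · J`, which preserves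
`{w, w z}` [or: all products of two members of `e^J` are conjugate under `M` to `w`: `k e k⁻¹ e` depends
only on `𝐡 (π k) x1` up to `z`, and a lift of `dK` permutes]; by `ew` the products with `π = x1` are
`w, w z`; so `w d ∈ {w, w z}`, false. -/
theorem Fr.df (h : Fr A Z J z d a e w π ρ μ) (hK : HK Z J ρ) (hs : SU Z J ρ) (hw : WF J z d) :
    DF A Z J z d e w := by
  refine ⟨fun t => h.dJ' hK hs hw, fun t => h.dM' hK hs hw, fun x => h.blk' hK hs hw,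
    fun s t cs ct n hn => ?_, fun t ht t2 t1 => ?_, h.not_zwd hK hs hw⟩
  · obtain ⟨P, hP, h1, h2⟩ := exists_two_grp (h.sq_of_conj cs) (h.sq_of_conj ct) hn
    obtain ⟨T, hT⟩ := exists_isSyl 2 𝐍[J]
    obtain ⟨g, -, h3⟩ := (hw.syl T hT).exists_cj_le hP le_top
    exact (commute_conj_iff' g s t).1 (h.comm_M hK hs hw (hT.le (h3 (conj_mem_cj g h1)))
      (hT.le (h3 (conj_mem_cj g h2))) (isConj_conj cs g) (isConj_conj ct g) (n := n)
      (by rw [conj_mul, conj_pow, hn]; simp))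
  have c : ∀ g k : G, g * k * t * (g * k)⁻¹ = g * (k * t * k⁻¹) * g⁻¹ := fun g k => by group
  have key : InJ A J z d t → ∃ g ∈ 𝐍[J] ⊔ 𝐍[A],
      g * t * g⁻¹ = z ∨ g * t * g⁻¹ = d ∨ g * t * g⁻¹ = w * d := fun ⟨g, hg, h1, h2, h3⟩ => by
    by_cases hZ : g * t * g⁻¹ ∈ Z
    · rcases (h.memZ _).1 hZ with e1 | e1 | e1 | e1
      exacts [absurd (conj_eq_one_iff.1 e1) t1, ⟨g, hg, Or.inl e1⟩, absurd e1 h2, absurd e1 h3]
    · obtain ⟨k, hk, e1⟩ := h.cls_J hs h1 (by rw [conj_mul, t2]; simp) hZ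
      exact ⟨k * g, mul_mem hk hg, by rw [c]; exact e1.imp_right Or.inr⟩
  by_cases tJ : t ∈ J
  · by_cases h1 : t = d
    · exact ⟨1, one_mem _, Or.inr (Or.inl (by simp [h1]))⟩
    by_cases h2 : t = d * z
    · exact ⟨a⁻¹, mem_sup_left (inv_mem h.aM), Or.inr (Or.inl (by rw [h2, ← h.ad]; group))⟩
    exact key ⟨1, one_mem _, by simpa using tJ, by simpa using h1, by simpa using h2⟩
  · refine (h.stepF hK hs ht t2 tJ).elim key fun ⟨m, hm, _, e1⟩ => ?_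
    obtain ⟨n, hn, e2⟩ := h.de
    exact ⟨n⁻¹ * m⁻¹, mul_mem (mem_sup_right (inv_mem hn)) (mem_sup_left (inv_mem hm)),
      Or.inr (Or.inl (by rw [← e1, ← e2]; group))⟩

end Cfsg.Agent.F6
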