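import Mathlib
import Cfsg.Agent.F6.Weak
import Cfsg.Agent.Inv.CoreSig
import Cfsg.Agent.PLocal.PConstr
import Cfsg.Agent.Transfer.PCompl

/-! The frame modulo a normal subgroup of odd order. -/

set_option autoImplicit false

namespace Cfsg.Agent.F6

open Subgroup Cfsg.Agent.Class TT TT.UQ U6R ZJ Cfsg.Agent.PLocal.Amb

theorem fin_bf_dc {u v : V4} (h : ∀ x, bf x u = 0 → bf x v = 0) : v = 0 ∨ v + u = 0 := by
  by_contra! hn
  obtain ⟨x, hx⟩ := not_forall.1 (mt eq_zero_of_bf hn.1)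
  obtain ⟨y, hy⟩ := not_forall.1 (mt eq_zero_of_bf hn.2)
  have h1 := mt (h x) hx
  have h2 := h y
  have h3 := h (x + y)
  rw [bf_add_right] at hy
  rw [bf_add_left, bf_add_left] at h3
  rcases bf_cases x u with a | a <;> rcases bf_cases x v with b | b <;>
    rcases bf_cases y u with c | c <;> rcases bf_cases y v with d | d <;>
      simp only [a, b, c, d] at * <;> revert hx hy h1 h2 h3 <;> decide

theorem fin_bf_ns (v : V4) : ∃ u, bf u v = 0 ∧ 𝐡 u u ≠ 0 := by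
  have : ∀ v : V4, ∃ s : GF4, hd (s • e0) v + hd v (s • e0) = 0 ∧ hd (s • e0) (s • e0) ≠ 0 :=
    forall4 (by decide +kernel)
  obtain ⟨s, h⟩ := this v
  exact ⟨s • e0, by simpa only [bf, h4_eq_hd] using h⟩

theorem fin_exists_two_tv (u : V4) : ∃ c ∈ uS 4, ∃ c' ∈ uS 4, phi c = c ∧ phi c' = c' ∧
    𝐡 ((tv c * tv c') x1) u = 0 := by
  have h0 : ∀ u : V4, ∃ a b : GF4, (a ≠ 0 ∨ b ≠ 0) ∧ hd ![a, a ^ 2, b, b ^ 2] u = 0 :=
    forall4 (by decide +kernel)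
  have h1 : ∀ s t : GF4, s ≠ 0 ∨ t ≠ 0 → ∃ a b a' b' : GF4, (a ≠ 0 ∨ b ≠ 0) ∧ (a' ≠ 0 ∨ b' ≠ 0) ∧
      tf ![a, a ^ 2, b, b ^ 2] (tf ![a', a' ^ 2, b', b' ^ 2] x1) = ![s, s ^ 2, t, t ^ 2] := by
    set_option synthInstance.maxSize 400 in decide +kernel
  have h2 : ∀ a b : GF4, a ≠ 0 ∨ b ≠ 0 → (![a, a ^ 2, b, b ^ 2] ≠ 0 ∧
      hd ![a, a ^ 2, b, b ^ 2] ![a, a ^ 2, b, b ^ 2] = 0) ∧
      phf ![a, a ^ 2, b, b ^ 2] = ![a, a ^ 2, b, b ^ 2] := by decide +kernel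
  obtain ⟨s, t, e0, h0⟩ := h0 u
  obtain ⟨a, b, a', b', e, e', h⟩ := h1 s t e0
  have m := mem_of_hd (h2 a b e).1
  have m' := mem_of_hd (h2 a' b' e').1
  exact ⟨_, m, _, m', (h2 a b e).2, (h2 a' b' e').2, by
    rw [Equiv.Perm.mul_apply, tv_eq_tf m, tv_eq_tf m', h4_eq_hd, h, h0]⟩

variable {G : Type*} [Group G] [Finite G] {A Z J : Subgroup G} {z d a e w : G} {π : G → V4}
  {ρ : G → P4} {μ : G → GF4}

theorem JM.fin_cent_of_odd (h : JM Z J z d π ρ) {v : G} (hv : v ∈ 𝐍[J]) (e : ρ v = 1)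
    (ho : Odd (orderOf v)) : v ∈ 𝐂[J] := by
  have h1 : CZ Z v := h.cz_of hv (Lyons.mem_cent.1 (Lyons.mem_of_odd_of_pow ho (k := 1) (by
    rw [pow_one, pow_two, Lyons.mem_cent]
    refine (commute_of_conj_eq ?_).symm
    rw [show v * v * d * (v * v)⁻¹ = v * (v * d * v⁻¹) * v⁻¹ by group]
    rcases h.conj_d hv with c | c
    · rw [c, c]
    · rw [c, ← conj_mul, c, conj_eq_of_commute (h.commz hv), mul_assoc, h.zz, mul_one]))).symm
  refine Lyons.mem_of_odd_of_pow ho (k := 1) (mem_centralizer_iff.2 fun x hx => ?_)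
  have h2 : v * x * v⁻¹ * x⁻¹ ∈ Z := (h.ker _ (mul_mem (conj_mem_of_mem_normalizer hv hx)
    (inv_mem hx))).1 (by rw [h.pi_comm hv hx, e]; exact v4_add_self _)
  refine (commute_of_conj_eq ?_).symm
  calc v ^ 2 ^ 1 * x * (v ^ 2 ^ 1)⁻¹
      = v * (v * x * v⁻¹ * x⁻¹) * v⁻¹ * (v * x * v⁻¹ * x⁻¹) * x := by rw [pow_one, pow_two]; group
    _ = x := by rw [conj_eq_of_commute (h1 _ h2), h.zsq h2, one_mul]

theorem JM.fin_ker_dec (h : JM Z J z d π ρ)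
    (hc : ∀ g, Commute g z → ∃ o ∈ Lyons.oc (centralizer {z}), ∃ m ∈ 𝐍[J], g = o * m) {m : G}
    (hm : m ∈ 𝐍[J]) (e : ρ m = 1) : ∃ j ∈ J, ∃ o ∈ Lyons.oc (centralizer {z}), m = j * o := by
  obtain ⟨u, v, hu, hv, ⟨k, hk⟩, ho, rfl⟩ := Transfer.exists_pPart_mul (p := 2) m
  have h0 : zpowers (⟨_, hm⟩ : 𝐍[J]) ≤ h.hom.ker := zpowers_le.2 e
  have h1 : ∀ y ∈ zpowers (u * v), y ∈ 𝐍[J] ∧ ρ y = 1 := by
    rintro _ ⟨n, rfl⟩
    exact ⟨zpow_mem hm n, h0 ⟨n, rfl⟩⟩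
  have ho' := Nat.coprime_two_right.1 ho
  have hS : IsSyl 2 Z 𝐂[J] := ⟨fun y hy => mem_centralizer_iff.2 fun x hx => h.cent y hy x hx,
    h.isPGroup.to_le h.le, fun R hR _ hl r hr => by
      obtain ⟨n, hn⟩ := isPGroup_iff.1 hR r hr
      have c := mem_centralizer_iff.1 (hl hr)
      have b := centralizer_le_normalizer' J (hl hr)
      exact h.mem_Z (h.triv r b (h.rho_ext b fun x hx => by
        rw [conj_eq_of_commute (Commute.symm (c x hx))]; rfl) n hn) c⟩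
  have hz : 𝐍[J] ≤ centralizer {z} := fun g hg => Lyons.mem_cent.2 (h.commz hg).symm
  exact ⟨u, h.triv u (h1 u hu).1 (h1 u hu).2 k hk, v, Lyons.le_oc_of_decomp
    (fun g hg => hc g (Lyons.mem_cent.1 hg).symm) hz
    ((Lyons.oc_le _).trans ((centralizer_le_normalizer' J).trans hz))
    ((normalizer_le_normalizer_centralizer J).trans (Lyons.norm_le_norm_oc _)) (Lyons.odd_oc _)
    (Lyons.burn_odd hS (inf_le_left.trans (centralizer_anti h.le))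
      (h.fin_cent_of_odd (h1 v hv).1 (h1 v hv).2 ho') ho'), rfl⟩

omit [Finite G] in
theorem Fr.fin_not_cz (h : Fr A Z J z d a e w π ρ μ) : ¬ CZ Z a := fun c => h.z1 (by
  have := h.ad
  rwa [conj_eq_of_commute (c d h.dZ), left_eq_mul] at this)

theorem Fr.fin_quot (h : Fr A Z J z d a e w π ρ μ) (hK : HK Z J ρ) (hs : SU Z J ρ)
    (hc : ∀ g, Commute g z → ∃ o ∈ Lyons.oc (centralizer {z}), ∃ m ∈ 𝐍[J], g = o * m)
    {L : Subgroup G} (hL : centralizer {z} ≤ L) {X : Type*} [Group X] (φ : L →* X)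
    (hφ : Function.Surjective φ) (ho : ∀ g, φ g = 1 → Odd (orderOf g))
    (hθ : ∀ o : L, (o : G) ∈ Lyons.oc (centralizer {z}) → φ o = 1) {z' a' : L}
    (hz : (z' : G) = z) (ha : (a' : G) = a) :
    ∃ π' ρ', NS (φ z') ((Z.subgroupOf L).map φ) ((J.subgroupOf L).map φ) π' ρ' ∧
      (∀ g, CZ ((Z.subgroupOf L).map φ) g → ρ' g ∈ K4) ∧ Four (φ z') ((Z.subgroupOf L).map φ) ∧
      Commute (φ a') (φ z') ∧ ¬ CZ ((Z.subgroupOf L).map φ) (φ a') := by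
  classical
  subst hz ha
  have hM : 𝐍[J] ≤ L := fun g hg => hL (Lyons.mem_cent.2 (h.commz hg).symm)
  have hJ : J ≤ L := le_normalizer.trans hM
  have im : ∀ {x y : L}, (x : G) = y → φ x = φ y := fun e => congrArg φ (Subtype.ext e)
  have inj : ∀ {x y : L}, (x : G) ∈ J → (y : G) ∈ J → φ x = φ y → (x : G) = y := by
    intro x y hx hy e
    have := ho (x⁻¹ * y) (by rw [map_mul, map_inv, e, inv_mul_cancel])
    rw [← orderOf_coe] at this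
    exact inv_mul_eq_one.1 (Lyons.eq_one_of_odd h.isPGroup (mul_mem (inv_mem hx) hy) this)
  have cm : ∀ {x y : L}, Commute (x : G) y → Commute (φ x) (φ y) := fun {x y} e =>
    Commute.map (Subtype.ext e.eq : x * y = y * x) φ
  have cm' : ∀ {x y : L}, (x : G) ∈ 𝐍[J] → (y : G) ∈ J → Commute (φ x) (φ y) →
      Commute (x : G) y := fun {x y} hx hy e => commute_of_conj_eq
    (inj (x := x * y * x⁻¹) (conj_mem_of_mem_normalizer hx hy) hy (by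
      rw [map_mul, map_mul, map_inv, conj_eq_of_commute e]))
  have mZ : ∀ {x : L}, (x : G) ∈ J → (φ x ∈ (Z.subgroupOf L).map φ ↔ (x : G) ∈ Z) :=
    fun {x} hx => ⟨fun ⟨y, hy, e⟩ => inj (h.le hy) hx e ▸ hy, fun c => mem_map_of_mem φ c⟩
  have z2 : z' * z' = 1 := Subtype.ext h.zz
  have up : ∀ g, Commute g (φ z') → ∃ m : L, (m : G) ∈ 𝐍[J] ∧ φ m = g := by
    intro g hg
    obtain ⟨g, rfl⟩ := hφ g
    have h1 : φ (z' * (g * z' * g⁻¹)) = 1 := by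
      rw [map_mul, map_mul, map_mul, map_inv, conj_eq_of_commute hg, ← map_mul, z2, map_one]
    obtain ⟨n, hn⟩ := Inv.exists_conj_of_odd_orderOf_mul z2 (by rw [conj_mul, z2]; simp) (ho _ h1)
    obtain ⟨o, h2, m, h3, h4⟩ := hc ((z' * (g * z' * g⁻¹)) ^ n * g : L)
      (congrArg Subtype.val (commute_of_conj_eq (Eq.trans (by group) hn) :
        Commute ((z' * (g * z' * g⁻¹)) ^ n * g) z'))
    have h5 := im (y := ⟨o, hL (Lyons.oc_le _ h2)⟩ * ⟨m, hM h3⟩) h4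
    rw [map_mul, map_pow, h1, one_pow, one_mul, map_mul, hθ ⟨o, _⟩ h2, one_mul] at h5
    exact ⟨_, h3, h5.symm⟩
  obtain ⟨π', hπ⟩ : ∃ π' : X → V4, ∀ y : L, (y : G) ∈ J → π' (φ y) = π y :=
    ⟨fun x => if c : ∃ y : L, (y : G) ∈ J ∧ φ y = x then π c.choose else 0, fun y hy => by
      have c : ∃ y' : L, (y' : G) ∈ J ∧ φ y' = φ y := ⟨y, hy, rfl⟩
      beta_reduce
      rw [dif_pos c, inj c.choose_spec.1 hy c.choose_spec.2]⟩
  obtain ⟨ρ', hρ⟩ : ∃ ρ' : X → P4, ∀ y : L, (y : G) ∈ 𝐍[J] → ρ' (φ y) = ρ y :=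
    ⟨fun x => if c : ∃ y : L, (y : G) ∈ 𝐍[J] ∧ φ y = x then ρ c.choose else 1, fun y hy => by
      have c : ∃ y' : L, (y' : G) ∈ 𝐍[J] ∧ φ y' = φ y := ⟨y, hy, rfl⟩
      beta_reduce
      rw [dif_pos c]
      refine h.rho_ext c.choose_spec.1 fun x hx => ?_
      rw [← h.act y hy x hx]
      exact congrArg π (inj (x := c.choose * ⟨x, hJ hx⟩ * c.choose⁻¹) (y := y * ⟨x, hJ hx⟩ * y⁻¹)
        (conj_mem_of_mem_normalizer c.choose_spec.1 hx) (conj_mem_of_mem_normalizer hy hx) (by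
          simp only [map_mul, map_inv, c.choose_spec.2]))⟩
  have cz : ∀ {m : L}, (m : G) ∈ 𝐍[J] → (CZ ((Z.subgroupOf L).map φ) (φ m) ↔ CZ Z m) :=
    fun {m} hm => ⟨fun c y hy => cm' (y := ⟨y, hJ (h.le hy)⟩) hm (h.le hy)
      (c _ (mem_map_of_mem φ hy)), by rintro c _ ⟨y, hy, rfl⟩; exact cm (c y hy)⟩
  have s1 : ∀ {x : L}, (x : G) ∈ J → (φ x * φ x = 1 ↔ (x : G) * x = 1) := fun {x} hx => by
    rw [← map_mul, ← map_one φ]
    exact ⟨inj (mul_mem hx hx) (one_mem J), fun c => im c⟩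
  have zm : φ z' ∈ (Z.subgroupOf L).map φ := mem_map_of_mem φ h.zZ
  refine ⟨π', ρ', ⟨⟨zm, fun c => h.z1 (inj h.zJ (one_mem J) (c.trans (map_one φ).symm)),
    map_mono (comap_mono h.le), ?_, ?_, ?_, ?_, ?_, ?_, fun g hg => ?_, fun g hg c => ?_⟩,
    ?_, fun v => ?_, ?_, ?_, ?_, fun g hg => ?_, fun g hg => ?_, fun c hc => ?_⟩,
    fun g hg => ?_, ?_, cm (h.commz h.aM), mt (cz h.aM).1 h.fin_not_cz⟩
  · rintro _ ⟨y, hy, rfl⟩
    exact (s1 (h.le hy)).2 (h.zsq hy)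
  · rintro _ ⟨y, hy, rfl⟩ _ ⟨x, hx, rfl⟩
    exact cm (h.cent y hy x hx)
  · rintro _ ⟨x, hx, rfl⟩ _ ⟨y, hy, rfl⟩
    rw [← map_inv, ← map_mul, ← map_mul, Eqv, ← map_mul]
    exact (h.comm x hx y hy).imp im im
  · rintro _ ⟨x, hx, rfl⟩
    exact (h.sq x hx).imp (s1 hx).2 fun c => (map_mul φ x x).symm.trans (im c)
  · rintro _ ⟨x, hx : (x : G) ∈ J, rfl⟩ _ ⟨y, hy : (y : G) ∈ J, rfl⟩ c
    rw [← map_mul, mZ hy, mZ (x := y * x) (mul_mem hy hx), coe_mul, ← h.ker _ hy,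
      ← h.ker _ (mul_mem hy hx), h.add _ hy _ hx]
    refine fin_bf_dc fun v hv => ?_
    obtain ⟨t, ht, rfl⟩ := h.surj v
    exact (h.comm' t ht y hy).1 (cm' (x := ⟨t, hJ ht⟩) (le_normalizer ht) hy
      (c _ (mem_map_of_mem φ ht) (cm ((h.comm' t ht x hx).2 hv))))
  · rintro _ ⟨t, ht, rfl⟩
    obtain ⟨u, h1, h2⟩ := fin_bf_ns (π t)
    obtain ⟨x, hx, rfl⟩ := h.surj u
    exact ⟨φ ⟨x, hJ hx⟩, mem_map_of_mem φ hx, cm ((h.comm' x hx t ht).2 h1),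
      (map_mul φ _ _).symm.trans (im ((h.sq x hx).resolve_left (mt (h.sq' x hx).1 h2)))⟩
  · obtain ⟨m, hm, rfl⟩ := up g hg
    rintro _ ⟨x, hx, rfl⟩
    rw [← map_inv, ← map_mul, ← map_mul]
    exact mem_map_of_mem φ (conj_mem_of_mem_normalizer (Q := J) hm hx)
  · obtain ⟨m, hm, rfl⟩ := up g hg
    obtain ⟨j, hj, o, h1, h2⟩ := h.fin_ker_dec hc hm (h.rho_ext hm fun x hx => by
      have b := mul_mem (conj_mem_of_mem_normalizer hm hx) (inv_mem hx)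
      have := c _ (mem_map_of_mem φ (x := ⟨x, hJ hx⟩) hx)
      rw [← map_inv, ← map_inv, ← map_mul, ← map_mul, ← map_mul, mZ b] at this
      have := h.pi_Z this
      rw [h.act m hm x hx]
      exact v4_eq_of_add ((h.pi_comm hm hx).symm.trans this))
    rw [im (y := ⟨j, hJ hj⟩ * ⟨o, hL (Lyons.oc_le _ h1)⟩) h2, map_mul, hθ ⟨o, _⟩ h1, mul_one]
    exact mem_map_of_mem φ hj
  · rintro _ ⟨x, hx : (x : G) ∈ J, rfl⟩ _ ⟨y, hy : (y : G) ∈ J, rfl⟩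
    rw [← map_mul, hπ (x * y) (mul_mem hx hy), hπ x hx, hπ y hy, coe_mul, h.add _ hx _ hy]
  · obtain ⟨x, hx, rfl⟩ := h.surj v
    exact ⟨φ ⟨x, hJ hx⟩, mem_map_of_mem φ hx, hπ _ hx⟩
  · rintro _ ⟨x, hx, rfl⟩
    rw [hπ x hx, mZ hx, h.ker x hx]
  · rintro _ ⟨x, hx, rfl⟩
    rw [hπ x hx, s1 hx, h.sq' x hx]
  · rintro _ ⟨x, hx, rfl⟩ _ ⟨y, hy, rfl⟩
    rw [hπ x hx, hπ y hy, ← h.comm' x hx y hy]
    exact ⟨cm' (le_normalizer hx) hy, cm⟩
  · obtain ⟨m, hm, rfl⟩ := up g hg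
    rintro _ ⟨x, hx, rfl⟩
    rw [← map_inv, ← map_mul, ← map_mul, hρ m hm, hπ x hx,
      hπ (m * x * m⁻¹) (conj_mem_of_mem_normalizer (Q := J) hm hx), ← h.act m hm x hx]
    rfl
  · obtain ⟨m, hm, rfl⟩ := up g hg
    rw [hρ m hm]
    exact (h.ga hK hm).imp (fun c => lin_of_mem_closure c.2) fun c => c.2.2.1
  · obtain ⟨g, h1, h2, h3⟩ := hs c hc
    exact ⟨φ ⟨g, hM h1⟩, (cz h1).2 h2, (hρ _ h1).trans h3⟩
  · obtain ⟨m, hm, rfl⟩ := up g (hg _ zm)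
    rw [hρ m hm]
    exact hK m hm ((cz hm).1 hg)
  · rintro _ ⟨y, hy, rfl⟩ y1 yz _ ⟨x, hx, rfl⟩
    rw [← map_mul, ← map_one φ]
    rw [← map_one φ] at y1
    rcases (h.memZ x).1 hx with c | c | c | c
    · exact .inl (im c)
    · exact .inr (.inl (im c))
    all_goals rcases (h.memZ y).1 hy with b | b | b | b
    exacts [absurd (im b) y1, absurd (im b) yz, .inr (.inr (.inl (im (c.trans b.symm)))),
      .inr (.inr (.inr (im (by rw [coe_mul, b, c, mul_assoc, h.zz, mul_one])))),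
      absurd (im b) y1, absurd (im b) yz, .inr (.inr (.inr (im (by rw [coe_mul, b, c])))),
      .inr (.inr (.inl (im (c.trans b.symm))))]

end Cfsg.Agent.F6
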