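import Mathlib
import Cfsg.Agent.F6.Defs

/-! The model `2⁶ : Sp₆(2)`. -/

set_option autoImplicit false

namespace Cfsg.Agent.F6

open Subgroup Cfsg.Agent.Class TT TT.UQ U6R ZJ Cfsg.Agent.PLocal.Amb

theorem mem_all6 (v : V6) : v ∈ all6 := by revert v; refine forall3 ?_; decide +kernel

theorem nodup_all6 : all6.Nodup := by decide +kernel

namespace Md

/-- The basis vectors. -/
abbrev sg (i : Fin 3) (c : GF4) : V6 := Pi.single i c

theorem coord0 (i : Fin 3) (v : V6) : f6 v (sg i 1) = 0 → f6 v (sg i om) = 0 → v i = 0 := by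
  revert v i; rw [forall_comm]; refine forall3 ?_; decide +kernel

theorem coord1 (i : Fin 3) (v : V6) : f6 v (sg i 1) = 0 ↔ v i ^ 2 = v i := by
  revert v i; rw [forall_comm]; refine forall3 ?_; decide +kernel

theorem coord2 (i : Fin 3) (v : V6) : v i ^ 2 = v i → f6 v (sg i om) = v i := by
  revert v i; rw [forall_comm]; refine forall3 ?_; decide +kernel

theorem f6_sg (i : Fin 3) (c : GF4) {v : V6} (h : v i = 0) : f6 (sg i c) v = 0 := by
  fin_cases i <;> simp_all [f6]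

theorem dec (v : V6) : v = sg 0 (v 0) + sg 1 (v 1) + sg 2 (v 2) := by
  funext i; fin_cases i <;> simp

theorem sg_add (i : Fin 3) (c d : GF4) : sg i (c + d) = sg i c + sg i d := Pi.single_add _ _ _

theorem f6_one_om : ∀ k : Fin 3, f6 (sg k 1) (sg k om) = 1 := by decide

theorem ind6 {p : V6 → Prop} (ha : ∀ x y, p x → p y → p (x + y)) (h1 : ∀ i, p (sg i 1))
    (h2 : ∀ i, p (sg i om)) (v : V6) : p v := by
  have k : ∀ i c, p (sg i c) := fun i c => by
    rcases (by decide : ∀ c : GF4, c = 1 + 1 ∨ c = 1 ∨ c = om ∨ c = 1 + om) c with rfl | rfl | rfl | rfl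
    · rw [sg_add]; exact ha _ _ (h1 i) (h1 i)
    · exact h1 i
    · exact h2 i
    · rw [sg_add]; exact ha _ _ (h1 i) (h2 i)
  exact dec v ▸ ha _ _ (ha _ _ (k _ _) (k _ _)) (k _ _)

theorem ind3 {p : V6 → Prop} (ha : ∀ x y, p x → p y → p (x + y)) (h1 : ∀ i, p (sg i 1))
    (v : V6) (hv : ∀ i, v i ^ 2 = v i) : p v := by
  have k : ∀ i c, c ^ 2 = c → p (sg i c) := fun i c hc => by
    rcases (by decide : ∀ c : GF4, c ^ 2 = c → c = 1 + 1 ∨ c = 1) c hc with rfl | rfl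
    · rw [sg_add]; exact ha _ _ (h1 i) (h1 i)
    · exact h1 i
  exact dec v ▸ ha _ _ (ha _ _ (k _ _ (hv _)) (k _ _ (hv _))) (k _ _ (hv _))

theorem aa (x y : V6) : x + y + y = x := by rw [add_assoc, v6_add_self, add_zero]

theorem aa' (x y : V6) : x + (x + y) = y := by rw [← add_assoc, v6_add_self, zero_add]

theorem f6_zero_right (v : V6) : f6 v 0 = 0 := by rw [f6_comm, f6_zero_left]

/-- The linear part. -/
def lin (g : P6) (y : V6) : V6 := g y + g 0

end Md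

open Md

theorem eq_zero_of_f6 {v : V6} (h : ∀ x, f6 x v = 0) : v = 0 :=
  funext fun i => coord0 i v (by rw [f6_comm, h]) (by rw [f6_comm, h])

theorem IsAS.lin_add {g : P6} (hg : IsAS g) (x y : V6) : lin g (x + y) = lin g x + lin g y := by
  rw [lin, lin, lin, hg.add, aa, add_add_add_comm, v6_add_self, add_zero]

theorem IsAS.lin_mul {g : P6} (hg : IsAS g) (k : P6) (y : V6) : lin (g * k) y = lin g (lin k y) := by
  simp only [lin, Equiv.Perm.mul_apply]
  rw [hg.add, aa]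

theorem IsAS.lin_inj {g : P6} {x y : V6} (e : lin g x = lin g y) : x = y := g.injective (add_right_cancel e)

theorem IsAS.one : IsAS 1 := ⟨fun _ _ => by simp, fun _ _ => by simp⟩

theorem IsAS.mul {g k : P6} (hg : IsAS g) (hk : IsAS k) : IsAS (g * k) :=
  ⟨fun x y => by
    simp only [Equiv.Perm.mul_apply]
    rw [hk.add, hg.add, hg.add, add_right_comm _ (g 0), aa], fun x y =>
    (congrArg₂ f6 (hg.lin_mul k x) (hg.lin_mul k y)).trans ((hg.form _ _).trans (hk.form x y))⟩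

theorem IsAS.pow {g : P6} (hg : IsAS g) (n : ℕ) : IsAS (g ^ n) := by
  induction n with
  | zero => exact pow_zero g ▸ IsAS.one
  | succ n ih => exact pow_succ g n ▸ ih.mul hg

theorem IsAS.inv {g : P6} (hg : IsAS g) : IsAS g⁻¹ := by
  rw [inv_eq_of_mul_eq_one_left (show g ^ (orderOf g - 1) * g = 1 by
    rw [← pow_succ, Nat.sub_add_cancel (orderOf_pos g), pow_orderOf_eq_one])]
  exact hg.pow _

theorem isAS_tr (x : V6) : IsAS (tr x) :=
  ⟨fun u v => by
    simp only [tr_apply, zero_add]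
    rw [add_add_add_comm, v6_add_self, add_zero], fun u v => by simp only [tr_apply, zero_add, aa]⟩

theorem rv_at_zero (v : V6) : rv v 0 = 0 := by simp [rv_apply, f6_zero_left]

theorem isAS_rv (v : V6) : IsAS (rv v) :=
  ⟨fun x y => by
    rw [rv_at_zero, add_zero, rv_apply, rv_apply, rv_apply, f6_add_left, add_smul, add_add_add_comm], fun x y => by
    rw [rv_at_zero, add_zero, add_zero, rv_apply, rv_apply]
    rcases f6_cases x v with a | a <;> rcases f6_cases y v with b | b <;>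
      simp [a, b, f6_add_left, f6_add_right, f6_self, f6_comm v y, add_assoc, gf_add_self]⟩

theorem IsAS.conj_tr {g : P6} (hg : IsAS g) (x : V6) : g * tr x * g⁻¹ = tr (g x + g 0) := by
  rw [mul_inv_eq_iff_eq_mul]
  exact Equiv.ext fun y => (hg.add y x).trans (add_assoc _ _ _)

theorem IsAS.conj_rv {g : P6} (hg : IsAS g) (h0 : g 0 = 0) (v : V6) :
    g * rv v * g⁻¹ = rv (g v) := by
  rw [mul_inv_eq_iff_eq_mul]
  refine Equiv.ext fun y => ?_
  have := hg.form y v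
  rw [h0, add_zero, add_zero] at this
  simp only [Equiv.Perm.mul_apply, rv_apply, this]
  rcases f6_cases y v with a | a <;> simp [a, hg.add, h0]

namespace Md

theorem rv_fix {w x : V6} (h : f6 x w = 0) : rv w x = x := by simp [rv_apply, h]

theorem rv_move {u v : V6} (h : f6 u v = 1) : rv (u + v) u = v := by
  rw [rv_apply, f6_add_right, f6_self, zero_add, h, one_smul, aa']

theorem exists_mid (k : Fin 3) (u : V6) : (∀ i < k, u i = 0) → u ≠ 0 →
    ∃ y ∈ all6, (∀ i < k, y i = 0) ∧ f6 u y = 1 ∧ f6 y (sg k 1) = 1 := by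
  revert u k; rw [forall_comm]; refine forall3 ?_; decide +kernel

/-- Moving a vector to `e_k` without disturbing the first coordinates. -/
theorem move (k : Fin 3) {u : V6} (hu : ∀ i < k, u i = 0) (h0 : u ≠ 0) : ∃ a b : V6,
    (rv a * rv b) u = sg k 1 ∧ ∀ i < k, ∀ c, (rv a * rv b) (sg i c) = sg i c := by
  obtain ⟨y, -, h1, h2, h3⟩ := exists_mid k u hu h0
  refine ⟨y + sg k 1, u + y, by rw [Equiv.Perm.mul_apply, rv_move h2, rv_move h3], fun i hi c => ?_⟩
  rw [Equiv.Perm.mul_apply, rv_fix (f6_sg i c (by simp [hu i hi, h1 i hi])),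
    rv_fix (f6_sg i c (by simp [h1 i hi, hi.ne]))]

theorem move2 (k : Fin 3) {u : V6} (hu : ∀ i < k, u i = 0) (h0 : f6 u (sg k 1) = 1) : ∃ a b : V6,
    (rv a * rv b) u = sg k om ∧ (rv a * rv b) (sg k 1) = sg k 1 ∧
      ∀ i < k, ∀ c, (rv a * rv b) (sg i c) = sg i c := by
  have e1 := f6_one_om k
  have e2 : f6 (sg k 1) u = 1 := (f6_comm _ _).trans h0
  rcases f6_cases u (sg k om) with e | e
  · refine ⟨u + sg k 1 + sg k om, sg k 1, ?_, ?_, fun i hi c => ?_⟩ <;> rw [Equiv.Perm.mul_apply]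
    · rw [rv_apply (sg k 1), h0, one_smul, rv_move (by rw [f6_add_left, e, e1, zero_add])]
    · rw [rv_fix (f6_self _), rv_fix (by rw [f6_add_right, f6_add_right, e2, f6_self, e1]; decide)]
    · rw [rv_fix (f6_sg i c (by simp [hi.ne])), rv_fix (f6_sg i c (by simp [hu i hi, hi.ne]))]
  · refine ⟨u + sg k om, 0, ?_, ?_, fun i hi c => ?_⟩ <;> rw [Equiv.Perm.mul_apply, rv_fix (f6_zero_right _)]
    · exact rv_move e
    · exact rv_fix (by rw [f6_add_right, e2, e1]; decide)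
    · exact rv_fix (f6_sg i c (by simp [hu i hi, hi.ne]))

theorem mem_step {H : Subgroup P6} (h2 : ∀ v, rv v ∈ H) (k : Fin 3)
    (ih : ∀ σ, IsAS σ → σ 0 = 0 → (∀ i ≤ k, σ (sg i 1) = sg i 1 ∧ σ (sg i om) = sg i om) → σ ∈ H) {σ : P6}
    (hσ : IsAS σ) (h0 : σ 0 = 0) (h : ∀ i < k, σ (sg i 1) = sg i 1 ∧ σ (sg i om) = sg i om) : σ ∈ H := by
  have z : ∀ {τ : P6}, IsAS τ → τ 0 = 0 → (∀ i < k, τ (sg i 1) = sg i 1 ∧ τ (sg i om) = sg i om) → ∀ c,
      ∀ i < k, τ (sg k c) i = 0 := fun {τ} h1 h2 h3 c i hi => by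
    have f := h1.form (sg k c)
    simp only [h2, add_zero] at f
    exact coord0 i _ (by rw [← (h3 i hi).1, f, f6_sg k c (by simp [hi.ne'])])
      (by rw [← (h3 i hi).2, f, f6_sg k c (by simp [hi.ne'])])
  obtain ⟨a, b, e1, e2⟩ := move k (z hσ h0 h 1) fun e => by
    have := congrFun (σ.injective (e.trans h0.symm)) k
    simp at this
  have s1 := ((isAS_rv a).mul (isAS_rv b)).mul hσ
  have s0 : (rv a * rv b * σ) 0 = 0 := by simp only [Equiv.Perm.mul_apply, h0, rv_at_zero]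
  have s2 : ∀ i < k, (rv a * rv b * σ) (sg i 1) = sg i 1 ∧ (rv a * rv b * σ) (sg i om) = sg i om := fun i hi => by
    rw [Equiv.Perm.mul_apply, Equiv.Perm.mul_apply _ σ, (h i hi).1, (h i hi).2]
    exact ⟨e2 i hi _, e2 i hi _⟩
  have s3 : (rv a * rv b * σ) (sg k 1) = sg k 1 := e1
  refine (mul_mem_cancel_left (mul_mem (h2 a) (h2 b))).1 ?_
  generalize rv a * rv b * σ = τ at s0 s1 s2 s3
  obtain ⟨a, b, e1, e2, e3⟩ := move2 k (z s1 s0 s2 om) (by
    have f := s1.form (sg k om) (sg k 1)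
    rw [s0, add_zero, add_zero, s3] at f
    rw [f, f6_comm, f6_one_om])
  refine (mul_mem_cancel_left (mul_mem (h2 a) (h2 b))).1 (ih _ (((isAS_rv a).mul (isAS_rv b)).mul s1)
    (by simp only [Equiv.Perm.mul_apply, s0, rv_at_zero]) fun i hi => ?_)
  rw [Equiv.Perm.mul_apply, Equiv.Perm.mul_apply _ τ]
  rcases hi.lt_or_eq with hi | rfl
  · rw [(s2 i hi).1, (s2 i hi).2]
    exact ⟨e3 i hi _, e3 i hi _⟩
  · exact ⟨s3.symm ▸ e2, e1⟩

end Md

/-- Generation by translations and transvections. -/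
theorem IsAS.mem {H : Subgroup P6} (h1 : ∀ x, tr x ∈ H) (h2 : ∀ v, rv v ∈ H) {σ : P6}
    (hσ : IsAS σ) : σ ∈ H := by
  refine (mul_mem_cancel_left (h1 (σ 0))).1 (mem_step h2 0 (fun σ a b c => mem_step h2 1 (fun σ a b c =>
    mem_step h2 2 (fun σ a b c => ?_) a b fun i hi => c i (by omega)) a b fun i hi => c i (by omega))
    ((isAS_tr _).mul hσ) (v6_add_self _) fun i hi => absurd hi (by simp))
  rw [show σ = 1 from Equiv.ext (ind6 (p := fun v => σ v = v) (fun x y hx hy => by rw [a.add, b, hx, hy, add_zero])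
    (fun i => (c i (by omega)).1) fun i => (c i (by omega)).2)]
  exact one_mem _

theorem IsAS.ty_conj {g t : P6} (hg : IsAS g) (ht : IsAS t) : ty ⇑(g * t * g⁻¹) = ty ⇑t := by
  have cnt : ∀ (φ : V6 → V6), Function.Injective φ → ∀ p : V6 → Bool, all6.countP p = all6.countP (p ∘ φ) :=
    fun φ hφ p => by
      rw [← List.countP_map]
      refine List.Perm.countP_eq _ ((List.perm_ext_iff_of_nodup nodup_all6 (nodup_all6.map hφ)).2 fun v => ?_)
      obtain ⟨y, rfl⟩ := Finite.surjective_of_injective hφ v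
      exact iff_of_true (mem_all6 _) (List.mem_map_of_mem (mem_all6 y))
  have i1 : Function.Injective (lin g) := fun _ _ => IsAS.lin_inj
  have k : ∀ y, (g * t * g⁻¹) (lin g y) + (g * t * g⁻¹) 0 = lin g (t y + t 0) := fun y =>
    (((hg.mul ht).mul hg.inv).lin_mul g y).symm.trans (by rw [inv_mul_cancel_right, hg.lin_mul]; rfl)
  rw [ty, ty, Prod.mk.injEq, Prod.mk.injEq]
  refine ⟨(cnt g g.injective _).trans (List.countP_congr fun y _ => by simp),
    (cnt _ i1 _).trans (List.countP_congr fun y _ => by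
      simp only [Function.comp, k, i1.eq_iff]), Bool.eq_iff_iff.2 ?_⟩
  simp only [List.all_eq_true, mem_all6, true_imp_iff, decide_eq_true_eq]
  refine ⟨fun h y => ?_, fun h y => ?_⟩
  · rw [← hg.form]
    exact (congrArg _ (k y)).symm.trans (h _)
  · obtain ⟨y, rfl⟩ := Finite.surjective_of_injective i1 y
    rw [k]
    exact (hg.form _ _).trans (h y)

namespace Md

theorem lin_lin {t : P6} (ht : IsAS t) (h2 : t * t = 1) (v : V6) : lin t (lin t v) = v := by
  rw [← ht.lin_mul, h2]; exact add_zero v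

theorem adj {t : P6} (ht : IsAS t) (h2 : t * t = 1) (u v : V6) : f6 (lin t u + u) v = f6 u (lin t v + v) := by
  rw [f6_add_left, f6_add_right, ← ht.form (lin t u) v]
  exact congrArg (fun x => f6 x (lin t v) + f6 u v) (lin_lin ht h2 u)

theorem exists_vec {t : P6} (ht : IsAS t) (h2 : t * t = 1) (k : Fin 3) (h : ∀ i < k, lin t (sg i 1) = sg i 1) :
    ∃ v, lin t v = v ∧ (∀ i < k, v i = 0) ∧ v ≠ 0 := by
  by_cases h0 : ∃ y, ∃ j, k ≤ j ∧ (lin t y + y) j ≠ 0
  · obtain ⟨y, j, hj, e⟩ := h0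
    have e1 : lin t (lin t y + y) = lin t y + y := by rw [ht.lin_add, lin_lin ht h2, add_comm]
    have e2 : ∀ i < k, (lin t y + y) i ^ 2 = (lin t y + y) i := fun i hi =>
      (coord1 i _).1 (by rw [adj ht h2, h i hi, v6_add_self, f6_zero_right])
    generalize lin t y + y = v at e e1 e2
    have e3 : ∀ i < k, lin t (sg i (v i)) = sg i (v i) := fun i hi => by
      rcases (by decide : ∀ c : GF4, c ^ 2 = c → c = 0 ∨ c = 1) _ (e2 i hi) with a | a <;> rw [a]
      · rw [sg, Pi.single_zero]; exact v6_add_self _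
      · exact h i hi
    fin_cases k
    · exact ⟨v, e1, by simp, fun a => e (by simp [a])⟩
    · refine ⟨v + sg 0 (v 0), by rw [ht.lin_add, e1, e3 0 (by decide)], fun i hi => ?_, fun a => e ?_⟩
      · obtain rfl : i = 0 := by simpa using hi
        simp [gf_add_self]
      · simpa [show j ≠ 0 from fun b => by simp [b] at hj] using congrFun a j
    · refine ⟨v + sg 0 (v 0) + sg 1 (v 1), by rw [ht.lin_add, ht.lin_add, e1, e3 0 (by decide), e3 1 (by decide)],
        fun i hi => ?_, fun a => e ?_⟩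
      · fin_cases i <;> simp_all [gf_add_self]
      · obtain rfl : j = 2 := le_antisymm (Fin.le_last j) hj
        simpa using congrFun a 2
  · push Not at h0
    refine ⟨sg k 1, ?_, fun i hi => by simp [hi.ne], by simp⟩
    rw [← aa (lin t (sg k 1)) (sg k 1), eq_zero_of_f6 (v := lin t (sg k 1) + sg k 1) fun x => by
      rw [← adj ht h2, f6_comm, f6_sg k 1 (h0 x k le_rfl)], zero_add]

theorem conj_step {t : P6} (ht : IsAS t) (k : Fin 3) (h : ∀ i < k, lin t (sg i 1) = sg i 1) {v : V6}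
    (h1 : lin t v = v) (h2 : ∀ i < k, v i = 0) (h3 : v ≠ 0) : ∃ g, IsAS g ∧ g 0 = 0 ∧ g v = sg k 1 ∧
      (∀ i < k, g (sg i 1) = sg i 1) ∧ ∀ i ≤ k, lin (g * t * g⁻¹) (sg i 1) = sg i 1 := by
  obtain ⟨a, b, e1, e2⟩ := move k h2 h3
  have s1 := (isAS_rv a).mul (isAS_rv b)
  have s0 : (rv a * rv b) 0 = 0 := by simp only [Equiv.Perm.mul_apply, rv_at_zero]
  generalize rv a * rv b = g at e1 e2 s0 s1
  have k1 : ∀ y, lin t y = y → lin (g * t * g⁻¹) (g y) = g y := fun y hy => by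
    have l : ∀ y, lin g y = g y := fun y => by rw [lin, s0, add_zero]
    rw [← l, ← ((s1.mul ht).mul s1.inv).lin_mul, inv_mul_cancel_right, s1.lin_mul, hy]
  refine ⟨g, s1, s0, e1, fun i hi => e2 i hi 1, fun i hi => ?_⟩
  rcases hi.lt_or_eq with hi | rfl
  · exact e2 i hi 1 ▸ k1 _ (h i hi)
  · exact e1 ▸ k1 _ h1

theorem sq_conj {t : P6} (h2 : t * t = 1) (g : P6) : g * t * g⁻¹ * (g * t * g⁻¹) = 1 := by
  rw [conj_mul, h2, mul_one, mul_inv_cancel]

theorem step' {t : P6} (ht : IsAS t) (h2 : t * t = 1) (k : Fin 3) (hk : 0 < k)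
    (h : ∀ i < k, lin t (sg i 1) = sg i 1) (hx : t 0 = 0 ∨ t 0 = sg 0 1) : ∃ g, IsAS g ∧
      ((g * t * g⁻¹) 0 = 0 ∨ (g * t * g⁻¹) 0 = sg 0 1) ∧ ∀ i ≤ k, lin (g * t * g⁻¹) (sg i 1) = sg i 1 := by
  obtain ⟨v, h3, h4, h5⟩ := exists_vec ht h2 k h
  obtain ⟨g, g1, g0, -, g2, g3⟩ := conj_step ht k h h3 h4 h5
  refine ⟨g, g1, ?_, g3⟩
  rw [Equiv.Perm.mul_apply, Equiv.Perm.mul_apply, (Equiv.Perm.inv_eq_iff_eq.2 g0.symm : g⁻¹ 0 = 0)]
  exact hx.imp (fun e => by rw [e, g0]) fun e => by rw [e, g2 0 hk]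

end Md

/-- Every involution is conjugate into `E₀ = A₃ U'`. -/
theorem IsAS.exists_conj {t : P6} (ht : IsAS t) (h2 : t * t = 1) : ∃ g, IsAS g ∧
    (∀ i, (g * t * g⁻¹) 0 i ^ 2 = (g * t * g⁻¹) 0 i) ∧
      ∀ v : V6, (∀ i, v i ^ 2 = v i) → (g * t * g⁻¹) v + (g * t * g⁻¹) 0 = v := by
  obtain ⟨g, g1, g2, g3⟩ : ∃ g, IsAS g ∧ ((g * t * g⁻¹) 0 = 0 ∨ (g * t * g⁻¹) 0 = sg 0 1) ∧
      ∀ i ≤ 0, lin (g * t * g⁻¹) (sg i 1) = sg i 1 := by
    obtain ⟨v, h3, h4, h5⟩ : ∃ v, lin t v = v ∧ v ≠ 0 ∧ (t 0 = 0 ∨ t 0 = v) := by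
      by_cases h0 : t 0 = 0
      · obtain ⟨v, h3, -, h5⟩ := exists_vec ht h2 0 (by simp)
        exact ⟨v, h3, h5, Or.inl h0⟩
      · exact ⟨t 0, by rw [lin, ← Equiv.Perm.mul_apply, h2]; exact zero_add _, h0, Or.inr rfl⟩
    obtain ⟨g, g1, g0, g2, -, g3⟩ := conj_step ht 0 (by simp) h3 (by simp) h4
    refine ⟨g, g1, ?_, g3⟩
    rw [Equiv.Perm.mul_apply, Equiv.Perm.mul_apply, (Equiv.Perm.inv_eq_iff_eq.2 g0.symm : g⁻¹ 0 = 0)]
    exact h5.imp (fun e => by rw [e, g0]) fun e => by rw [e, g2]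
  have t1 := (g1.mul ht).mul g1.inv
  obtain ⟨k, k1, k2, k3⟩ := step' t1 (sq_conj h2 g) 1 (by decide) (fun i hi => g3 i (by omega)) g2
  have t2 := (k1.mul t1).mul k1.inv
  obtain ⟨l, l1, l2, l3⟩ := step' t2 (sq_conj (sq_conj h2 g) k) 2 (by decide) (fun i hi => k3 i (by omega)) k2
  have t3 := (l1.mul t2).mul l1.inv
  refine ⟨l * k * g, (l1.mul k1).mul g1, ?_⟩
  rw [show l * k * g * t * (l * k * g)⁻¹ = l * (k * (g * t * g⁻¹) * k⁻¹) * l⁻¹ by group]
  refine ⟨fun i => ?_, ind3 (p := fun v => lin _ v = v) (fun x y hx hy => by rw [t3.lin_add, hx, hy])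
    fun i => l3 i (by omega)⟩
  rcases l2 with e | e <;> rw [e] <;> revert i <;> decide
end Cfsg.Agent.F6
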