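import Mathlib
import Cfsg.Agent.F6.ModA

/-! The model `2⁶ : Sp₆(2)`: classes of involutions. -/

set_option autoImplicit false

namespace Cfsg.Agent.F6

open Subgroup Cfsg.Agent.Class TT TT.UQ U6R ZJ Cfsg.Agent.PLocal.Amb Md


namespace Md

/-- Vectors as numbers below `64`. -/
def bt (n i : ℕ) : ZMod 2 := bif n.testBit i then 1 else 0

def vec (n : ℕ) : V6 := ![⟨bt n 0, bt n 3⟩, ⟨bt n 1, bt n 4⟩, ⟨bt n 2, bt n 5⟩]

def cod (v : V6) : ℕ :=
  (v 0).re.val + 2 * (v 1).re.val + 4 * (v 2).re.val + 8 * (v 0).im.val + 16 * (v 1).im.val + 32 * (v 2).im.val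

theorem vec_cod (v : V6) : vec (cod v) = v ∧ cod v < 64 := by revert v; refine forall3 ?_; decide +kernel

theorem cod_vec : ∀ n < 64, cod (vec n) = n := by decide +kernel

theorem vec_xor (m n : ℕ) : vec (Nat.xor m n) = vec m + vec n := by
  have b : ∀ i, bt (Nat.xor m n) i = bt m i + bt n i := fun i => by
    have : (Nat.xor m n).testBit i = (m.testBit i ^^ n.testBit i) := Nat.testBit_xor m n i
    rw [bt, bt, bt, this]
    cases m.testBit i <;> cases n.testBit i <;> decide
  funext i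
  fin_cases i <;> exact QuadraticAlgebra.ext (b _) (b _)

def r0 (c : ℕ) : ℕ := c / 8 % 8

def r1 (c : ℕ) : ℕ := c / 16 % 2 + 2 * (c / 64 % 4)

def r2 (c : ℕ) : ℕ := c / 32 % 2 + 2 * (c / 128 % 2) + 4 * (c / 256)

/-- The elements of `E₀` on codes. -/
def el (c n : ℕ) : ℕ :=
  Nat.xor (Nat.xor (Nat.xor (Nat.xor n (n / 8 % 2 * r0 c)) (n / 16 % 2 * r1 c)) (n / 32 % 2 * r2 c)) (c % 8)

def tf (c : ℕ) (v : V6) : V6 := vec (el c (cod v))

theorem vec_bit (v : V6) (r : ℕ) : vec (cod v / 8 % 2 * r) = f6 v (sg 0 1) • vec r ∧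
    vec (cod v / 16 % 2 * r) = f6 v (sg 1 1) • vec r ∧ vec (cod v / 32 % 2 * r) = f6 v (sg 2 1) • vec r := by
  have k : ∀ (m : ℕ) (c : GF4), (m = 0 ∧ c = 0 ∨ m = 1 ∧ c = 1) → vec (m * r) = c • vec r := by
    rintro _ _ (⟨rfl, rfl⟩ | ⟨rfl, rfl⟩)
    · rw [zero_mul, zero_smul]; decide
    · rw [one_mul, one_smul]
  refine ⟨k _ _ ?_, k _ _ ?_, k _ _ ?_⟩ <;> revert v <;> refine forall3 ?_ <;> decide +kernel

theorem cod_A (v : V6) : (∀ i, v i ^ 2 = v i) → cod v < 8 ∧ cod v % 2 = (v 0).re.val ∧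
    cod v / 2 % 2 = (v 1).re.val ∧ cod v / 4 % 2 = (v 2).re.val := by
  revert v; refine forall3 ?_; decide +kernel

def cd (x a b d : ℕ) : ℕ := x + 8 * a + 64 * (b / 2) + 256 * (d / 4)

theorem arith : ∀ x < 8, ∀ a < 8, ∀ b < 8, ∀ d < 8, a / 2 % 2 = b % 2 → a / 4 % 2 = d % 2 →
    b / 4 % 2 = d / 2 % 2 → ∃ c < 512, r0 c = a ∧ r1 c = b ∧ r2 c = d ∧ c % 8 = x := by
  have : ((List.range 8).all fun x => (List.range 8).all fun a => (List.range 8).all fun b =>
      (List.range 8).all fun d => decide (a / 2 % 2 = b % 2 → a / 4 % 2 = d % 2 → b / 4 % 2 = d / 2 % 2 →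
        cd x a b d < 512 ∧ r0 (cd x a b d) = a ∧ r1 (cd x a b d) = b ∧ r2 (cd x a b d) = d ∧
          cd x a b d % 8 = x)) = true := by decide +kernel
  simp only [List.all_eq_true, List.mem_range, decide_eq_true_eq] at this
  exact fun x hx a ha b hb d hd h1 h2 h3 => ⟨_, this x hx a ha b hb d hd h1 h2 h3⟩

theorem exists_tf {t : P6} (ht : IsAS t) (h2 : t * t = 1) (hx : ∀ i, t 0 i ^ 2 = t 0 i)
    (h : ∀ v : V6, (∀ i, v i ^ 2 = v i) → t v + t 0 = v) : ∃ c < 512, ⇑t = tf c := by
  have h1 : ∀ i, lin t (sg i 1) = sg i 1 := fun i => h _ (by revert i; decide)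
  let s : Fin 3 → V6 := fun i => lin t (sg i om) + sg i om
  have sA : ∀ i j, s i j ^ 2 = s i j := fun i j =>
    (coord1 j _).1 (by rw [adj ht h2, h1, v6_add_self, f6_zero_right])
  have sy : ∀ i j, s i j = s j i := fun i j => by
    rw [← coord2 j _ (sA i j), ← coord2 i _ (sA j i), adj ht h2, f6_comm]
  have e : ∀ v, lin t v = v + f6 v (sg 0 1) • s 0 + f6 v (sg 1 1) • s 1 + f6 v (sg 2 1) • s 2 := by
    refine ind6 (fun x y hx hy => ?_) (fun i => ?_) fun i => ?_
    · rw [ht.lin_add, hx, hy]; simp only [f6_add_left, add_smul]; abel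
    · have : ∀ i j : Fin 3, f6 (sg i 1) (sg j 1) = 0 := by decide
      simp only [h1, this, zero_smul, add_zero]
    · have : ∀ i j : Fin 3, f6 (sg i om) (sg j 1) = if i = j then 1 else 0 := by decide
      rw [show lin t (sg i om) = sg i om + s i from (add_comm _ _).trans (aa _ _) |>.symm]
      fin_cases i <;> simp [this]
  obtain ⟨a0, -⟩ := cod_A _ hx
  obtain ⟨b0, -, b2, b3⟩ := cod_A _ (sA 0)
  obtain ⟨c0, c1, -, c3⟩ := cod_A _ (sA 1)
  obtain ⟨d0, d1, d2, -⟩ := cod_A _ (sA 2)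
  rw [sy 0 1, ← c1] at b2
  rw [sy 0 2, ← d1] at b3
  rw [sy 1 2, ← d2] at c3
  obtain ⟨c, hc, p0, p1, p2, p3⟩ := arith _ a0 _ b0 _ c0 _ d0 b2 b3 c3
  refine ⟨c, hc, funext fun v => ?_⟩
  rw [tf, el, vec_xor, vec_xor, vec_xor, vec_xor, (vec_bit v _).1, (vec_bit v _).2.1, (vec_bit v _).2.2,
    p0, p1, p2, p3]
  simp only [(vec_cod _).1]
  rw [← e, lin, aa]

/-- Letters: transvections and translations. -/
def lt (k : ℕ) : P6 := bif Nat.blt k 64 then rv (vec k) else tr (vec (k - 64))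

def ltN (k n : ℕ) : ℕ :=
  bif Nat.blt k 64 then
    Nat.xor n (k * (Nat.shiftRight 0x6996966996696996 (Nat.land n (k / 8 + 8 * (k % 8))) % 2))
  else Nat.xor n (k - 64)

theorem isAS_lt (k : ℕ) : IsAS (lt k) := by
  unfold lt; cases Nat.blt k 64
  exacts [isAS_tr _, isAS_rv _]

theorem lt_vec (k : ℕ) {n : ℕ} (hn : n < 64) : lt k (vec n) = vec (ltN k n) := by
  unfold lt ltN
  cases hk : Nat.blt k 64
  · exact (vec_xor _ _).symm
  · have : ∀ k < 64, ∀ n < 64, (Nat.shiftRight 0x6996966996696996 (Nat.land n (k / 8 + 8 * (k % 8))) % 2 = 0 ∧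
        f6 (vec n) (vec k) = 0 ∨ Nat.shiftRight 0x6996966996696996 (Nat.land n (k / 8 + 8 * (k % 8))) % 2 = 1 ∧
        f6 (vec n) (vec k) = 1) := by decide +kernel
    rw [cond_true, cond_true, vec_xor, rv_apply]
    rcases this k (by simpa using hk) n hn with ⟨a, b⟩ | ⟨a, b⟩ <;> rw [a, b]
    · rw [mul_zero, zero_smul, show vec 0 = 0 by decide]
    · rw [mul_one, one_smul]

def wN (w : List ℕ) (n : ℕ) : ℕ := w.foldr (fun k m => ltN k m % 64) n

theorem vec_mod (n : ℕ) : vec (n % 64) = vec n := by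
  have : ∀ i < 6, bt (n % 64) i = bt n i := fun i hi => by
    rw [bt, bt, show 64 = 2 ^ 6 by norm_num, Nat.testBit_mod_two_pow]; simp [hi]
  simp only [vec, this 0, this 1, this 2, this 3, this 4, this 5, Nat.ofNat_pos, Nat.one_lt_ofNat, Nat.reduceLT]

theorem exists_w (w : List ℕ) : ∃ g, IsAS g ∧ ∀ n < 64, g (vec n) = vec (wN w n) ∧ wN w n < 64 := by
  induction w with
  | nil => exact ⟨1, IsAS.one, fun n hn => ⟨rfl, hn⟩⟩
  | cons k w ih =>
    obtain ⟨g, h1, h2⟩ := ih
    exact ⟨lt k * g, (isAS_lt k).mul h1, fun n hn => ⟨by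
      rw [Equiv.Perm.mul_apply, (h2 n hn).1, lt_vec k (h2 n hn).2, ← vec_mod]; rfl, Nat.mod_lt _ (by norm_num)⟩⟩

/-- For every code a smaller conjugate code and a conjugating word. -/
def tab : List (ℕ × List ℕ) :=
  [(0, []), (1, []), (1, [2,8,10,1,16,17]), (1, [2,8,10]), (1, [4,8,12,1,32,33]), (1, [4,8,12]), (2, [4,16,20]),
  (3, [4,8,12]), (8, []), (8, [72]), (10, []), (10, [72]), (10, [4,16,20,2,32,34]), (12, [72]), (10, [4,16,20]),
  (14, [72]), (16, []), (16, [80]), (16, [72]), (16, [88]), (20, []), (20, [80]), (20, [72]), (20, [88]), (24,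
  []), (24, [80]), (24, [88]), (24, [72]), (28, []), (28, [80]), (28, [88]), (28, [72]), (16,
  [4,16,20,2,32,34]), (32, [96]), (22, [4,16,20,2,32,34]), (34, [96]), (32, [72]), (32, [104]), (34, [72]), (34,
  [104]), (24, [4,16,20,2,32,34]), (40, [96]), (30, [4,16,20,2,32,34]), (42, [96]), (40, [104]), (40, [72]),
  (42, [104]), (42, [72]), (16, [4,16,20]), (48, [80]), (22, [4,16,20]), (50, [80]), (50, [72]), (50, [88]),
  (48, [72]), (48, [88]), (24, [4,16,20]), (56, [80]), (30, [4,16,20]), (58, [80]), (58, [88]), (58, [72]), (56,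
  [88]), (56, [72]), (8, [2,8,10,1,16,17]), (11, [2,8,10,1,16,17]), (64, [80]), (65, [80]), (12,
  [2,8,10,1,16,17]), (65, [4,8,12]), (68, [80]), (69, [80]), (24, [2,8,10]), (72, [72]), (72, [80]), (72, [88]),
  (28, [2,8,10]), (76, [72]), (76, [80]), (76, [88]), (72, [1,16,17]), (80, [88]), (80, [72]), (80, [80]), (76,
  [1,16,17]), (84, [88]), (84, [72]), (84, [80]), (8, [2,8,10]), (11, [2,8,10]), (89, [72]), (88, [72]), (12,
  [2,8,10]), (15, [2,8,10]), (93, [72]), (92, [72]), (96, []), (96, [96]), (96, [80]), (96, [112]), (96, [72]),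
  (96, [104]), (96, [88]), (96, [120]), (96, [1,16,17,2,32,34]), (104, [96]), (104, [80]), (104, [112]), (104,
  [104]), (104, [72]), (104, [120]), (104, [88]), (96, [2,32,34]), (112, [96]), (112, [112]), (112, [80]), (112,
  [120]), (112, [88]), (112, [72]), (112, [104]), (96, [1,16,17]), (120, [96]), (120, [112]), (120, [80]), (120,
  [88]), (120, [120]), (120, [104]), (120, [72]), (16, [4,8,12,1,32,33]), (21, [4,8,12,1,32,33]), (128, [96]),
  (129, [96]), (128, [80]), (129, [80]), (128, [112]), (129, [112]), (120, [2,8,10,1,16,17]), (136, [72]), (136,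
  [96]), (136, [104]), (136, [80]), (136, [88]), (136, [112]), (136, [120]), (16, [4,8,12]), (21, [4,8,12]),
  (144, [72]), (145, [72]), (145, [80]), (144, [80]), (145, [88]), (144, [88]), (136, [1,32,33]), (152, [104]),
  (152, [96]), (152, [72]), (152, [120]), (152, [80]), (152, [88]), (152, [112]), (32, [2,8,10]), (35,
  [2,8,10]), (161, [96]), (160, [96]), (160, [72]), (161, [72]), (161, [104]), (160, [104]), (120, [2,8,10]),
  (168, [88]), (168, [120]), (168, [96]), (168, [80]), (168, [72]), (168, [104]), (168, [112]), (48, [2,8,10]),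
  (51, [2,8,10]), (177, [88]), (176, [88]), (177, [80]), (176, [80]), (176, [72]), (177, [72]), (104, [2,8,10]),
  (184, [120]), (184, [88]), (184, [96]), (184, [104]), (184, [80]), (184, [112]), (184, [72]), (40,
  [2,8,10,1,16,17]), (43, [2,8,10,1,16,17]), (192, [96]), (193, [96]), (192, [112]), (193, [112]), (192, [80]),
  (193, [80]), (152, [2,8,10]), (200, [72]), (200, [96]), (200, [104]), (200, [112]), (200, [120]), (200, [80]),
  (200, [88]), (80, [4,8,12]), (85, [4,8,12]), (208, [72]), (209, [72]), (209, [88]), (208, [88]), (209, [80]),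
  (208, [80]), (136, [2,8,10]), (216, [104]), (216, [96]), (216, [72]), (216, [88]), (216, [112]), (216, [120]),
  (216, [80]), (96, [2,8,10]), (224, [120]), (224, [88]), (224, [96]), (224, [72]), (224, [112]), (224, [80]),
  (224, [104]), (56, [2,8,10]), (59, [2,8,10]), (233, [88]), (232, [88]), (233, [72]), (232, [72]), (232, [80]),
  (233, [80]), (112, [2,8,10]), (240, [88]), (240, [120]), (240, [96]), (240, [112]), (240, [104]), (240, [72]),
  (240, [80]), (40, [2,8,10]), (43, [2,8,10]), (249, [96]), (248, [96]), (248, [104]), (249, [104]), (249,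
  [72]), (248, [72]), (8, [4,8,12,1,32,33]), (13, [4,8,12,1,32,33]), (10, [4,8,12,1,32,33]), (257, [2,8,10]),
  (256, [96]), (257, [96]), (258, [96]), (259, [96]), (40, [4,8,12]), (264, [72]), (42, [4,8,12]), (266, [72]),
  (264, [96]), (264, [104]), (266, [96]), (266, [104]), (112, [4,16,20,2,32,34]), (272, [80]), (272, [72]),
  (272, [88]), (272, [96]), (272, [112]), (272, [104]), (272, [120]), (184, [4,8,12]), (280, [80]), (280, [88]),
  (280, [72]), (280, [96]), (280, [112]), (280, [120]), (280, [104]), (264, [1,32,33]), (288, [104]), (266,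
  [1,32,33]), (290, [104]), (288, [72]), (288, [96]), (290, [72]), (290, [96]), (8, [4,8,12]), (13, [4,8,12]),
  (10, [4,8,12]), (15, [4,8,12]), (297, [72]), (296, [72]), (299, [72]), (298, [72]), (272, [4,16,20]), (304,
  [80]), (304, [120]), (304, [104]), (304, [112]), (304, [96]), (304, [72]), (304, [88]), (152, [4,8,12]), (312,
  [80]), (312, [104]), (312, [120]), (312, [112]), (312, [96]), (312, [88]), (312, [72]), (192, [4,16,20]),
  (193, [4,16,20]), (320, [80]), (321, [80]), (320, [96]), (321, [96]), (320, [112]), (321, [112]), (104,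
  [4,8,12]), (328, [72]), (328, [80]), (328, [88]), (328, [96]), (328, [104]), (328, [112]), (328, [120]), (240,
  [4,16,20]), (336, [88]), (336, [72]), (336, [80]), (336, [96]), (336, [120]), (336, [104]), (336, [112]),
  (248, [4,8,12]), (249, [4,16,20]), (345, [72]), (344, [72]), (344, [96]), (345, [96]), (345, [104]), (344,
  [104]), (224, [4,16,20]), (352, [104]), (352, [80]), (352, [120]), (352, [72]), (352, [96]), (352, [88]),
  (352, [112]), (72, [4,8,12]), (77, [4,8,12]), (360, [80]), (361, [80]), (361, [72]), (360, [72]), (361, [88]),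
  (360, [88]), (208, [4,16,20]), (209, [4,16,20]), (369, [80]), (368, [80]), (369, [88]), (368, [88]), (368,
  [72]), (369, [72]), (216, [4,8,12]), (376, [120]), (376, [104]), (376, [80]), (376, [88]), (376, [96]), (376,
  [112]), (376, [72]), (320, [2,32,34]), (321, [2,32,34]), (384, [112]), (385, [112]), (384, [80]), (385, [80]),
  (384, [96]), (385, [96]), (168, [4,8,12]), (392, [72]), (392, [112]), (392, [120]), (392, [80]), (392, [88]),
  (392, [96]), (392, [104]), (272, [4,8,12]), (400, [120]), (400, [72]), (400, [112]), (400, [104]), (400,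
  [80]), (400, [96]), (400, [88]), (56, [4,8,12]), (61, [4,8,12]), (409, [72]), (408, [72]), (409, [80]), (408,
  [80]), (408, [88]), (409, [88]), (288, [2,8,10]), (291, [2,8,10]), (417, [104]), (416, [104]), (416, [72]),
  (417, [72]), (417, [96]), (416, [96]), (136, [4,8,12]), (424, [88]), (424, [104]), (424, [112]), (424, [80]),
  (424, [72]), (424, [120]), (424, [96]), (304, [2,8,10]), (432, [104]), (432, [112]), (432, [88]), (432,
  [120]), (432, [80]), (432, [72]), (432, [96]), (24, [4,8,12]), (29, [4,8,12]), (440, [88]), (441, [88]), (441,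
  [80]), (440, [80]), (441, [72]), (440, [72]), (64, [4,16,20]), (65, [4,16,20]), (70, [4,16,20]), (71,
  [4,16,20]), (450, [80]), (451, [80]), (448, [80]), (449, [80]), (72, [4,16,20]), (456, [72]), (78, [4,16,20]),
  (458, [72]), (458, [80]), (458, [88]), (456, [80]), (456, [88]), (112, [4,16,20]), (464, [112]), (464, [72]),
  (464, [120]), (464, [104]), (464, [88]), (464, [96]), (464, [80]), (120, [4,8,12]), (472, [112]), (472,
  [120]), (472, [72]), (472, [88]), (472, [104]), (472, [96]), (472, [80]), (96, [4,16,20]), (480, [112]), (480,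
  [88]), (480, [104]), (480, [72]), (480, [120]), (480, [80]), (480, [96]), (104, [4,16,20]), (488, [112]),
  (488, [104]), (488, [88]), (488, [120]), (488, [72]), (488, [80]), (488, [96]), (80, [4,16,20]), (496, [88]),
  (86, [4,16,20]), (498, [88]), (498, [72]), (498, [80]), (496, [72]), (496, [80]), (88, [4,8,12]), (89,
  [4,16,20]), (90, [4,8,12]), (95, [4,8,12]), (507, [72]), (506, [72]), (505, [72]), (504, [72])]

def reps : List ℕ := [0, 1, 8, 10, 16, 20, 24, 28, 96]

theorem chk : ((List.range 512).zip tab).all (fun e => (Nat.blt e.2.1 e.1 || reps.contains e.1) &&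
    (List.range 64).all fun n => Nat.blt (el e.1 n) 64 &&
      Nat.beq (wN e.2.2 (el e.1 n)) (el e.2.1 (wN e.2.2 n))) = true := by decide +kernel

theorem red (c : ℕ) (hc : c < 512) : ∀ t : P6, ⇑t = tf c → ∃ g, IsAS g ∧ ∃ r ∈ reps, ⇑(g * t * g⁻¹) = tf r := by
  induction c using Nat.strong_induction_on with
  | _ c ih =>
  intro t ht
  have hl : c < tab.length := hc.trans_eq (by decide +kernel)
  have := List.all_eq_true.1 chk (c, tab[c]) (List.mem_iff_getElem.2 ⟨c, by simp [hc, hl], by simp⟩)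
  generalize tab[c] = e at this
  simp only [Bool.and_eq_true, Bool.or_eq_true, Nat.blt_eq, List.all_eq_true, List.mem_range, Nat.beq_eq,
    List.contains_iff_mem] at this
  rcases this.1 with h | h
  · obtain ⟨g, g1, g2⟩ := exists_w e.2
    obtain ⟨k, k1, r, hr, e1⟩ := ih _ h (h.trans hc) (g * t * g⁻¹) (funext fun v => by
      obtain ⟨y, rfl⟩ := g.surjective v
      obtain ⟨a, b⟩ := vec_cod y
      rw [Equiv.Perm.mul_apply, Equiv.Perm.mul_apply, Equiv.Perm.coe_inv, Equiv.symm_apply_apply, ht, tf,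
        (g2 _ (this.2 _ b).1).1, (this.2 _ b).2, tf, ← a, (g2 _ b).1, cod_vec _ (g2 _ b).2, a])
    exact ⟨k * g, k1.mul g1, r, hr, by rw [← e1, mul_inv_rev]; simp only [mul_assoc]⟩
  · exact ⟨1, IsAS.one, c, h, by simpa using ht⟩

theorem exists_rep {t : P6} (ht : IsAS t) (h2 : t * t = 1) :
    ∃ g, IsAS g ∧ ∃ r ∈ reps, ⇑(g * t * g⁻¹) = tf r := by
  obtain ⟨g, g1, g2, g3⟩ := ht.exists_conj h2
  obtain ⟨c, hc, e⟩ := exists_tf ((g1.mul ht).mul g1.inv) (sq_conj h2 g) g2 g3
  obtain ⟨k, k1, r, hr, e1⟩ := red c hc _ e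
  exact ⟨k * g, k1.mul g1, r, hr, by rw [← e1, mul_inv_rev]; simp only [mul_assoc]⟩

theorem ty_reps : reps.map (fun r => ty (tf r)) = [(64, 64, true), (0, 64, true),
    (32, 32, false), (0, 32, false), (16, 16, true), (0, 16, true), (16, 16, false),
    (0, 16, false), (8, 8, false)] := by decide +kernel

end Md

/-- The classes of involutions are separated by `ty`. -/
theorem IsAS.conj_of_ty {s t : P6} (hs : IsAS s) (ht : IsAS t) (s2 : s * s = 1) (t2 : t * t = 1)
    (h : ty ⇑s = ty ⇑t) : ∃ g, IsAS g ∧ g * s * g⁻¹ = t := by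
  obtain ⟨g, g1, r, hr, e⟩ := exists_rep hs s2
  obtain ⟨k, k1, r', hr', e'⟩ := exists_rep ht t2
  rw [← g1.ty_conj hs, ← k1.ty_conj ht, e, e'] at h
  obtain rfl := List.inj_on_of_nodup_map (f := fun r => ty (tf r)) (by rw [ty_reps]; decide) hr hr' h
  refine ⟨k⁻¹ * g, k1.inv.mul g1, ?_⟩
  rw [show k⁻¹ * g * s * (k⁻¹ * g)⁻¹ = k⁻¹ * (g * s * g⁻¹) * k by group, DFunLike.coe_injective (e.trans e'.symm)]
  group

theorem IsAS.ty_mem {t : P6} (ht : IsAS t) (t2 : t * t = 1) : ty ⇑t ∈ [(64, 64, true), (0, 64, true),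
    (32, 32, false), (0, 32, false), (16, 16, true), (0, 16, true), (16, 16, false),
    (0, 16, false), (8, 8, false)] := by
  obtain ⟨g, g1, r, hr, e⟩ := exists_rep ht t2
  rw [← g1.ty_conj ht, e, ← ty_reps]
  exact List.mem_map_of_mem hr

end Cfsg.Agent.F6
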