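import Mathlib
import Cfsg.Agent.F6.Mod

/-! The subgroup `J₀ = 2 × 2^{1+8}` of the model `2⁶ : Sp₆(2)`. -/

set_option autoImplicit false

namespace Cfsg.Agent.F6

open Subgroup Cfsg.Agent.Class TT TT.UQ U6R ZJ Cfsg.Agent.PLocal.Amb

def a6 : V6 := ![0, 0, om]

def p6 : V6 := ![1, 0, 0]

def emb (x : V6) : V4 := ![x 0, x 0 ^ 2, x 1, x 1 ^ 2]

/-- The linear part. -/
def lp (g : V6 → V6) (y : V6) : V6 := g y + g 0

def xw (g : V6 → V6) : V6 := lp g a6 + a6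

def pv (x X : V6) : V4 := emb x + om • emb X

def jf (x X y : V6) : V6 := y + f6 y z6 • X + (f6 y X + f6 y z6 * X 2) • z6 + x

theorem gf_sq_add : ∀ a b : GF4, (a + b) ^ 2 = a ^ 2 + b ^ 2 := by decide

theorem emb_add (x y : V6) : emb (x + y) = emb x + emb y := by
  funext i; fin_cases i <;> simp [emb, gf_sq_add]

theorem emb_z (c : GF4) : emb (c • z6) = 0 := by
  funext i; fin_cases i <;> simp [emb, z6]

theorem emb_addz (x : V6) (c : GF4) : emb (x + c • z6) = emb x := by rw [emb_add, emb_z, add_zero]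

theorem emb_zero : emb 0 = 0 := by simpa using emb_z 0

theorem phi_emb (x : V6) : phi (emb x) = emb x := by
  have h4 : ∀ a : GF4, (a ^ 2) ^ 2 = a := by decide
  funext i; fin_cases i <;> simp [emb, phi_apply, h4]

theorem h4_emb (x y : V6) : f6 x y = 𝐡 (emb x) (emb y) + (x 2 * y 2 ^ 2 + x 2 ^ 2 * y 2) := by
  have h4 : ∀ a : GF4, (a ^ 2) ^ 2 = a := by decide
  simp only [h4_def, emb, f6, h4, Matrix.cons_val_zero, Matrix.cons_val_one, Matrix.cons_val]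
  ring

theorem f6_z (x : V6) : f6 x z6 = x 2 + x 2 ^ 2 := by simp [f6, z6]

theorem h4_emb' {x y : V6} (hx : f6 x z6 = 0) (hy : f6 y z6 = 0) : 𝐡 (emb x) (emb y) = f6 x y := by
  have : ∀ a b : GF4, a + a ^ 2 = 0 → b + b ^ 2 = 0 → a * b ^ 2 + a ^ 2 * b = 0 := by decide
  rw [h4_emb, this _ _ (f6_z x ▸ hx) (f6_z y ▸ hy), add_zero]

theorem f6_smul (x y : V6) {c : GF4} (hc : c = 0 ∨ c = 1) : f6 (c • x) y = c * f6 x y := by
  rcases hc with rfl | rfl <;> simp [f6_zero_left]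

theorem f6_smul' (x y : V6) {c : GF4} (hc : c = 0 ∨ c = 1) : f6 y (c • x) = c * f6 y x := by
  rw [f6_comm, f6_smul _ _ hc, f6_comm]

theorem f6_smul_z (x : V6) {c : GF4} (hc : c = 0 ∨ c = 1) : f6 (c • z6) x = c * f6 z6 x :=
  f6_smul _ _ hc

theorem coef_cases {X : V6} (hX : f6 X z6 = 0) (x y x' y' : V6) :
    f6 x y + f6 x' y' * X 2 = 0 ∨ f6 x y + f6 x' y' * X 2 = 1 := by
  have : ∀ a b c : GF4, (a = 0 ∨ a = 1) → (b = 0 ∨ b = 1) → c + c ^ 2 = 0 →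
    a + b * c = 0 ∨ a + b * c = 1 := by decide
  exact this _ _ _ (f6_cases _ _) (f6_cases _ _) (f6_z _ ▸ hX)

theorem gf_two : (2 : GF4) = 0 := by decide

theorem f6_a_z : f6 a6 z6 = 1 := by decide

theorem v6_add_add (v w : V6) : v + w + w = v := by rw [add_assoc, v6_add_self, add_zero]

theorem v6_eq_of_add {v w : V6} (h : v + w = 0) : v = w := by
  rw [← v6_add_add v w, h, zero_add]

theorem eq_of_emb {x y : V6} (hx : f6 x z6 = f6 y z6) (h : emb x = emb y) :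
    x = y ∨ x = y + z6 := by
  have h0 := congrFun h 0
  have h1 := congrFun h 2
  have : ∀ a b : GF4, a + a ^ 2 = b + b ^ 2 → a = b ∨ a = b + 1 := by decide
  rw [f6_z, f6_z] at hx
  refine (this _ _ hx).imp (fun e => ?_) fun e => ?_ <;> funext i <;> fin_cases i <;>
    simp_all [emb, z6]

theorem pv_add (x X y Y : V6) : pv (x + y) (X + Y) = pv x X + pv y Y := by
  simp only [pv, emb_add, smul_add]; abel

theorem phi_pv (x X : V6) : phi (pv x X) = pv (x + X) X := by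
  rw [pv, phi_semi.add, phi_semi.smul, phi_emb, phi_emb, ← add_om_smul, pv, emb_add, add_assoc]

theorem im_pv (x X : V6) : phi (pv x X) + pv x X = emb X := by
  rw [phi_pv, pv, pv, emb_add, add_add_add_comm, v4_add_self, add_zero, add_right_comm,
    v4_add_self, zero_add]

theorem pv_inj {x X y Y : V6} (h : pv x X = pv y Y) : emb x = emb y ∧ emb X = emb Y := by
  have h1 : emb X = emb Y := by rw [← im_pv x, h, im_pv]
  rw [pv, pv, h1] at h
  exact ⟨add_right_cancel h, h1⟩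

theorem om_pv (x X : V6) : om • pv x X = pv X (x + X) := by
  rw [pv, pv, emb_add, smul_add, smul_add, smul_smul, ← pow_two, ← add_om_smul]; abel

theorem exists_pv (v : V4) : ∃ x X, x 2 = 0 ∧ X 2 = 0 ∧ pv x X = v := by
  have : ∀ v : V4, pv ![(v + om • (phf v + v)) 0, (v + om • (phf v + v)) 2, 0]
      ![(phf v + v) 0, (phf v + v) 2, 0] = v := forall4 (by decide +kernel)
  exact ⟨_, _, rfl, rfl, this v⟩

theorem f6_z_of {x : V6} (h : x 2 = 0) : f6 x z6 = 0 := by rw [f6_z, h]; decide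

theorem bf_pv {x X y Y : V6} (hx : f6 x z6 = 0) (hX : f6 X z6 = 0) (hy : f6 y z6 = 0)
    (hY : f6 Y z6 = 0) : bf (pv x X) (pv y Y) = f6 x Y + f6 y X := by
  have : ∀ a b c d : GF4, (a = 0 ∨ a = 1) → (b = 0 ∨ b = 1) → (c = 0 ∨ c = 1) → (d = 0 ∨ d = 1) →
      a + om ^ 2 * b + (om * c + om * (om ^ 2 * d)) +
        (a + om ^ 2 * b + (om * c + om * (om ^ 2 * d))) ^ 2 = b + c := by decide
  simp only [bf_eq, pv, h4_add_left, h4_add_right, h4_smul_left, h4_smul_right, mul_add,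
    h4_emb', hx, hX, hy, hY]
  rw [f6_comm y X]
  convert this _ _ _ _ (f6_cases x y) (f6_cases x Y) (f6_cases X y) (f6_cases X Y) using 2 <;> ring

theorem h4_pv {x X : V6} (hx : f6 x z6 = 0) (hX : f6 X z6 = 0) : 𝐡 (pv x X) (pv x X) = f6 x X := by
  have : ∀ b : GF4, om ^ 2 * b + om * b = b := by decide
  simp only [pv, h4_add_left, h4_add_right, h4_smul_left, h4_smul_right, h4_emb', hx, hX, f6_self,
    f6_comm X x]
  linear_combination this (f6 x X)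

namespace IsAS

variable {g k : P6} (hg : IsAS g)
include hg

theorem lp_add (x y : V6) : lp g (x + y) = lp g x + lp g y := by
  rw [lp, lp, lp, hg.add, add_add_add_comm, add_assoc]

theorem lp_form (x y : V6) : f6 (lp g x) (lp g y) = f6 x y := hg.form x y

omit hg in
theorem lp_smul (x : V6) {c : GF4} (hc : c = 0 ∨ c = 1) : lp g (c • x) = c • lp g x := by
  rcases hc with rfl | rfl <;> simp [lp, v6_add_self]

theorem lp_mul (k : P6) (y : V6) : lp ⇑(g * k) y = lp g (lp k y) := by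
  rw [lp, lp, lp, hg.add, v6_add_add]; rfl

omit hg in
theorem mul_zero (k : P6) : (g * k) 0 = lp g (k 0) + g 0 := (v6_add_add _ _).symm

end IsAS

theorem lp_one (y : V6) : lp ⇑(1 : P6) y = y := add_zero y

theorem lp_tr (x y : V6) : lp ⇑(tr x) y = y := by rw [lp, tr_apply, tr_apply, zero_add, v6_add_add]

theorem eq_lp (g : V6 → V6) (y : V6) : g y = lp g y + g 0 := (v6_add_add _ _).symm

theorem IsAS.lp_inv {g : P6} (hg : IsAS g) (y : V6) : lp g (lp ⇑g⁻¹ y) = y := by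
  rw [← hg.lp_mul, mul_inv_cancel, lp_one]

theorem IsAS.inv_lp {g : P6} (hg : IsAS g) (y : V6) : lp ⇑g⁻¹ (lp g y) = y := by
  rw [← hg.inv.lp_mul, inv_mul_cancel, lp_one]

/-- The centralizer of the translation by `z6`. -/
def C0 : Subgroup P6 where
  carrier := {g | IsAS g ∧ lp g z6 = z6}
  mul_mem' {g k} hg hk := ⟨hg.1.mul hk.1, by rw [hg.1.lp_mul, hk.2, hg.2]⟩
  one_mem' := ⟨IsAS.one, lp_one _⟩
  inv_mem' {g} hg := ⟨hg.1.inv, by nth_rw 1 [← hg.2]; rw [hg.1.inv_lp]⟩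

theorem C0_z {g : P6} (hg : g ∈ C0) (y : V6) : f6 (lp g y) z6 = f6 y z6 := by
  rw [← hg.1.lp_form y, hg.2]

theorem C0_xw {g : P6} (hg : g ∈ C0) : f6 (xw g) z6 = 0 := by
  rw [xw, f6_add_left, C0_z hg, gf_add_self]

def J0 : Subgroup P6 where
  carrier := {g | g ∈ C0 ∧ f6 (g 0) z6 = 0 ∧ ∀ v, f6 v z6 = 0 → emb (lp g v) = emb v}
  mul_mem' {g k} hg hk := ⟨mul_mem hg.1 hk.1, by
    rw [IsAS.mul_zero, f6_add_left, C0_z hg.1, hg.2.1, hk.2.1, add_zero], fun v hv => by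
      rw [hg.1.1.lp_mul, hg.2.2 _ (by rw [C0_z hk.1, hv]), hk.2.2 v hv]⟩
  one_mem' := ⟨one_mem _, f6_zero_left _, fun v _ => by rw [lp_one]⟩
  inv_mem' {g} hg := ⟨inv_mem hg.1, by
    have := IsAS.mul_zero (g := g) g⁻¹
    rw [mul_inv_cancel] at this
    rw [← C0_z hg.1, v6_eq_of_add this.symm, hg.2.1], fun v hv => by
      rw [← hg.2.2 _ (by rw [C0_z (inv_mem hg.1), hv]), hg.1.1.lp_inv]⟩

theorem J0_lp {g : P6} (hg : g ∈ J0) {y : V6} (hy : f6 y z6 = 0) :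
    lp g y = y + f6 y (xw g) • z6 := by
  have h1 := hg.1.1.lp_form y a6
  rw [← v6_add_add (lp g a6) a6, ← xw, f6_add_right] at h1
  rcases eq_of_emb (C0_z hg.1 y) (hg.2.2 y hy) with e | e <;> rw [e] at h1 ⊢
  · rw [add_eq_right] at h1; rw [h1, zero_smul, add_zero]
  · rw [f6_add_left, f6_add_left, f6_comm z6, f6_comm z6, C0_xw hg.1, f6_a_z, add_zero,
      add_comm (f6 y a6), ← add_assoc, add_eq_right] at h1
    rw [gf_eq_of_add h1, one_smul]

theorem J0_eq {g : P6} (hg : g ∈ J0) (y : V6) : g y = jf (g 0) (xw g) y := by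
  rw [eq_lp g y, jf]; congr 1
  rcases f6_cases y z6 with e | e
  · rw [J0_lp hg e, e]; simp
  · have h1 : ∀ X : V6, f6 X z6 = 0 → f6 a6 X = X 2 := forall3 (by decide +kernel)
    have := hg.1.1.lp_add (y + a6) a6
    rw [v6_add_add, J0_lp hg (y := y + a6) (by rw [f6_add_left, e, f6_a_z]; decide), f6_add_left,
      ← v6_add_add (lp g a6) a6, ← xw, h1 _ (C0_xw hg.1)] at this
    rw [this, e, one_smul, one_mul]
    linear_combination (exp := 1) v6_add_self a6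

theorem J0_ext {g k : P6} (hg : g ∈ J0) (hk : k ∈ J0) (h1 : g 0 = k 0) (h2 : xw g = xw k) : g = k :=
  Equiv.ext fun y => by rw [J0_eq hg, J0_eq hk, h1, h2]

theorem J0_mul0 {g k : P6} (hg : g ∈ J0) (hk : k ∈ J0) :
    (g * k) 0 = g 0 + k 0 + f6 (k 0) (xw g) • z6 := by
  rw [IsAS.mul_zero, J0_lp hg hk.2.1]; abel

theorem J0_mulw {g k : P6} (hg : g ∈ J0) (hk : k ∈ J0) :
    xw ⇑(g * k) = xw g + xw k + f6 (xw k) (xw g) • z6 := by
  rw [xw, hg.1.1.lp_mul, ← v6_add_add (lp k a6) a6, ← xw, hg.1.1.lp_add, J0_lp hg (C0_xw hk.1),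
    show xw g + xw k = lp g a6 + a6 + xw k from rfl]
  abel

theorem jf_zero (x X : V6) : jf x X 0 = x := by simp [jf, f6_zero_left]

theorem lp_jf (x X y : V6) : lp (jf x X) y = jf 0 X y := by
  rw [lp, jf_zero, jf, v6_add_add, jf, add_zero]

theorem jf_form {X : V6} (hX : f6 X z6 = 0) (y y' : V6) : f6 (jf 0 X y) (jf 0 X y') = f6 y y' := by
  simp only [jf, add_zero, f6_add_left, f6_add_right, f6_smul _ _ (f6_cases _ _),
    f6_smul' _ _ (f6_cases _ _), f6_smul _ _ (coef_cases hX ..), f6_smul' _ _ (coef_cases hX ..),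
    f6_self, hX, f6_comm z6 X, f6_comm X y', f6_comm z6 y']
  linear_combination (f6 y' z6 * f6 y X + f6 y z6 * f6 y' X + f6 y z6 * f6 y' z6 * X 2) * gf_two

theorem jf_jf {X : V6} (hX : f6 X z6 = 0) (y : V6) : jf 0 X (jf 0 X y) = y := by
  have h1 : f6 (jf 0 X y) z6 = f6 y z6 ∧ f6 (jf 0 X y) X = f6 y X := by
    simp only [jf, add_zero, f6_add_left, f6_smul _ _ (f6_cases _ _),
      f6_smul _ _ (coef_cases hX ..), f6_self, hX, f6_comm z6 X, mul_zero, and_self]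
  rw [jf, h1.1, h1.2, jf]
  linear_combination (exp := 1) v6_add_self (f6 y z6 • X) +
    v6_add_self ((f6 y X + f6 y z6 * X 2) • z6)

theorem jf_add (X y y' : V6) : jf 0 X (y + y') = jf 0 X y + jf 0 X y' := by
  simp only [jf, f6_add_left, add_smul, add_mul]; abel

theorem exists_J0 {x X : V6} (hx : f6 x z6 = 0) (hX : f6 X z6 = 0) :
    ∃ g ∈ J0, g 0 = x ∧ xw g = X := by
  let u : P6 := ⟨jf 0 X, jf 0 X, jf_jf hX, jf_jf hX⟩
  have h0 : ⇑(tr x * u) = jf x X := funext fun y => by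
    change jf 0 X y + x = _; rw [jf, add_zero, jf]
  have h1 : ∀ X : V6, f6 X z6 = 0 → jf 0 X a6 + a6 = X ∧ jf 0 X z6 = z6 :=
    forall3 (by decide +kernel)
  refine ⟨tr x * u, ⟨⟨(isAS_tr x).mul ⟨fun y y' => ?_, fun y y' => ?_⟩, ?_⟩, ?_, fun v hv => ?_⟩, ?_, ?_⟩
  · change jf 0 X _ = jf 0 X _ + jf 0 X _ + jf 0 X 0
    rw [jf_add, jf_zero, add_zero]
  · change f6 (jf 0 X _ + jf 0 X 0) (jf 0 X _ + jf 0 X 0) = _
    rw [jf_zero, add_zero, add_zero, jf_form hX]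
  · rw [h0, lp_jf, (h1 X hX).2]
  · rw [h0, jf_zero, hx]
  · rw [h0, lp_jf, jf, hv, zero_smul, add_zero, add_zero, emb_addz]
  · rw [h0, jf_zero]
  · rw [h0, xw, lp_jf, (h1 X hX).1]

theorem tr_zero (x : V6) : tr x 0 = x := zero_add x

theorem xw_tr (x : V6) : xw ⇑(tr x) = 0 := by rw [xw, lp_tr, v6_add_self]

theorem tr_C0 (x : V6) : tr x ∈ C0 := ⟨isAS_tr x, lp_tr _ _⟩

theorem tr_J0 {x : V6} (hx : f6 x z6 = 0) : tr x ∈ J0 :=
  ⟨tr_C0 x, by rwa [tr_zero], fun v _ => by rw [lp_tr]⟩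

theorem rv_zero (v : V6) : rv v 0 = 0 := by simp [rv_apply, f6_zero_left]

theorem lp_rv (v y : V6) : lp ⇑(rv v) y = y + f6 y v • v := by rw [lp, rv_zero, add_zero, rv_apply]

theorem rv_C0 {v : V6} (h : f6 v z6 = 0) : rv v ∈ C0 :=
  ⟨isAS_rv v, by rw [lp_rv, f6_comm, h, zero_smul, add_zero]⟩

theorem rv_J0 : rv z6 ∈ J0 :=
  ⟨rv_C0 (f6_self _), by rw [rv_zero, f6_zero_left], fun v _ => by rw [lp_rv, emb_addz]⟩

theorem xw_rv : xw ⇑(rv z6) = z6 := by rw [xw, lp_rv]; decide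

/-- An element of `J₀` fixing a vector not orthogonal to `z6` is a translation. -/
theorem J0_tr {g : P6} (hg : g ∈ J0) {s : V6} (hs : f6 s z6 = 1) (h : lp g s = s) : g = tr (g 0) := by
  have : ∀ X : V6, f6 X z6 = 0 → ∀ s, f6 s z6 = 1 → jf 0 X s = s → X = 0 := fun X hX s hs h => by
    rw [jf, hs, add_zero, add_assoc, add_eq_left, one_smul, one_mul] at h
    have h1 := v6_eq_of_add h
    rcases (by simpa [hs] using coef_cases hX s X s z6 : _ ∨ _) with e | e <;> rw [e] at h1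
    · rw [h1, zero_smul]
    · rw [h1, one_smul, hs] at e; exact absurd e (by decide)
  refine J0_ext hg (tr_J0 hg.2.1) (tr_zero _).symm ((this _ (C0_xw hg.1) s hs ?_).trans (xw_tr _).symm)
  rw [← lp_jf (g 0), ← funext (J0_eq hg), h]

theorem conj_data {σ j : P6} (hσ : σ ∈ C0) (hj : j ∈ J0) : σ * j * σ⁻¹ ∈ J0 ∧
    (σ * j * σ⁻¹) 0 = lp σ (j 0) + f6 (σ 0) z6 • lp σ (xw j) +
      (f6 (σ⁻¹ 0) (xw j) + f6 (σ 0) z6 * xw j 2) • z6 ∧
    xw ⇑(σ * j * σ⁻¹) = lp σ (xw j) + f6 (xw ⇑σ⁻¹) (xw j) • z6 := by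
  have hs := hσ.1
  have h1 : ∀ v, lp ⇑(σ * j * σ⁻¹) v = lp σ (lp j (lp ⇑σ⁻¹ v)) := fun v => by
    rw [(hs.mul hj.1.1).lp_mul, hs.lp_mul]
  have h2 : lp σ (σ⁻¹ 0) = σ 0 := by simp [lp]
  have h3 : f6 (σ⁻¹ 0) z6 = f6 (σ 0) z6 := by rw [← h2, C0_z hσ]
  have h4 := coef_cases (C0_xw hj.1) (σ⁻¹ 0) (xw j) (σ 0) z6
  have h5 : (σ * j * σ⁻¹) 0 = lp σ (j 0) + f6 (σ 0) z6 • lp σ (xw j) +
      (f6 (σ⁻¹ 0) (xw j) + f6 (σ 0) z6 * xw j 2) • z6 := by
    rw [Equiv.Perm.mul_apply, Equiv.Perm.mul_apply, eq_lp σ, J0_eq hj, jf, h3]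
    simp only [hs.lp_add, IsAS.lp_smul _ h4, IsAS.lp_smul _ (f6_cases _ _), h2, hσ.2]
    linear_combination (exp := 1) v6_add_self (σ 0)
  refine ⟨⟨mul_mem (mul_mem hσ hj.1) (inv_mem hσ), ?_, fun v hv => ?_⟩, h5, ?_⟩
  · rw [h5, f6_add_left, f6_add_left, f6_smul_z _ h4, f6_self, C0_z hσ, hj.2.1,
      ← IsAS.lp_smul _ (f6_cases _ _), C0_z hσ]
    rcases f6_cases (σ 0) z6 with e | e <;> simp [e, f6_zero_left, C0_xw hj.1]
  · rw [h1, J0_lp hj (by rw [C0_z (inv_mem hσ), hv]), hs.lp_add, hs.lp_inv,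
      IsAS.lp_smul _ (f6_cases _ _), hσ.2, emb_addz]
  · have h6 := hs.lp_inv a6
    rw [← v6_add_add (lp ⇑σ⁻¹ a6) a6, ← xw, hs.lp_add] at h6
    rw [xw, h1, ← v6_add_add (lp ⇑σ⁻¹ a6) a6, ← xw, hj.1.1.lp_add, J0_lp hj (C0_xw (inv_mem hσ)),
      ← v6_add_add (lp j a6) a6, ← xw]
    simp only [hs.lp_add, IsAS.lp_smul _ (f6_cases _ _), hσ.2]
    linear_combination (exp := 1) h6 + v6_add_self a6

/-- The projection `J₀ → F₄⁴`. -/
def p0 (g : P6) : V4 := pv (g 0) (xw g)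

theorem p0_conj {σ j : P6} (hσ : σ ∈ C0) (hj : j ∈ J0) : p0 (σ * j * σ⁻¹) =
    pv (lp σ (j 0) + f6 (σ 0) z6 • lp σ (xw j)) (lp σ (xw j)) := by
  rw [p0, (conj_data hσ hj).2.1, (conj_data hσ hj).2.2, pv, emb_addz, emb_addz, pv]

theorem p0_mul {g k : P6} (hg : g ∈ J0) (hk : k ∈ J0) : p0 (g * k) = p0 g + p0 k := by
  rw [p0, J0_mul0 hg hk, J0_mulw hg hk, pv, emb_addz, emb_addz, ← pv, pv_add, p0, p0]

theorem smul_z_inj {a b : GF4} (h : a • z6 = b • z6) : a = b := by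
  simpa [z6] using congrFun h 2

theorem J0_comm {g k : P6} (hg : g ∈ J0) (hk : k ∈ J0) : Commute g k ↔ bf (p0 g) (p0 k) = 0 := by
  rw [p0, p0, bf_pv hg.2.1 (C0_xw hg.1) hk.2.1 (C0_xw hk.1)]
  refine ⟨fun h => ?_, fun h => J0_ext (mul_mem hg hk) (mul_mem hk hg) ?_ ?_⟩
  · have := J0_mul0 hg hk
    rw [h.eq, J0_mul0 hk hg, add_comm (k 0), add_right_inj] at this
    rw [smul_z_inj this, gf_add_self]
  · rw [J0_mul0 hg hk, J0_mul0 hk hg, gf_eq_of_add h, add_comm (k 0)]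
  · rw [J0_mulw hg hk, J0_mulw hk hg, f6_comm, add_comm (xw k)]

theorem J0_comm' {g k : P6} (hg : g ∈ J0) (hk : k ∈ J0) (h : ¬ Commute g k) :
    g * k = k * tr z6 * g := by
  have hz := tr_J0 (f6_self z6)
  rw [J0_comm hg hk, p0, p0, bf_pv hg.2.1 (C0_xw hg.1) hk.2.1 (C0_xw hk.1)] at h
  have e : xw ⇑(k * tr z6) = xw k := by rw [J0_mulw hk hz, xw_tr, f6_zero_left]; simp
  refine J0_ext (mul_mem hg hk) (mul_mem (mul_mem hk hz) hg) ?_ ?_
  · rw [J0_mul0 hg hk, J0_mul0 (mul_mem hk hz) hg, J0_mul0 hk hz, e, tr_zero, f6_comm z6,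
      C0_xw hk.1]
    rcases f6_cases (g 0) (xw k) with a | a <;> rcases f6_cases (k 0) (xw g) with b | b <;>
      rw [a, b] at h ⊢
    · exact absurd (add_zero _) h
    · simp only [zero_smul, one_smul]; abel
    · simp only [zero_smul, one_smul]
      linear_combination (exp := 1) (-1 : ℤ) • v6_add_self z6
    · exact absurd (gf_add_self _) h
  · rw [J0_mulw hg hk, J0_mulw (mul_mem hk hz) hg, e, f6_comm, add_comm (xw k)]

theorem J0_sq {g : P6} (hg : g ∈ J0) : g * g = tr (𝐡 (p0 g) (p0 g) • z6) := by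
  rw [p0, h4_pv hg.2.1 (C0_xw hg.1)]
  refine J0_ext (mul_mem hg hg) (tr_J0 (by rw [f6_smul_z _ (f6_cases _ _), f6_self, mul_zero])) ?_ ?_
  · rw [J0_mul0 hg hg, v6_add_self, zero_add, tr_zero]
  · rw [J0_mulw hg hg, v6_add_self, f6_self, xw_tr]; simp

theorem tr_0 : tr 0 = 1 := Equiv.ext fun y => add_zero y

theorem tr_z_sq : tr z6 * tr z6 = 1 := Equiv.ext fun y => v6_add_add y z6

theorem J0_two : IsPGroup 2 J0 := fun g => ⟨2, Subtype.ext (by
  change (g : P6) ^ 4 = 1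
  rw [show (g : P6) ^ 4 = g * g * (g * g) by simp only [pow_succ, pow_zero, one_mul, mul_assoc],
    J0_sq g.2]
  exact Equiv.ext fun y => v6_add_add y _)⟩

theorem J0_ker {g : P6} (hg : g ∈ J0) (h : p0 g = 0) :
    g = 1 ∨ g = tr z6 ∨ g = rv z6 ∨ g = rv z6 * tr z6 := by
  have hz := tr_J0 (f6_self z6)
  have h0 : pv (g 0) (xw g) = pv 0 0 := h.trans (by simp [pv, emb_zero])
  have e1 : (rv z6 * tr z6) 0 = 0 + z6 := by decide
  have e2 : xw ⇑(rv z6 * tr z6) = 0 + z6 := by decide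
  rcases eq_of_emb (hg.2.1.trans (f6_zero_left _).symm) (pv_inj h0).1 with a | a <;>
    rcases eq_of_emb ((C0_xw hg.1).trans (f6_zero_left _).symm) (pv_inj h0).2 with b | b
  · exact .inl (J0_ext hg (one_mem _) a (b.trans (by rw [← tr_0, xw_tr])))
  · exact .inr (.inr (.inl (J0_ext hg rv_J0 (a.trans (rv_zero _).symm) (by rw [b, xw_rv, zero_add]))))
  · exact .inr (.inl (J0_ext hg hz a (b.trans (xw_tr _).symm)))
  · exact .inr (.inr (.inr (J0_ext hg (mul_mem rv_J0 hz) (a.trans e1.symm) (b.trans e2.symm))))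

/-- The homomorphism `J₀ → F₂` killing `z`. -/
def m0 (g : P6) : GF4 := xw g 2 + Qw (emb (xw g))

theorem m0_mul {g k : P6} (hg : g ∈ J0) (hk : k ∈ J0) : m0 (g * k) = m0 g + m0 k := by
  rw [m0, J0_mulw hg hk, emb_addz, emb_add, m0, m0, ← h4_emb' (C0_xw hk.1) (C0_xw hg.1)]
  have h4 : ∀ a : GF4, (a ^ 2) ^ 2 = a := by decide
  simp only [h4_def, emb, Qw, z6, h4, Matrix.cons_val_zero, Matrix.cons_val_one, Matrix.cons_val,
    Pi.add_apply, Pi.smul_apply, smul_eq_mul]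
  linear_combination (xw k 0 * xw g 0 ^ 2 + xw k 0 ^ 2 * xw g 0 + xw k 1 * xw g 1 ^ 2 +
    xw k 1 ^ 2 * xw g 1) * gf_two

theorem m0_cases {g : P6} (hg : g ∈ J0) : m0 g = 0 ∨ m0 g = 1 := by
  have : ∀ X : V6, f6 X z6 = 0 → X 2 + Qw (emb X) = 0 ∨ X 2 + Qw (emb X) = 1 :=
    forall3 (by decide +kernel)
  exact this _ (C0_xw hg.1)

/-- Extension of an isometry of the fixed space of `phi`. -/
theorem exists_ext {g : P4} (hg : IsLin g) (hc : Commute g phi) : ∃ σ ∈ C0, σ 0 = 0 ∧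
    xw ⇑σ⁻¹ = 0 ∧ ∀ y, emb (lp σ y) = g (emb y) ∧ lp σ y 2 = y 2 := by
  have h1 : ∀ {g : P4}, Commute g phi → ∀ y, emb ![g (emb y) 0, g (emb y) 2, y 2] = g (emb y) :=
    fun {g} hc y => by
      have h : phi (g (emb y)) = g (emb y) := by
        rw [← Equiv.Perm.mul_apply, ← hc.eq, Equiv.Perm.mul_apply, phi_emb]
      have h0 := congrFun h 1
      have h2 := congrFun h 3
      funext i; fin_cases i <;> simp_all [emb, phi_apply]
  have h2 : ∀ {g : P4}, Commute g phi → ∀ y : V6, (fun y : V6 => (![g⁻¹ (emb y) 0, g⁻¹ (emb y) 2, y 2] : V6))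
      ![g (emb y) 0, g (emb y) 2, y 2] = y := fun {g} hc y => by
    simp only [h1 hc]
    funext i; fin_cases i <;> simp [emb]
  let σ : P6 := ⟨fun y => ![g (emb y) 0, g (emb y) 2, y 2], fun y => ![g⁻¹ (emb y) 0, g⁻¹ (emb y) 2, y 2],
    h2 hc, fun y => by simpa only [inv_inv] using h2 hc.inv_left y⟩
  have h3 : ∀ y, σ y = ![g (emb y) 0, g (emb y) 2, y 2] := fun _ => rfl
  have h0 : σ 0 = 0 := by rw [h3, emb_zero, hg.zero]; decide
  have h4 : ∀ y, lp σ y = σ y := fun y => by rw [lp, h0, add_zero]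
  have h5 : ∀ c : GF4, σ (c • z6) = c • z6 := fun c => by
    rw [h3, emb_z, hg.zero]; funext i; fin_cases i <;> simp [z6]
  refine ⟨σ, ⟨⟨fun x y => ?_, fun x y => ?_⟩, by simpa [h4] using h5 1⟩, h0, ?_, fun y => ?_⟩
  · simp only [h0, h3, emb_add, hg.add, add_zero]
    funext i; fin_cases i <;> simp
  · rw [h0, add_zero, add_zero, h4_emb, h4_emb x, h3, h3, h1 hc, h1 hc, hg.form]; rfl
  · rw [xw, lp, (Equiv.Perm.inv_eq_iff_eq ..).2 h0.symm,
      (Equiv.Perm.inv_eq_iff_eq ..).2 (show a6 = σ a6 from by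
        rw [show a6 = om • z6 by decide, h5]), add_zero, v6_add_self]
  · rw [h4, h3, h1 hc]; exact ⟨rfl, rfl⟩

theorem tv_pv {v x X : V6} (hv : f6 v z6 = 0) (h0 : emb v ≠ 0) (hx : f6 x z6 = 0)
    (hX : f6 X z6 = 0) : pv (x + f6 x v • v) (X + f6 X v • v) = tv (emb v) (pv x X) := by
  have h : ∀ y, emb (f6 y v • v) = f6 y v • emb v := fun y => by
    rcases f6_cases y v with e | e <;> simp [e, emb_zero]
  rw [tv_apply ⟨h0, sing_of_phi (phi_emb v)⟩, pv_add]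
  simp only [pv, h, h4_add_left, h4_smul_left, h4_emb', hx, hX, hv, add_smul, smul_smul]

/-- The types of involutions that are fused into `J₀ - {d, dz}`. -/
def L6 : List (ℕ × ℕ × Bool) :=
  [(0, 64, true), (0, 32, false), (16, 16, true), (0, 16, true), (16, 16, false), (0, 16, false)]

theorem exists_rep : ∀ τ ∈ L6, ∃ x X : V6, f6 x z6 = 0 ∧ f6 X z6 = 0 ∧ f6 x X = 0 ∧
    ty (jf x X) = τ := by
  intro τ h
  simp only [L6, List.mem_cons, List.not_mem_nil, or_false] at h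
  rcases h with rfl | rfl | rfl | rfl | rfl | rfl
  · exact ⟨z6, 0, by decide +kernel⟩
  · exact ⟨p6, z6, by decide +kernel⟩
  · exact ⟨0, p6, by decide +kernel⟩
  · exact ⟨![0, 1, 0], p6, by decide +kernel⟩
  · exact ⟨0, ![1, 0, 1], by decide +kernel⟩
  · exact ⟨![0, 1, 0], ![1, 0, 1], by decide +kernel⟩

theorem ty_d : ty ⇑(rv z6) = (32, 32, false) ∧ ty ⇑(rv z6 * tr z6) = (32, 32, false) ∧
    ty ⇑(rv p6) = (32, 32, false) ∧ ty (rf p6 ∘ jf 0 ![0, 1, 1]) = (8, 8, false) ∧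
    ty ⇑(1 : P6) = (64, 64, true) := by decide +kernel

theorem ty_tr {v : V6} (h : v ≠ 0) : ty ⇑(tr v) = (0, 64, true) := by
  have h1 : ∀ y, tr v y + tr v 0 = y := lp_tr v
  simp only [ty, h1, f6_self, decide_true, List.countP_true, List.all_eq_true, Prod.mk.injEq]
  exact ⟨List.countP_eq_zero.2 fun y _ => by simpa [tr_apply] using h, by decide, by simp⟩

theorem n2_aux {x X : V6} (hx : f6 x z6 = 0) (hX : f6 X z6 = 0) (h : pv x X = x2) :
    ty (rf p6 ∘ jf x X) ∈ L6 := by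
  have h1 : ∀ y ∈ [![0, 1, 0], ![0, 1, 0] + z6], ∀ Y ∈ [0, 0 + z6], ty (rf p6 ∘ jf y Y) ∈ L6 := by
    decide +kernel
  have e : x2 = pv ![0, 1, 0] 0 := by decide +kernel
  have h0 := pv_inj (h.trans e)
  have e1 : f6 ![0, 1, 0] z6 = 0 := by decide +kernel
  exact h1 _ (by simpa using eq_of_emb (hx.trans e1.symm) h0.1) _
    (by simpa using eq_of_emb (hX.trans (f6_zero_left _).symm) h0.2)

theorem n3_aux {x X : V6} (hx : f6 x z6 = 0) (hX : f6 X z6 = 0) {s : GF4} (h : pv x X = s • x1) :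
    ty (rf p6 ∘ jf x X) ∈ L6 ∨ ∃ y ∈ [0, ![om, 0, 0]], ∃ Y ∈ [0, ![om, 0, 0]],
      ∀ v ∈ all6, jf y Y (rf p6 v) = rf p6 (jf x X (jf y Y v)) := by
  have h1 : ∀ s : GF4, ∃ y ∈ [0, p6], ∃ Y ∈ [0, p6], s • x1 = pv y Y := by decide +kernel
  obtain ⟨y, hy, Y, hY, e⟩ := h1 s
  have h0 := pv_inj (h.trans e)
  simp only [List.mem_cons, List.not_mem_nil, or_false] at hy hY
  rcases hy with rfl | rfl <;> rcases hY with rfl | rfl <;>
    rcases eq_of_emb (hx.trans (by decide +kernel)) h0.1 with rfl | rfl <;>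
    rcases eq_of_emb (hX.trans (by decide +kernel)) h0.2 with rfl | rfl <;> decide +kernel

end Cfsg.Agent.F6
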