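import Mathlib
import Cfsg.Agent.F6.FrM
import Cfsg.Agent.Lyons.Tools

/-! From `St` to `Fr`. -/

set_option autoImplicit false

namespace Cfsg.Agent.F6

open Subgroup Cfsg.Agent.Class TT TT.UQ U6R ZJ Cfsg.Agent.PLocal.Amb

variable {G : Type*} [Group G] {A J : Subgroup G} {α : V6 → G} {ϖ : G → P6}

theorem zpow_cases {t : G} (h : t * t = 1) (n : ℤ) : t ^ n = 1 ∨ t ^ n = t := by
  have : t ^ (2 : ℤ) = 1 := by rw [zpow_two, h]
  rcases Int.even_or_odd' n with ⟨k, rfl | rfl⟩ <;> simp [zpow_add, zpow_mul, this]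

namespace St

variable (h : St A α ϖ)
include h

def hom : 𝐍[A] →* P6 := MonoidHom.mk' (fun g => ϖ g) fun g k => h.mul g g.2 k k.2

theorem map_one' : ϖ 1 = 1 := map_one h.hom

theorem map_inv' {g : G} (hg : g ∈ 𝐍[A]) : ϖ g⁻¹ = (ϖ g)⁻¹ := map_inv h.hom ⟨g, hg⟩

theorem map_pow' {g : G} (hg : g ∈ 𝐍[A]) (n : ℕ) : ϖ (g ^ n) = ϖ g ^ n := map_pow h.hom ⟨g, hg⟩ n

theorem map_conj {g k : G} (hg : g ∈ 𝐍[A]) (hk : k ∈ 𝐍[A]) :
    ϖ (g * k * g⁻¹) = ϖ g * ϖ k * (ϖ g)⁻¹ := by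
  rw [h.mul _ (mul_mem hg hk) _ (inv_mem hg), h.mul _ hg _ hk, h.map_inv' hg]

def pre (P : Subgroup P6) : Subgroup G := (P.comap h.hom).map (𝐍[A]).subtype

theorem mem_pre {P : Subgroup P6} {g : G} : g ∈ h.pre P ↔ g ∈ 𝐍[A] ∧ ϖ g ∈ P :=
  ⟨by rintro ⟨g, hg, rfl⟩; exact ⟨g.2, hg⟩, fun e => ⟨⟨g, e.1⟩, e.2, rfl⟩⟩

theorem αA (x : V6) : α x ∈ A := (h.mem _).2 ⟨x, rfl⟩

theorem αN (x : V6) : α x ∈ 𝐍[A] := le_normalizer (h.αA x)

theorem α0 : α 0 = 1 := by simpa using h.add 0 0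

theorem αα (x : V6) : α x * α x = 1 := by rw [← h.add, v6_add_self, h.α0]

theorem conj_inv {s t : G} (hs : s ∈ 𝐍[A]) (ht : t ∈ 𝐍[A]) (s2 : s * s = 1) (t2 : t * t = 1)
    (e : ty ⇑(ϖ s) = ty ⇑(ϖ t)) : ∃ n ∈ 𝐍[A], n * s * n⁻¹ = t := by
  have h1 : ∀ {s}, s ∈ 𝐍[A] → s * s = 1 → ϖ s * ϖ s = 1 := fun hs s2 => by
    rw [← h.mul _ hs _ hs, s2, h.map_one']
  obtain ⟨σ, hσ, e⟩ := (h.as s hs).conj_of_ty (h.as t ht) (h1 hs s2) (h1 ht t2) e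
  obtain ⟨g, hg, rfl⟩ := h.surj σ hσ
  have h2 := mul_mem (mul_mem hg hs) (inv_mem hg)
  obtain ⟨k, hk⟩ := Inv.exists_pow_conj_of_odd (s := g * s * g⁻¹) (t := t)
    (by rw [conj_mul, s2]; simp) t2 (h.odd _ (mul_mem h2 ht) (by
      rw [h.mul _ h2 _ ht, h.map_conj hg hs, e, h1 ht t2]))
  exact ⟨(g * s * g⁻¹ * t) ^ k * g, mul_mem (pow_mem (mul_mem h2 ht) k) hg,
    Eq.trans (by group) hk⟩


variable [Finite G]

theorem inj2 {P : Subgroup G} (hP : IsPGroup 2 P) (hN : P ≤ 𝐍[A]) {x y : G} (hx : x ∈ P) (hy : y ∈ P)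
    (e : ϖ x = ϖ y) : x = y :=
  inv_mul_eq_one.1 (Lyons.eq_one_of_odd hP (mul_mem (inv_mem hx) hy) (h.odd _
    (hN (mul_mem (inv_mem hx) hy)) (by
      rw [h.mul _ (inv_mem (hN hx)) _ (hN hy), h.map_inv' (hN hx), e, inv_mul_cancel])))

theorem dec {S : Subgroup G} {P : Subgroup P6} (hS : IsSyl 2 S (h.pre P)) (hP : IsPGroup 2 P) {g : G}
    (hg : g ∈ h.pre P) : ∃ s ∈ S, ϖ s = ϖ g := by
  have h1 : h.pre ⊥ ≤ h.pre P := map_mono (comap_mono bot_le)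
  rw [← hS.sup_eq_of_pRes_le (N := h.pre ⊥) (pRes_le_iff.2 fun k hk hc => ?_) h1,
    mem_sup_of_le_normalizer_left (le_normalizer_iff_cj.2 fun s hs => cj_le_iff_forall.2 fun k hk => ?_)] at hg
  · obtain ⟨k, hk, s, hs, rfl⟩ := hg
    rw [h.mem_pre, mem_bot] at hk
    exact ⟨s, hs, by rw [h.mul _ hk.1 _ (h.mem_pre.1 (hS.le hs)).1, hk.2, one_mul]⟩
  · have h2 := (h.mem_pre.1 (hS.le hs)).1
    rw [h.mem_pre, mem_bot] at hk ⊢
    exact ⟨mul_mem (mul_mem h2 hk.1) (inv_mem h2), by rw [h.map_conj h2 hk.1, hk.2]; simp⟩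
  · rw [h.mem_pre] at hk ⊢
    exact ⟨hk.1, eq_one_of_isPGroup_of_coprime hP hk.2 (Nat.Coprime.coprime_dvd_left
      (orderOf_dvd_of_pow_eq_one (by rw [← h.map_pow' hk.1, pow_orderOf_eq_one, h.map_one'])) hc)⟩

end St

/-- The lift of `J₀`. -/
structure SJ (A J : Subgroup G) (α : V6 → G) (ϖ : G → P6) : Prop extends St A α ϖ where
  syl : IsSyl 2 J (toSt.pre J0)
  αJ : ∀ x, f6 x z6 = 0 → α x ∈ J

theorem St.exists_SJ (h : St A α ϖ) : ∃ J, SJ A J α ϖ := by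
  have hA : IsPGroup 2 A := isPGroup_iff.2 fun x hx => by
    obtain ⟨v, rfl⟩ := (h.mem x).1 hx
    exact ⟨1, by rw [pow_one, pow_two, h.αα]⟩
  obtain ⟨J, h1, h2⟩ := exists_isSyl_ge (hA.to_inf_left (K := h.pre J0)) inf_le_right
  exact ⟨J, h, h1, fun x hx => h2 ⟨h.αA x, h.mem_pre.2 ⟨h.αN x, h.tr x ▸ tr_J0 hx⟩⟩⟩

open Classical in
/-- The action of `N(J)`. -/
noncomputable def rho (J : Subgroup G) (π : G → V4) (g : G) : P4 :=
  if h : ∃ r : P4, ∀ x ∈ J, π (g * x * g⁻¹) = r (π x) then h.choose else 1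

namespace SJ

variable (h : SJ A J α ϖ)
include h

theorem JN : J ≤ 𝐍[A] := fun _ hx => (h.mem_pre.1 (h.syl.le hx)).1

theorem J0' {x : G} (hx : x ∈ J) : ϖ x ∈ J0 := (h.mem_pre.1 (h.syl.le hx)).2

theorem mulJ {x y : G} (hx : x ∈ J) (hy : y ∈ J) : ϖ (x * y) = ϖ x * ϖ y := h.mul _ (h.JN hx) _ (h.JN hy)

theorem padd {x y : G} (hx : x ∈ J) (hy : y ∈ J) : p0 (ϖ (x * y)) = p0 (ϖ x) + p0 (ϖ y) := by
  rw [h.mulJ hx hy, p0_mul (h.J0' hx) (h.J0' hy)]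

theorem pone : p0 (ϖ 1) = 0 := by simpa using h.padd (one_mem J) (one_mem J)

theorem pinv {x : G} (hx : x ∈ J) : p0 (ϖ x⁻¹) = p0 (ϖ x) :=
  v4_eq_of_add (by rw [← h.padd (inv_mem hx) hx, inv_mul_cancel, h.pone])

def Zs : Subgroup G where
  carrier := {y | y ∈ J ∧ p0 (ϖ y) = 0}
  mul_mem' hx hy := ⟨mul_mem hx.1 hy.1, by rw [h.padd hx.1 hy.1, hx.2, hy.2, add_zero]⟩
  one_mem' := ⟨one_mem _, h.pone⟩
  inv_mem' hx := ⟨inv_mem hx.1, by rw [h.pinv hx.1, hx.2]⟩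

theorem zJ : α z6 ∈ J := h.αJ _ (f6_self _)

theorem pα (x : V6) : p0 (ϖ (α x)) = emb x := by
  rw [h.tr, p0, tr_zero, xw_tr, pv, emb_zero, smul_zero, add_zero]

variable [Finite G]

theorem injJ {x y : G} (hx : x ∈ J) (hy : y ∈ J) (e : ϖ x = ϖ y) : x = y :=
  h.inj2 h.syl.pgrp h.JN hx hy e

theorem liftJ {σ : P6} (hσ : σ ∈ J0) : ∃ x ∈ J, ϖ x = σ := by
  obtain ⟨g, hg, rfl⟩ := h.surj σ hσ.1.1
  exact h.dec h.syl J0_two (h.mem_pre.2 ⟨hg, hσ⟩)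

theorem liftJ' {x X : V6} (hx : f6 x z6 = 0) (hX : f6 X z6 = 0) :
    ∃ j ∈ J, ϖ j 0 = x ∧ xw (ϖ j) = X := by
  obtain ⟨σ, hσ, e⟩ := exists_J0 hx hX
  obtain ⟨j, hj, rfl⟩ := h.liftJ hσ
  exact ⟨j, hj, e⟩

theorem psurj (v : V4) : ∃ x ∈ J, p0 (ϖ x) = v := by
  obtain ⟨x, X, hx, hX, rfl⟩ := exists_pv v
  obtain ⟨j, hj, rfl, rfl⟩ := h.liftJ' (f6_z_of hx) (f6_z_of hX)
  exact ⟨j, hj, rfl⟩

theorem pcomm {x y : G} (hx : x ∈ J) (hy : y ∈ J) : Commute x y ↔ bf (p0 (ϖ x)) (p0 (ϖ y)) = 0 := by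
  rw [← J0_comm (h.J0' hx) (h.J0' hy)]
  exact ⟨fun e => by rw [commute_iff_eq, ← h.mulJ hx hy, e.eq, h.mulJ hy hx], fun e =>
    h.injJ (mul_mem hx hy) (mul_mem hy hx) (by rw [h.mulJ hx hy, e.eq, h.mulJ hy hx])⟩

theorem pcent {y : G} (hy : y ∈ J) : p0 (ϖ y) = 0 ↔ ∀ x ∈ J, Commute x y :=
  ⟨fun e x hx => by rw [h.pcomm hx hy, e, bf_of_h4 (h4_zero_right _)], fun e =>
    eq_zero_of_bf fun v => by
      obtain ⟨x, hx, rfl⟩ := h.psurj v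
      exact (h.pcomm hx hy).1 (e x hx)⟩

theorem pwd {g x y : G} (hg : g ∈ 𝐍[J]) (hx : x ∈ J) (hy : y ∈ J) (e : p0 (ϖ x) = p0 (ϖ y)) :
    p0 (ϖ (g * x * g⁻¹)) = p0 (ϖ (g * y * g⁻¹)) := by
  have h1 := conj_mem_of_mem_normalizer hg hx
  have h2 := conj_mem_of_mem_normalizer hg hy
  refine v4_eq_of_add ?_
  rw [← h.padd h1 h2, conj_mul, h.pcent (conj_mem_of_mem_normalizer hg (mul_mem hx hy))]
  exact fun k hk => (comm_conj_inv.2 ((h.pcent (mul_mem hx hy)).1 (by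
    rw [h.padd hx hy, e, v4_add_self]) _ (conj_mem_of_mem_normalizer (inv_mem hg) hk)).symm).symm

theorem pact {g : G} (hg : g ∈ 𝐍[J]) {x : G} (hx : x ∈ J) :
    p0 (ϖ (g * x * g⁻¹)) = rho J (fun x => p0 (ϖ x)) g (p0 (ϖ x)) := by
  have : ∃ r : P4, ∀ x ∈ J, p0 (ϖ (g * x * g⁻¹)) = r (p0 (ϖ x)) := by
    choose s hs es using h.psurj
    refine ⟨Equiv.ofBijective (fun v => p0 (ϖ (g * s v * g⁻¹)))
      (Finite.injective_iff_bijective.1 fun u v e => ?_), fun x hx => h.pwd hg hx (hs _) (es _).symm⟩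
    have := h.pwd (inv_mem hg) (conj_mem_of_mem_normalizer hg (hs u))
      (conj_mem_of_mem_normalizer hg (hs v)) e
    simpa [mul_assoc, es] using this
  rw [rho, dif_pos this]
  exact this.choose_spec x hx

theorem aM (v : V6) : α v ∈ 𝐍[J] := mem_normalizer_of_cj_le (cj_le_iff_forall.2 fun x hx => by
  rw [inv_eq_of_mul_self (h.αα v), show α v * x * α v = α v * (x * α v * x⁻¹) * x by group,
    h.act x (h.JN hx), ← h.add]
  exact mul_mem (h.αJ _ (by rw [f6_add_left, ← lp, C0_z (h.J0' hx).1, gf_add_self])) hx)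

theorem psq {x : G} (hx : x ∈ J) : x * x = α (𝐡 (p0 (ϖ x)) (p0 (ϖ x)) • z6) :=
  h.injJ (mul_mem hx hx) (h.αJ _ (by rw [f6_smul_z _ (h4_self_cases _), f6_self, mul_zero]))
    (by rw [h.mulJ hx hx, J0_sq (h.J0' hx), h.tr])

omit [Finite G] in
theorem z1 : α z6 ≠ 1 := fun e => absurd (h.inj (e.trans h.α0.symm)) (by decide)

theorem sq1 {x : G} (hx : x ∈ J) : x * x = 1 ∨ x * x = α z6 := by
  rw [h.psq hx]
  rcases h4_self_cases (p0 (ϖ x)) with e | e <;> simp [e, h.α0]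

theorem commz {g : G} (hg : g ∈ 𝐍[J]) : g * α z6 * g⁻¹ = α z6 := by
  obtain ⟨x, hx, e⟩ := h.psurj e0
  have h1 := h.psq hx
  rw [e, h4_e0, show e0 0 • z6 = z6 from one_smul _ _] at h1
  have h2 := h.sq1 (conj_mem_of_mem_normalizer hg hx)
  rw [conj_mul, h1] at h2
  exact h2.resolve_left (by simpa [mul_inv_eq_one] using h.z1)

theorem C0' {n : G} (hn : n ∈ 𝐍[A]) (hm : n ∈ 𝐍[J]) : ϖ n ∈ C0 :=
  ⟨h.as n hn, h.inj ((h.act n hn z6).symm.trans (h.commz hm))⟩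

theorem rho_pv {n : G} (hn : n ∈ 𝐍[A]) (hm : n ∈ 𝐍[J]) {x X : V6} (hx : f6 x z6 = 0)
    (hX : f6 X z6 = 0) : rho J (fun x => p0 (ϖ x)) n (pv x X) =
      pv (lp (ϖ n) x + f6 (ϖ n 0) z6 • lp (ϖ n) X) (lp (ϖ n) X) := by
  obtain ⟨j, hj, rfl, rfl⟩ := h.liftJ' hx hX
  rw [← p0_conj (h.C0' hn hm) (h.J0' hj), ← h.map_conj hn (h.JN hj), h.pact hm hj, p0]

theorem memA {x : G} (hx : x ∈ J) {s : V6} (hs : f6 s z6 = 1) (e : lp (ϖ x) s = s) : x ∈ A :=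
  h.injJ hx (h.αJ _ (h.J0' hx).2.1) (by rw [h.tr]; exact J0_tr (h.J0' hx) hs e) ▸ h.αA _

/-- The normalizer of `J⟨a⟩` in `N(J)` normalizes `A`. -/
theorem memN {r j : G} (hr : r ∈ 𝐍[J]) (hj : j ∈ J) (e : r * α a6 * r⁻¹ = α a6 * j) : r ∈ 𝐍[A] := by
  have h1 : j ∈ A := by
    have h2 : α a6 * j * (α a6 * j) = 1 := by rw [← e, conj_mul, h.αα]; simp
    have h3 := congrArg (fun g => ϖ g 0) h2
    have h4 := mul_mem (h.αN a6) (h.JN hj)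
    simp only [h.mul _ h4 _ h4, h.mul _ (h.αN a6) _ (h.JN hj), h.tr, h.map_one',
      Equiv.Perm.mul_apply, tr_apply, Equiv.Perm.one_apply] at h3
    refine h.memA hj (s := ϖ j 0 + a6) (by rw [f6_add_left, (h.J0' hj).2.1, f6_a_z, zero_add]) ?_
    rw [lp, v6_eq_of_add h3, add_comm]
  obtain ⟨s, hs⟩ := (h.mem _).1 (mul_mem (h.αA a6) h1)
  have h2 : f6 s z6 = 1 := (f6_cases s z6).resolve_left fun c => by
    have := h.αJ s c
    rw [hs, mul_mem_cancel_right hj] at this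
    have := (h.J0' this).2.1
    rw [h.tr, tr_zero, f6_a_z] at this
    exact one_ne_zero this
  have h3 : ∀ v, f6 v z6 = 0 → r * α v * r⁻¹ ∈ A := fun v hv => by
    have h4 := conj_mem_of_mem_normalizer hr (h.αJ v hv)
    refine h.memA h4 h2 (h.inj ((h.act _ (h.JN h4) s).symm.trans (conj_eq_of_commute ?_)))
    rw [hs, ← e, commute_conj_iff', commute_iff_eq, ← h.add, ← h.add, add_comm]
  refine mem_normalizer_of_cj_le (cj_le_iff_forall.2 fun x hx => ?_)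
  obtain ⟨v, rfl⟩ := (h.mem x).1 hx
  rcases f6_cases v z6 with c | c
  · exact h3 v c
  · rw [← v6_add_add v a6, h.add, ← conj_mul, e]
    exact mul_mem (h3 _ (by rw [f6_add_left, c, f6_a_z, gf_add_self])) (mul_mem (h.αA _) h1)

/-- The kernel of the action on `J / Z`. -/
def Ys (_ : SJ A J α ϖ) : Subgroup G where
  carrier := {g | g ∈ 𝐍[J] ∧ ∀ x ∈ J, p0 (ϖ (g * x * g⁻¹)) = p0 (ϖ x)}
  mul_mem' {g k} hg hk := ⟨mul_mem hg.1 hk.1, fun x hx => by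
    rw [← hk.2 x hx, ← hg.2 _ (conj_mem_of_mem_normalizer hk.1 hx)]; congr 2; group⟩
  one_mem' := ⟨one_mem _, fun x _ => by simp⟩
  inv_mem' {g} hg := ⟨inv_mem hg.1, fun x hx => by
    rw [← hg.2 _ (conj_mem_of_mem_normalizer (inv_mem hg.1) hx)]; congr 2; group⟩

omit [Finite G] in
theorem JY : J ≤ h.Ys := fun k hk => ⟨le_normalizer hk, fun x hx => by
  rw [h.padd (mul_mem hk hx) (inv_mem hk), h.padd hk hx, h.pinv hk, add_comm (p0 (ϖ k)), v4_add_add']⟩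

theorem MY : 𝐍[J] ≤ 𝐍[h.Ys] := le_normalizer_iff_cj.2 fun g hg => cj_le_iff_forall.2 fun y hy =>
  ⟨mul_mem (mul_mem hg hy.1) (inv_mem hg), fun x hx => by
    have h1 := conj_mem_of_mem_normalizer (inv_mem hg) hx
    have := h.pwd hg (conj_mem_of_mem_normalizer hy.1 h1) h1 (hy.2 _ h1)
    convert this using 3 <;> group⟩

theorem memY {g : G} (hg : g ∈ 𝐍[J]) : g ∈ h.Ys ↔ rho J (fun x => p0 (ϖ x)) g = 1 :=
  ⟨fun e => Equiv.ext fun v => by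
    obtain ⟨x, hx, rfl⟩ := h.psurj v
    rw [← h.pact hg hx, e.2 x hx]; rfl, fun e => ⟨hg, fun x hx => by rw [h.pact hg hx, e]; rfl⟩⟩

theorem rho_a : rho J (fun x => p0 (ϖ x)) (α a6) = phi := Equiv.ext fun v => by
  obtain ⟨x, X, hx, hX, rfl⟩ := exists_pv v
  rw [h.rho_pv (h.αN _) (h.aM _) (f6_z_of hx) (f6_z_of hX), h.tr, lp_tr, lp_tr, tr_zero, f6_a_z,
    one_smul, phi_pv]

theorem aY : α a6 ∉ h.Ys := fun e => IsLin.one.not_semi (((h.memY (h.aM _)).1 e) ▸ h.rho_a ▸ phi_semi)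

omit [Finite G] in
theorem mem_sup_a {K : Subgroup G} (hK : α a6 ∈ 𝐍[K]) {g : G} (hg : g ∈ zpowers (α a6) ⊔ K) :
    g ∈ K ∨ ∃ k ∈ K, g = α a6 * k := by
  obtain ⟨x, hx, k, hk, rfl⟩ := (mem_sup_of_le_normalizer_right (zpowers_le.2 hK)).1 hg
  obtain ⟨n, rfl⟩ := mem_zpowers_iff.1 hx
  rcases zpow_cases (h.αα a6) n with e | e <;> rw [e]
  · exact .inl (by rwa [one_mul])
  · exact .inr ⟨k, hk, rfl⟩

theorem memN' {r : G} (hr : r ∈ 𝐍[J]) (e : r ∈ 𝐍[zpowers (α a6) ⊔ J]) : r ∈ 𝐍[A] := by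
  rcases h.mem_sup_a (h.aM _) (conj_mem_of_mem_normalizer e (mem_sup_left (mem_zpowers _))) with c | c
  · exact absurd (h.JY (by simpa [mul_assoc] using conj_mem_of_mem_normalizer (inv_mem hr) c)) h.aY
  · obtain ⟨j, hj, c⟩ := c
    exact h.memN hr hj c

theorem two_a : IsPGroup 2 ↥(zpowers (α a6) ⊔ J) :=
  isPGroup_sup (isPGroup_zpowers ⟨1, by rw [pow_one, pow_two, h.αα]⟩) h.syl.pgrp
    (zpowers_le.2 (h.aM _))

theorem YM : zpowers (α a6) ⊔ h.Ys ≤ 𝐍[J] := sup_le (zpowers_le.2 (h.aM _)) fun _ e => e.1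

theorem sylB : IsSyl 2 (zpowers (α a6) ⊔ J) (zpowers (α a6) ⊔ h.Ys) := by
  refine ⟨sup_le_sup_left h.JY _, h.two_a, fun R hR h1 h2 =>
    (eq_of_inf_normalizer_le hR h1 fun r hr => ?_).ge⟩
  have key : ∀ r ∈ R, r ∈ 𝐍[zpowers (α a6) ⊔ J] → r ∈ h.Ys → r ∈ J := fun r hr hn hy => by
    have hN := h.memN' hy.1 hn
    have h3 := fun x X hx hX => pv_inj ((h.rho_pv hN hy.1 (x := x) (X := X) hx hX).symm.trans
      (by rw [(h.memY hy.1).1 hy]; rfl : _ = pv x X))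
    refine h.syl.le_of_normalizes (hR.to_le (zpowers_le.2 hr)) (zpowers_le.2 (h.mem_pre.2 ⟨hN,
      h.C0' hN hy.1, (f6_cases _ _).resolve_right fun c => ?_, fun v hv =>
        (h3 0 v (f6_zero_left _) hv).2⟩)) (zpowers_le.2 hy.1) (mem_zpowers r)
    have h4 := h3 0 p6 (f6_zero_left _) (by decide)
    rw [c, one_smul, lp, v6_add_self, zero_add, h4.2] at h4
    exact absurd h4.1 (by decide)
  have ha : α a6 ∈ zpowers (α a6) ⊔ J := mem_sup_left (mem_zpowers _)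
  rcases h.mem_sup_a (h.MY (h.aM _)) (h2 hr.1) with c | ⟨k, hk, rfl⟩
  · exact mem_sup_right (key r hr.1 hr.2 c)
  · exact mul_mem ha (mem_sup_right (key k ((mul_mem_cancel_left (h1 ha)).1 hr.1)
      ((mul_mem_cancel_left (le_normalizer ha)).1 hr.2) hk))

theorem triv {g : G} (hg : g ∈ h.Ys) {k : ℕ} (e : g ^ 2 ^ k = 1) : g ∈ J := by
  obtain ⟨c, hc, h1⟩ := h.sylB.exists_cj_le (isPGroup_zpowers ⟨k, e⟩) (zpowers_le.2 (mem_sup_right hg))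
  rcases h.mem_sup_a (h.aM _) (h1 (conj_mem_cj c (mem_zpowers g))) with c' | ⟨j, hj, c'⟩
  · simpa [mul_assoc] using conj_mem_of_mem_normalizer (inv_mem (h.YM hc)) c'
  · exact absurd ((mul_mem_cancel_right (h.JY hj)).1
      (c' ▸ conj_mem_of_mem_normalizer (h.MY (h.YM hc)) hg)) h.aY

theorem jm {d : G} (hd : d ∈ J) (e : ϖ d = rv z6) :
    JM h.Zs J (α z6) d (fun x => p0 (ϖ x)) (rho J fun x => p0 (ϖ x)) := by
  have h1 : p0 (ϖ d) = 0 := by rw [e, p0, rv_zero, xw_rv]; decide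
  have h2 : p0 (ϖ (α z6)) = 0 := by rw [h.pα]; decide
  have h3 : ∀ x ∈ J, x * x = 1 ↔ 𝐡 (p0 (ϖ x)) (p0 (ϖ x)) = 0 := fun x hx => by
    rw [h.psq hx]
    rcases h4_self_cases (p0 (ϖ x)) with e | e <;> simp [e, h.α0, h.z1]
  refine ⟨fun y => ⟨fun hy => ?_, ?_⟩, h.z1, fun c => ?_, fun c => ?_, h.αα _,
    (h3 d hd).2 (by rw [h1, h4_zero_left]), fun _ e => e.1, fun y hy => (h.pcent hy.1).1 hy.2,
    fun x hx y hy => ?_, fun x => h.sq1, fun x hx y => h.padd hx, h.psurj,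
    fun x hx => ⟨fun e => ⟨hx, e⟩, fun e => e.2⟩, h3, fun x hx y => h.pcomm hx,
    fun g hg x => h.pact hg, fun g hg e k => h.triv ((h.memY hg).2 e)⟩
  · refine (J0_ker (h.J0' hy.1) hy.2).imp (fun c => h.injJ hy.1 (one_mem _) ?_) <| Or.imp
      (fun c => h.injJ hy.1 h.zJ ?_) <| Or.imp (fun c => h.injJ hy.1 hd ?_)
        fun c => h.injJ hy.1 (mul_mem hd h.zJ) ?_
    · rw [c, h.map_one']
    · rw [c, h.tr]
    · rw [c, e]
    · rw [c, h.mulJ hd h.zJ, e, h.tr]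
  · rintro (rfl | rfl | rfl | rfl)
    · exact one_mem _
    · exact ⟨h.zJ, h2⟩
    · exact ⟨hd, h1⟩
    · exact h.Zs.mul_mem ⟨hd, h1⟩ ⟨h.zJ, h2⟩
  · rw [c, h.map_one'] at e
    exact absurd (congrArg (· a6) e) (by decide)
  · rw [c, h.tr] at e
    exact absurd (congrArg (· 0) e) (by decide)
  · by_cases c : Commute (ϖ x) (ϖ y)
    · exact .inl (conj_eq_of_commute ((h.pcomm hx hy).2 ((J0_comm (h.J0' hx) (h.J0' hy)).1 c)))
    · refine .inr (mul_inv_eq_of_eq_mul (h.injJ (mul_mem hx hy) (mul_mem (mul_mem hy h.zJ) hx) ?_))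
      rw [h.mulJ hx hy, h.mulJ (mul_mem hy h.zJ) hx, h.mulJ hy h.zJ, h.tr,
        J0_comm' (h.J0' hx) (h.J0' hy) c]

theorem rho_lin {n : G} (hn : n ∈ 𝐍[A]) (hm : n ∈ 𝐍[J]) (c : f6 (ϖ n 0) z6 = 0) {x X : V6}
    (hx : f6 x z6 = 0) (hX : f6 X z6 = 0) :
    rho J (fun x => p0 (ϖ x)) n (pv x X) = pv (lp (ϖ n) x) (lp (ϖ n) X) := by
  rw [h.rho_pv hn hm hx hX, c, zero_smul, add_zero]

theorem exists_M {σ : P6} (hσ : σ ∈ C0) : ∃ m ∈ 𝐍[J], m ∈ 𝐍[A] ∧ ϖ m = σ := by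
  obtain ⟨g, hg, rfl⟩ := h.surj σ hσ.1
  obtain ⟨n, hn, x, hx, e⟩ := h.syl.frattini (g := g) (mem_normalizer_of_cj_le (cj_le_iff_forall.2
    fun y hy => h.mem_pre.2 ⟨mul_mem (mul_mem hg (h.mem_pre.1 hy).1) (inv_mem hg), by
      rw [h.map_conj hg (h.mem_pre.1 hy).1]; exact (conj_data hσ (h.mem_pre.1 hy).2).1⟩))
  obtain ⟨s, hs, e'⟩ := h.dec h.syl J0_two hn
  have h1 := (h.mem_pre.1 hn).1
  have h2 : x ∈ 𝐍[A] := (mul_mem_cancel_left h1).1 (e ▸ hg)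
  exact ⟨s * x, mul_mem (le_normalizer hs) hx, mul_mem (h.JN hs) h2, by
    rw [e, h.mul _ (h.JN hs) _ h2, h.mul _ h1 _ h2, e']⟩

theorem inJ {d t : G} (hd : d ∈ J) (e : ϖ d = rv z6) (ht : t ∈ 𝐍[A]) (t2 : t * t = 1)
    (hτ : ty ⇑(ϖ t) ∈ L6) : InJ A J (α z6) d t := by
  obtain ⟨x, X, hx, hX, h0, h1⟩ := exists_rep _ hτ
  obtain ⟨j, hj, rfl, rfl⟩ := h.liftJ' hx hX
  rw [← funext (J0_eq (h.J0' hj))] at h1
  obtain ⟨n, hn, c⟩ := h.conj_inv ht (h.JN hj) t2 (((h.jm hd e).sq' j hj).2 (by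
    rw [p0, h4_pv hx hX, h0])) h1.symm
  rw [← h1] at hτ
  refine ⟨n, mem_sup_right hn, c ▸ hj, c ▸ ?_, c ▸ ?_⟩ <;> rintro rfl
  · rw [e, ty_d.1] at hτ; exact absurd hτ (by decide)
  · rw [h.mulJ hd h.zJ, e, h.tr, ty_d.2.1] at hτ; exact absurd hτ (by decide)

variable {d : G} (hd : d ∈ J) (ed : ϖ d = rv z6)
include hd ed

theorem cz_lin {n : G} (hn : n ∈ 𝐍[A]) (hm : n ∈ 𝐍[J]) (c : f6 (ϖ n 0) z6 = 0) : CZ h.Zs n := by
  refine (h.jm hd ed).cz_of hm (commute_of_conj_eq (((h.jm hd ed).conj_d hm).resolve_right fun e => ?_))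
  have h1 := (conj_data (h.C0' hn hm) (h.J0' hd)).2.1
  have h2 : f6 ((ϖ n)⁻¹ 0) z6 = 0 := by rw [← C0_z (h.C0' hn hm)]; simpa [lp] using c
  rw [← h.map_conj hn (h.JN hd), e, h.mulJ hd h.zJ, ed, h.tr, c, xw_rv, h2, rv_zero, lp,
    v6_add_self, zero_smul, add_zero] at h1
  exact absurd h1 (by decide)

theorem lin {n : G} (hn : n ∈ 𝐍[A]) (hm : n ∈ 𝐍[J]) (c : f6 (ϖ n 0) z6 = 0) :
    IsLin (rho J (fun x => p0 (ϖ x)) n) :=
  isLin_of ((h.jm hd ed).rho_add hm) (fun v => by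
    obtain ⟨x, X, hx, hX, rfl⟩ := exists_pv v
    rw [om_pv, h.rho_lin hn hm c (f6_z_of hx) (f6_z_of hX), h.rho_lin hn hm c (f6_z_of hX)
      (f6_z_of (by simp [hx, hX])), om_pv, (h.as n hn).lp_add]) ((h.jm hd ed).rho_self hm)

theorem cz_Y {y : G} (hy : y ∈ h.Ys) : CZ h.Zs y := by
  have j := h.jm hd ed
  obtain ⟨k, m, hm, e⟩ := Nat.exists_eq_two_pow_mul_odd (orderOf_pos y).ne'
  have h1 : y ^ m ∈ J := h.triv (pow_mem hy m) (k := k) (by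
    rw [← pow_mul, mul_comm, ← e, pow_orderOf_eq_one])
  refine j.cz_of hy.1 (commute_of_conj_eq ((j.conj_d hy.1).resolve_right fun c => ?_))
  have h2 : Commute (y * y) d := commute_of_conj_eq (by
    rw [show y * y * d * (y * y)⁻¹ = y * (y * d * y⁻¹) * y⁻¹ by group, c, ← conj_mul, c,
      h.commz hy.1, mul_assoc, j.zz, mul_one])
  obtain ⟨l, rfl⟩ := hm
  have h3 := j.cent d j.dZ _ h1
  rw [pow_succ, pow_mul, pow_two] at h3
  have h4 : Commute y d := by simpa using ((h2.pow_left l).inv_left.mul_left h3)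
  rw [conj_eq_of_commute h4] at c
  exact j.z1 (by simpa using c)

theorem normB {g : G} (hg : g ∈ 𝐍[J]) (c : Commute (rho J (fun x => p0 (ϖ x)) g) phi) :
    g ∈ 𝐍[zpowers (α a6) ⊔ h.Ys] := by
  have j := h.jm hd ed
  refine mem_normalizer_of_cj_le ?_
  rw [cj_sup, cj_of_mem_normalizer (h.MY hg)]
  refine sup_le (cj_le_iff_forall.2 fun x hx => ?_) le_sup_right
  obtain ⟨n, rfl⟩ := mem_zpowers_iff.1 hx
  rw [← conj_zpow]
  refine zpow_mem ?_ n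
  rw [show g * α a6 * g⁻¹ = α a6 * ((α a6)⁻¹ * (g * α a6 * g⁻¹)) by group]
  have h1 := mul_mem (mul_mem hg (h.aM a6)) (inv_mem hg)
  refine mul_mem (mem_sup_left (mem_zpowers _)) (mem_sup_right
    ((h.memY (mul_mem (inv_mem (h.aM _)) h1)).2 ?_))
  rw [j.rho_mul (inv_mem (h.aM _)) h1, j.rho_conj hg (h.aM _), j.rho_inv (h.aM _), h.rho_a,
    conj_eq_of_commute c, inv_mul_cancel]

theorem cphi {g : G} (hg : g ∈ 𝐍[J]) (c : Commute (rho J (fun x => p0 (ϖ x)) g) phi) :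
    IsLin (rho J (fun x => p0 (ϖ x)) g) ∧ CZ h.Zs g ∨
      IsLin (rho J (fun x => p0 (ϖ x)) g * phi) ∧ CZ h.Zs (g * α a6) := by
  have j := h.jm hd ed
  have key : ∀ n ∈ 𝐍[A], n ∈ 𝐍[J] → ∀ y ∈ h.Ys,
      IsLin (rho J (fun x => p0 (ϖ x)) (y * n)) ∧ CZ h.Zs (y * n) ∨
        IsLin (rho J (fun x => p0 (ϖ x)) (y * n) * phi) ∧ CZ h.Zs (y * n * α a6) := by
    intro n hn hm y hy
    rw [j.rho_mul hy.1 hm, (h.memY hy.1).1 hy, one_mul, mul_assoc]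
    refine (f6_cases (ϖ n 0) z6).imp (fun e => ⟨h.lin hd ed hn hm e,
      (h.cz_Y hd ed hy).mul (h.cz_lin hd ed hn hm e)⟩) fun e => ?_
    have h1 := mul_mem hn (h.αN a6)
    have h2 := mul_mem hm (h.aM a6)
    have h3 : f6 (ϖ (n * α a6) 0) z6 = 0 := by
      rw [h.mul _ hn _ (h.αN _), IsAS.mul_zero, f6_add_left, C0_z (h.C0' hn hm), h.tr, tr_zero,
        f6_a_z, e, gf_add_self]
    rw [← h.rho_a, ← j.rho_mul hm (h.aM _)]
    exact ⟨h.lin hd ed h1 h2 h3, (h.cz_Y hd ed hy).mul (h.cz_lin hd ed h1 h2 h3)⟩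
  obtain ⟨y, hy, n, hn, rfl⟩ := h.sylB.frattini (h.normB hd ed hg c)
  have hm := (mul_mem_cancel_left (h.YM hy)).1 hg
  rcases h.mem_sup_a (h.MY (h.aM _)) hy with c' | ⟨k, hk, rfl⟩
  · exact key n (h.memN' hm hn) hm y c'
  · rw [show α a6 * k * n = α a6 * k * (α a6)⁻¹ * (α a6 * n) by group]
    exact key _ (mul_mem (h.αN _) (h.memN' hm hn)) (mul_mem (h.aM _) hm) _
      (conj_mem_of_mem_normalizer (h.MY (h.aM _)) hk)

theorem exists_conj {t : G} (ht : t ∈ 𝐍[J]) (t2 : t * t = 1)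
    (c : Commute (rho J (fun x => p0 (ϖ x)) t) phi) :
    ∃ g ∈ zpowers (α a6) ⊔ h.Ys, g * t * g⁻¹ ∈ 𝐍[A] := by
  have h1 := h.normB hd ed ht c
  obtain ⟨P, hP, h2⟩ := exists_isSyl_ge (isPGroup_zpowers (p := 2) (x := t)
    ⟨1, by rw [pow_one, pow_two, t2]⟩) (le_sup_left (b := zpowers (α a6) ⊔ h.Ys))
  have h3 := sup_le (zpowers_le.2 h1) (le_normalizer (H := zpowers (α a6) ⊔ h.Ys))
  obtain ⟨g, hg, e⟩ := h.sylB.exists_cj_eq (hP.inf_of_le le_sup_right h3)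
  refine ⟨g, hg, h.memN' (mul_mem (mul_mem (h.YM hg) ht) (inv_mem (h.YM hg))) ?_⟩
  rw [← e, normalizer_cj]
  exact conj_mem_cj g (le_normalizer_inf (zpowers_le.2 (le_normalizer (h2 (mem_zpowers t))))
    (zpowers_le.2 h1) (mem_zpowers t))

theorem tv_of_ty {t : G} (hn : t ∈ 𝐍[A]) (hm : t ∈ 𝐍[J]) (t2 : t * t = 1)
    (e : ty ⇑(ϖ t) = (32, 32, false)) : rho J (fun x => p0 (ϖ x)) t = 1 ∨
      ∃ c ∈ uS 4, rho J (fun x => p0 (ϖ x)) t = tv c := by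
  obtain ⟨n, h1, rfl⟩ := h.conj_inv (h.JN hd) hn (h.jm hd ed).dd t2 (by rw [ed, e, ty_d.1])
  have h2 := h.as n h1
  have h3 : ∀ y, lp (ϖ (n * d * n⁻¹)) y = y + f6 y (lp (ϖ n) z6) • lp (ϖ n) z6 := fun y => by
    rw [h.map_conj h1 (h.JN hd), ed, (h2.mul (isAS_rv _)).lp_mul, h2.lp_mul, lp_rv, h2.lp_add,
      IsAS.lp_smul _ (f6_cases _ _), h2.lp_inv, ← h2.lp_form, h2.lp_inv]
  have h4 : ϖ (n * d * n⁻¹) 0 = f6 ((ϖ n)⁻¹ 0) z6 • lp (ϖ n) z6 := by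
    rw [h.map_conj h1 (h.JN hd), ed, Equiv.Perm.mul_apply, Equiv.Perm.mul_apply, eq_lp (ϖ n),
      rv_apply, h2.lp_add, IsAS.lp_smul _ (f6_cases _ _), add_right_comm, ← eq_lp]
    simp
  generalize lp (ϖ n) z6 = v at h3 h4
  have h5 : f6 v z6 = 0 := by
    have := h3 z6
    rw [(h.C0' hn hm).2, left_eq_add, f6_comm] at this
    refine (f6_cases v z6).resolve_right fun c => ?_
    rw [c, one_smul] at this
    rw [this, f6_zero_left] at c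
    exact zero_ne_one c
  have h6 : ∀ x X, x 2 = 0 → X 2 = 0 → rho J (fun x => p0 (ϖ x)) (n * d * n⁻¹) (pv x X) =
      pv (x + f6 x v • v) (X + f6 X v • v) := fun x X hx hX => by
    rw [h.rho_lin hn hm (by rw [h4, f6_smul _ _ (f6_cases _ _), h5, mul_zero]) (f6_z_of hx)
      (f6_z_of hX), h3, h3]
  by_cases c : emb v = 0
  · refine .inl (Equiv.ext fun u => ?_)
    obtain ⟨x, X, hx, hX, rfl⟩ := exists_pv u
    have : ∀ y, emb (y + f6 y v • v) = emb y := fun y => by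
      rcases f6_cases y v with a | a <;> simp [a, emb_add, c]
    rw [h6 x X hx hX, pv, this, this]; rfl
  · refine .inr ⟨_, ⟨c, sing_of_phi (phi_emb v)⟩, Equiv.ext fun u => ?_⟩
    obtain ⟨x, X, hx, hX, rfl⟩ := exists_pv u
    rw [h6 x X hx hX, tv_pv h5 c (f6_z_of hx) (f6_z_of hX)]

end SJ

theorem St.exists_Fr [Finite G] (h : St A α ϖ) :
    ∃ Z J d a e w π ρ μ, Fr A Z J (α z6) d a e w π ρ μ ∧ ϖ d = rv z6 := by
  obtain ⟨J, h⟩ := h.exists_SJ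
  obtain ⟨d, hd, ed⟩ := h.liftJ rv_J0
  have j := h.jm hd ed
  have hp : f6 p6 z6 = 0 := by decide
  have ep : emb p6 = x1 := by decide
  obtain ⟨e, eM, eN, ee, ϖe⟩ : ∃ e ∈ 𝐍[J], e ∈ 𝐍[A] ∧ e * e = 1 ∧ ϖ e = rv p6 := by
    obtain ⟨m, hm, hn, e⟩ := h.exists_M (rv_C0 hp)
    have h1 : rv p6 ^ 2 = 1 := Equiv.ext (rf_rf p6)
    obtain ⟨k, hk⟩ := h.odd _ (pow_mem hn 2) (by rw [h.map_pow' hn, e, h1])
    refine ⟨m ^ (2 * k + 1), pow_mem hm _, pow_mem hn _, ?_, ?_⟩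
    · rw [← pow_two, ← pow_mul, mul_comm, pow_mul, ← hk, pow_orderOf_eq_one]
    · rw [h.map_pow' hn, e, pow_succ, pow_mul, h1, one_pow, one_mul]
  have e0 : f6 (ϖ e 0) z6 = 0 := by rw [ϖe, rv_zero, f6_zero_left]
  have ex : ∀ x ∈ J, ⇑(ϖ (e * x)) = rf p6 ∘ jf (ϖ x 0) (xw (ϖ x)) := fun x hx => funext fun y => by
    rw [h.mul _ eN _ (h.JN hx), ϖe, Equiv.Perm.mul_apply, J0_eq (h.J0' hx)]; rfl
  have eq : ∀ k ∈ J, ∀ x ∈ J, ϖ k * rv p6 = rv p6 * ϖ x * ϖ k → k * e * k⁻¹ = e * x :=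
    fun k hk x hx c => by
      have h1 := conj_mem_of_mem_normalizer (inv_mem eM) hk
      rw [← h.injJ (mul_mem h1 (inv_mem hk)) hx (by
        rw [h.mulJ h1 (inv_mem hk), h.map_conj (inv_mem eN) (h.JN hk), h.map_inv' eN,
          h.map_inv' (h.JN hk), ϖe, inv_inv, mul_assoc _ (ϖ k), c]; group)]
      group
  have ec : ∀ x ∈ J, 𝐡 (p0 (ϖ x)) x1 = 0 → Commute x e := fun x hx c => by
    refine commute_of_conj_eq ((eq x hx 1 (one_mem _) (Equiv.ext fun y => ?_)).trans (mul_one _))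
    have h1 := (h.J0' hx).2.1
    have h2 := C0_xw (h.J0' hx).1
    have : ∀ a b : GF4, (a = 0 ∨ a = 1) → (b = 0 ∨ b = 1) → a + om * b = 0 → a = 0 ∧ b = 0 := by
      decide
    rw [p0, pv, ← ep, h4_add_left, h4_smul_left, h4_emb' h1 hp, h4_emb' h2 hp] at c
    obtain ⟨c1, c2⟩ := this _ _ (f6_cases _ _) (f6_cases _ _) c
    rw [h.map_one', mul_one, Equiv.Perm.mul_apply, Equiv.Perm.mul_apply, rv_apply, rv_apply,
      eq_lp (ϖ x), eq_lp (ϖ x) y, (h.as x (h.JN hx)).lp_add, IsAS.lp_smul _ (f6_cases _ _),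
      J0_lp (h.J0' hx) hp, f6_comm p6, c2, f6_add_left, c1, zero_smul, add_zero, add_zero,
      ← (h.as x (h.JN hx)).lp_form y p6, J0_lp (h.J0' hx) hp, f6_comm p6, c2, zero_smul, add_zero,
      add_right_comm]
  have e2 : ∀ x ∈ J, 𝐡 (p0 (ϖ x)) x1 = 0 → 𝐡 (p0 (ϖ x)) (p0 (ϖ x)) = 0 → e * x * (e * x) = 1 :=
    fun x hx c1 c2 => by
      rw [← pow_two, (ec x hx c1).symm.mul_pow, pow_two, pow_two, ee, (j.sq' x hx).2 c2, mul_one]
  refine ⟨_, J, d, α a6, e, α p6, _, _, fun x => m0 (ϖ x), ⟨j, fun x hx y hy => ?_,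
    fun x hx => m0_cases (h.J0' hx), ?_, ?_, h.aM _, h.αα _, h.rho_a, ?_, fun x hx => ?_,
    fun g hg c => ?_, fun g => h.cphi hd ed, fun x hx => ?_, ?_, h.αA _, h.αA _, h.αA _, h.JN,
    fun x hx h1 => ?_, fun c hc => ?_, h.αJ _ hp, (h.pα _).trans ep, eM, ee,
    Equiv.ext fun u => ?_, h.cz_lin hd ed eN eM e0,
    h.conj_inv (h.JN hd) eN j.dd ee (by rw [ed, ϖe, ty_d.1, ty_d.2.2.1]), ec, ?_, fun x hx c => ?_,
    fun x hx s c => ?_, fun t ht t2 c h1 h2 => ?_⟩, ed⟩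
  · rw [h.mulJ hx hy, m0_mul (h.J0' hx) (h.J0' hy)]
  · rw [h.tr, m0, xw_tr]; decide
  · rw [ed, m0, xw_rv]; decide
  · refine (j.conj_d (h.aM _)).resolve_left fun c => ?_
    have := congrArg (fun g => ϖ g 0) c
    simp only [h.map_conj (h.αN _) (h.JN hd), ed, h.tr] at this
    exact absurd this (by decide)
  · rw [h.map_conj (h.αN _) (h.JN hx), m0, (conj_data (h.tr a6 ▸ tr_C0 a6) (h.J0' hx)).2.2,
      ← h.map_inv' (h.αN _), inv_eq_of_mul_self (h.αα _), h.tr, xw_tr, lp_tr, f6_zero_left,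
      zero_smul, add_zero, m0]
  · obtain ⟨σ, h1, h2, h3, h4⟩ := exists_ext hg c
    obtain ⟨m, hm, hn, rfl⟩ := h.exists_M h1
    have h5 : f6 (ϖ m 0) z6 = 0 := by rw [h2, f6_zero_left]
    have h6 : ∀ x X, g (pv x X) = pv (lp (ϖ m) x) (lp (ϖ m) X) := fun x X => by
      rw [pv, pv, hg.add, hg.smul, (h4 _).1, (h4 _).1]
    refine ⟨m, hm, hn, h.cz_lin hd ed hn hm h5, Equiv.ext fun u => ?_, fun x hx => ?_⟩
    · obtain ⟨x, X, hx, hX, rfl⟩ := exists_pv u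
      rw [h.rho_lin hn hm h5 (f6_z_of hx) (f6_z_of hX), h6]
    · simp only [p0, h6, im_pv, m0, h.map_conj hn (h.JN hx), (conj_data h1 (h.J0' hx)).2.2, h3,
        f6_zero_left, zero_smul, add_zero, (h4 _).2, add_assoc, gf_add_self]
  · obtain ⟨v, rfl⟩ := (h.mem x).1 hx
    exact h.αα v
  · rw [← Nat.card_congr (Equiv.ofBijective (fun v => (⟨α v, h.αA v⟩ : A))
      ⟨fun _ _ e => h.inj (congrArg Subtype.val e), fun x => by
        obtain ⟨v, e⟩ := (h.mem x).1 x.2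
        exact ⟨v, Subtype.ext e⟩⟩), Nat.card_eq_fintype_card]
    decide +kernel
  · obtain ⟨v, rfl⟩ := (h.mem x).1 hx
    exact h.conj_inv (h.αN _) (h.αN _) (h.αα _) (h.αα _) (by
      rw [h.tr, h.tr, ty_tr (by decide), ty_tr (v := v) fun c => h1 (c ▸ h.α0)])
  · obtain ⟨x, X, hx, -, rfl⟩ := exists_pv c
    refine ⟨α x, h.αA _, h.αJ _ (f6_z_of hx), ?_⟩
    have := im_pv x X
    rw [hc, v4_add_self] at this
    rw [h.pα, pv, ← this, smul_zero, add_zero]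
  · obtain ⟨x, X, hx, hX, rfl⟩ := exists_pv u
    rw [h.rho_lin eN eM e0 (f6_z_of hx) (f6_z_of hX), ϖe, lp_rv, lp_rv,
      tv_pv hp (by decide) (f6_z_of hx) (f6_z_of hX), ep]
  · refine ⟨α ![om, 0, 0], h.αJ _ (by decide), ?_⟩
    rw [(ec _ (h.αJ _ hp) (by rw [h.pα, ep]; exact x1_mem.2)).eq]
    refine eq _ (h.αJ _ (by decide)) _ (h.αJ _ hp) (Equiv.ext ?_)
    rw [h.tr, h.tr]
    exact forall3 (by decide +kernel)
  · refine h.inJ hd ed (mul_mem eN (h.JN hx)) (e2 x hx (by rw [c, h4_x1]; decide)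
      (by rw [c]; exact x2_mem.2)) ?_
    rw [ex x hx]; exact n2_aux (h.J0' hx).2.1 (C0_xw (h.J0' hx).1) c
  · refine (n3_aux (h.J0' hx).2.1 (C0_xw (h.J0' hx).1) c).symm.imp (fun h1 => ?_)
      fun h1 => h.inJ hd ed (mul_mem eN (h.JN hx)) (e2 x hx ?_ ?_) (ex x hx ▸ h1)
    · have h2 : ∀ y ∈ [0, ![om, 0, 0]], f6 y z6 = 0 := by decide
      obtain ⟨y, hy, Y, hY, h1⟩ := h1
      obtain ⟨k, hk, rfl, rfl⟩ := h.liftJ' (h2 y hy) (h2 Y hY)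
      refine ⟨k, hk, eq k hk x hx (Equiv.ext fun v => ?_)⟩
      rw [Equiv.Perm.mul_apply, Equiv.Perm.mul_apply, Equiv.Perm.mul_apply, J0_eq (h.J0' hk),
        J0_eq (h.J0' hk) v, J0_eq (h.J0' hx)]
      exact h1 v (mem_all6 v)
    · rw [c, h4_smul_left, show 𝐡 x1 x1 = 0 from x1_mem.2, mul_zero]
    · rw [c, h4_smul_left, h4_smul_right, show 𝐡 x1 x1 = 0 from x1_mem.2, mul_zero, mul_zero]
  · obtain ⟨g, hg, h3⟩ := h.exists_conj hd ed ht t2 c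
    have h4 := h.YM hg
    have h5 := mul_mem (mul_mem h4 ht) (inv_mem h4)
    have h6 : g * t * g⁻¹ * (g * t * g⁻¹) = 1 := by rw [conj_mul, t2]; simp
    have h7 : IsGa (rho J (fun x => p0 (ϖ x)) g⁻¹) := by
      rcases h.mem_sup_a (h.MY (h.aM _)) (inv_mem hg) with c' | ⟨k, hk, c'⟩
      · rw [(h.memY c'.1).1 c']; exact IsLin.one.ga
      · rw [c', j.rho_mul (h.aM _) hk.1, (h.memY hk.1).1 hk, h.rho_a, mul_one]; exact phi_semi.ga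
    have h8 := j.rho_conj (inv_mem h4) h5
    rw [show g⁻¹ * (g * t * g⁻¹) * g⁻¹⁻¹ = t by group] at h8
    have h9 := (h.as _ h3).ty_mem (by rw [← h.mul _ h3 _ h3, h6, h.map_one'])
    by_cases c1 : ty ⇑(ϖ (g * t * g⁻¹)) ∈ L6
    · obtain ⟨k, hk, c2⟩ := h.inJ hd ed h3 h6 c1
      exact .inl ⟨k * g, mul_mem hk (mem_sup_left h4), by simpa [mul_assoc] using c2⟩
    have : ∀ τ : ℕ × ℕ × Bool, τ ∈ [(64, 64, true), (0, 64, true), (32, 32, false), (0, 32, false),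
        (16, 16, true), (0, 16, true), (16, 16, false), (0, 16, false), (8, 8, false)] → τ ∉ L6 →
        τ = (64, 64, true) ∨ τ = (32, 32, false) ∨ τ = (8, 8, false) := by decide
    rcases this _ h9 c1 with c2 | c2 | c2
    · obtain ⟨n, -, c3⟩ := h.conj_inv (one_mem _) h3 (mul_one _) h6 (by
        rw [c2, h.map_one', ty_d.2.2.2.2])
      rw [← c3, mul_one, mul_inv_cancel, j.rho_one, mul_one, mul_inv_cancel] at h8
      exact absurd h8 h1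
    · rcases h.tv_of_ty hd ed h3 h5 h6 c2 with c3 | ⟨u, hu, c3⟩ <;> rw [c3] at h8
      · exact absurd (h8.trans (by simp)) h1
      · exact absurd (h8.trans (h7.conj_tv hu)) (h2 _ (h7.mem hu))
    · obtain ⟨x, hx, a1, a2⟩ := h.liftJ' (f6_zero_left z6) (X := ![0, 1, 1]) (by decide)
      have a3 : p0 (ϖ x) = pv 0 ![0, 1, 1] := by rw [p0, a1, a2]
      obtain ⟨n, hn, c3⟩ := h.conj_inv h3 (mul_mem eN (h.JN hx)) h6 (e2 x hx
        (by rw [a3, h4_x1]; decide) (by rw [a3, h4_eq_hd]; decide))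
          (by rw [c2, ex x hx, a1, a2, ty_d.2.2.2.1])
      exact .inr ⟨n * g, mul_mem (mem_sup_right hn) (mem_sup_left h4), x, hx,
        by rw [a3]; decide, by simpa [mul_assoc] using c3⟩

end Cfsg.Agent.F6
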