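import Mathlib
import Cfsg.Agent.F6.Defs

/-! Finite checks in the unitary space `F₄⁴` used for the group induced on `J / Z`. -/

set_option autoImplicit false
set_option synthInstance.maxSize 4000

namespace Cfsg.Agent.F6.Gm

open Subgroup Cfsg.Agent.Class TT TT.UQ U6R ZJ Cfsg.Agent.PLocal.Amb

/-- The vectors fixed by `phi`. -/
def wv (a b : GF4) : V4 := ![a, a ^ 2, b, b ^ 2]

def bd (u v : V4) : GF4 := hd u v + hd v u

theorem bf_eq_bd (u v : V4) : bf u v = bd u v := by rw [bf, bd, h4_eq_hd, h4_eq_hd]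

theorem eq_wv : ∀ v, phf v = v → v = wv (v 0) (v 2) := forall4 (by decide +kernel)

theorem phf_wv : ∀ a b, phf (wv a b) = wv a b := by decide +kernel

def uf (v : V4) : V4 := ![v 3, v 2, v 1, v 0]

def df (v : V4) : V4 := ![om ^ 2 * v 0, om * v 1, om * v 2, om ^ 2 * v 3]

def y2 : V4 := ![0, 0, om, om ^ 2]

def y1 : V4 := ![om ^ 2, om, 0, 0]

def re (c : GF4) : GF4 := ⟨c.re, 0⟩

def im (c : GF4) : GF4 := ⟨c.im, 0⟩

/-- The combination with coefficient `c`. -/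
def cmb (c : GF4) (A B : V4) : V4 := re c • A + im c • B

/-- The additive map with prescribed values on a basis. -/
def LL (A : Fin 8 → V4) (v : V4) : V4 :=
  cmb (om ^ 2 * v 2 + om * v 3) (A 0) (A 1) + cmb (v 2 + v 3) (A 2) (A 3) +
    (cmb (om * v 0 + om ^ 2 * v 1) (A 4) (A 5) + cmb (v 0 + v 1) (A 6) (A 7))

/-- A basis over the prime field. -/
def bs : Fin 8 → V4 := ![x2, om • x2, y2, om • y2, x1, om • x1, y1, om • y1]

theorem basis : ∀ v, LL bs v = v := forall4 fun a b c d => by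
  have h1 : ∀ a b : GF4, cmb (om * a + om ^ 2 * b) (bs 4) (bs 5) + cmb (a + b) (bs 6) (bs 7) =
    ![a, b, 0, 0] := by decide +kernel
  have h2 : ∀ a b : GF4, cmb (om ^ 2 * a + om * b) (bs 0) (bs 1) + cmb (a + b) (bs 2) (bs 3) =
    ![0, 0, a, b] := by decide +kernel
  refine (congrArg₂ (· + ·) (h2 c d) (h1 a b)).trans ?_
  funext i; fin_cases i <;> simp

/-- Additive maps. -/
def Ad (f : V4 → V4) : Prop := ∀ u v, f (u + v) = f u + f v

section

variable {f g : V4 → V4}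

theorem Ad.zero (h : Ad f) : f 0 = 0 := by simpa using h 0 0

theorem Ad.cmb (h : Ad f) (c : GF4) (A B : V4) : f (cmb c A B) = cmb c (f A) (f B) := by
  have k : ∀ e : GF4, e = 0 ∨ e = 1 → ∀ x, f (e • x) = e • f x := by
    rintro _ (rfl | rfl) x <;> simp [h.zero]
  rw [Gm.cmb, h, k _ ((by decide : ∀ c, re c = 0 ∨ re c = 1) c),
    k _ ((by decide : ∀ c, im c = 0 ∨ im c = 1) c), Gm.cmb]

theorem Ad.eq_LL (h : Ad f) (v : V4) : f v = LL (fun i => f (bs i)) v := by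
  conv_lhs => rw [← basis v, LL, h, h, h, h.cmb, h.cmb, h.cmb, h.cmb]
  rfl

theorem Ad.ext (hf : Ad f) (hg : Ad g) (h : ∀ i, f (bs i) = g (bs i)) (v : V4) : f v = g v := by
  rw [hf.eq_LL, hg.eq_LL, funext h]

theorem Ad.comp (hf : Ad f) (hg : Ad g) : Ad fun v => f (g v) := fun u v => by
  simp only [hg u v, hf _ _]

end

theorem cmb_add (c c' : GF4) (A B : V4) : cmb (c + c') A B = cmb c A B + cmb c' A B := by
  rw [cmb, (by decide : ∀ c c', re (c + c') = re c + re c'),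
    (by decide : ∀ c c', im (c + c') = im c + im c'), add_smul, add_smul, cmb, cmb]
  abel

theorem ad_LL (A : Fin 8 → V4) : Ad (LL A) := fun u v => by
  have k : ∀ a b x y z w : GF4, a * (x + y) + b * (z + w) = (a * x + b * z) + (a * y + b * w) :=
    fun _ _ _ _ _ _ => by ring
  simp only [LL, Pi.add_apply, k]
  rw [add_add_add_comm (u 2), add_add_add_comm (u 0)]
  simp only [cmb_add _ (_ + _)]
  abel

theorem lin_ext {g k : P4} (hg : IsLin g) (hk : IsLin k) (h1 : g x2 = k x2) (h2 : g y2 = k y2)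
    (h3 : g x1 = k x1) (h4 : g y1 = k y1) : g = k :=
  Equiv.ext (Ad.ext hg.add hk.add fun i => by
    fin_cases i <;> simp [bs, hg.smul, hk.smul, h1, h2, h3, h4])

/-- The swap. -/
def u0 : P4 := ⟨uf, uf, forall4 fun _ _ _ _ => rfl, forall4 fun _ _ _ _ => rfl⟩

theorem u0_lin : IsLin u0 := by
  refine ⟨fun u v => ?_, fun c v => ?_, fun u v => ?_⟩
  · funext i; fin_cases i <;> rfl
  · funext i; fin_cases i <;> rfl
  · rw [h4_def, h4_def]
    show u 3 * v 3 ^ 2 + u 2 * v 2 ^ 2 + u 1 * v 1 ^ 2 + u 0 * v 0 ^ 2 = _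
    ring

theorem u0_phi : Commute u0 phi := Equiv.ext (forall4 fun _ _ _ _ => rfl)

theorem df_three (v : V4) : df (df (df v)) = v := by
  have h1 : ∀ a : GF4, om ^ 2 * (om ^ 2 * (om ^ 2 * a)) = a := by decide
  have h2 : ∀ a : GF4, om * (om * (om * a)) = a := by decide
  funext i; fin_cases i <;> simp [df, h1, h2]

/-- A diagonal map. -/
def d0 : P4 := ⟨df, fun v => df (df v), df_three, df_three⟩

theorem d0_lin : IsLin d0 := by
  refine isLin_of (fun u v => ?_) (fun v => ?_) fun v => ?_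
  · funext i; fin_cases i <;> exact mul_add _ _ _
  · funext i; fin_cases i <;> exact mul_left_comm _ _ _
  · have h1 : ∀ a : GF4, om ^ 2 * a * (om ^ 2 * a) ^ 2 = a * a ^ 2 := by decide
    have h2 : ∀ a : GF4, om * a * (om * a) ^ 2 = a * a ^ 2 := by decide
    rw [h4_def, h4_def, ← h1 (v 0), ← h2 (v 1), ← h2 (v 2), ← h1 (v 3)]; rfl

theorem d0_phi : Commute d0 phi := Equiv.ext fun v => by
  have h1 : ∀ a : GF4, om ^ 2 * a ^ 2 = (om * a) ^ 2 := by decide
  have h2 : ∀ a : GF4, om * a ^ 2 = (om ^ 2 * a) ^ 2 := by decide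
  funext i; fin_cases i
  exacts [h1 _, h2 _, h2 _, h1 _]

theorem d0_u0 : Commute d0 u0 := Equiv.ext (forall4 fun _ _ _ _ => rfl)

/-- The additive map commuting with `uf` and `df`. -/
def LB (A B : V4) : V4 → V4 := LL ![A, B, df A, df B, uf A, uf B, uf (df A), uf (df B)]

theorem eq_LB {f : V4 → V4} (h : Ad f) (h1 : ∀ v, f (uf v) = uf (f v))
    (h2 : ∀ v, f (df v) = df (f v)) (v : V4) : f v = LB (f x2) (f (om • x2)) v := by
  have e : bs = ![x2, om • x2, df x2, df (om • x2), uf x2, uf (om • x2), uf (df x2),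
    uf (df (om • x2))] := by decide +kernel
  rw [h.eq_LL, LB, e]
  congr 1
  funext i; fin_cases i <;> simp [h1, h2]

theorem four : ∀ s t s' t' : GF4, phf ![s, s, t, t] = ![s, s, t, t] + x2 →
    phf ![s', s', t', t'] = ![s, s, t, t] + ![s', s', t', t'] + om ^ 2 • x2 →
    LB ![s, s, t, t] ![s', s', t', t'] ![s, s, t, t] = ![s, s, t, t] + x2 →
    (s = 0 ∧ s' = 0 ∧ (t = om ∧ t' = om ^ 2 ∨ t = om ^ 2 ∧ t' = 1)) ∨
      (s = 1 ∧ s' = om ^ 2 ∧ (t = om ∧ t' = om ∨ t = om ^ 2 ∧ t' = 0)) := by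
  decide +kernel

theorem good1 : ∀ v, LB ![0, 0, om, om] ![0, 0, om ^ 2, om ^ 2] v = om • v :=
  Ad.ext (ad_LL _) (smul_add _) (by decide +kernel)

theorem good2 : ∀ v, LB ![0, 0, om ^ 2, om ^ 2] ![0, 0, 1, 1] v = om • v + v :=
  Ad.ext (ad_LL _) (fun u v => by rw [smul_add]; abel) (by decide +kernel)

/-- The conjugate of a transvection. -/
def TT (c c' v : V4) : V4 := v + bd v c' • c + bd v c • c'

theorem tf_eq_TT (c v : V4) : tf c v = TT c (om • c) v := by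
  rw [tf, TT, ← bf_eq_bd, ← bf_eq_bd, bf_eq, bf_eq, h4_smul_right, smul_smul, add_assoc, ← add_smul,
    h4_eq_hd, (by decide : ∀ x : GF4, om ^ 2 * x + (om ^ 2 * x) ^ 2 + (x + x ^ 2) * om = x)]

theorem TT_add (c c' v : V4) : TT c (c' + c) v = TT c c' v := by
  simp only [TT, ← bf_eq_bd, bf_add_right, add_smul, smul_add]
  rw [add_assoc v, add_assoc v, add_add_add_comm, v4_add_self, add_zero]

def c1 : V4 := ![0, 1, 0, 1]

def c2 : V4 := ![0, om, 0, om ^ 2]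

def Tf (v : V4) : V4 := TT c1 ![1, om, 1, om] (TT c2 ![om ^ 2, om ^ 2, om, 1] v)

def xf (v : V4) : V4 := ![om ^ 2 * v 0 + v 1 ^ 2 + v 3, v 0 ^ 2 + om ^ 2 * v 1 + v 2,
  v 1 + om * v 2 + v 3 ^ 2, v 0 + v 2 ^ 2 + om * v 3]

theorem ad_xf : Ad xf := fun u v => by
  funext i; fin_cases i <;> simp [xf, gf_add_sq] <;> ring

theorem bad1 : LB ![1, 1, om, om] ![om ^ 2, om ^ 2, om, om] c1 = ![1, om, 1, om] ∧
    LB ![1, 1, om, om] ![om ^ 2, om ^ 2, om, om] c2 = ![om ^ 2, om ^ 2, om, 1] ∧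
    LB ![1, 1, om ^ 2, om ^ 2] ![om ^ 2, om ^ 2, 0, 0] c1 = ![1, om, 1, om] + c1 ∧
    LB ![1, 1, om ^ 2, om ^ 2] ![om ^ 2, om ^ 2, 0, 0] c2 = ![om ^ 2, om ^ 2, om, 1] + c2 := by
  decide +kernel

theorem xf_Tf : ∀ i, phf (Tf (phf (bs i))) = xf (Tf (bs i)) := by decide +kernel

theorem xf_three : ∀ i, xf (xf (xf (bs i))) = bs i := by decide +kernel

theorem xf_fix : ∀ v, xf v = v → v = 0 := forall4 (by decide +kernel)

theorem xf_phi : ∀ i, phf (xf (bs i)) = xf (xf (phf (bs i))) := by decide +kernel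

def g1 (v : V4) : V4 := tf (wv 0 (om ^ 2)) (tf (wv om 0) v)

def g2 (v : V4) : V4 := tf (wv 0 (om ^ 2)) (tf (wv om (om ^ 2)) v)

theorem xf_g1 : ∀ i, g1 (xf (bs i)) = xf (g1 (bs i)) := by decide +kernel

theorem xf_g2 : ∀ i, g2 (xf (bs i)) = xf (g2 (bs i)) := by decide +kernel

theorem gen : ∀ c, hd c c = 0 → ∃ s : GF4, s ≠ 0 ∧ (phf (s • c) = s • c ∨
    uf (phf (s • c)) = s • c ∨ uf (phf (s • tf (wv 0 1) c)) = s • tf (wv 0 1) c ∨
    uf (phf (s • tf (wv om om) c)) = s • tf (wv om om) c) := forall4 (by decide +kernel)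

theorem perp_W : ∀ y, bd y x1 = 0 → bd y y1 = 0 → bd y x2 = 0 → bd y y2 = 0 → phf y = y :=
  forall4 (by decide +kernel)

theorem W_conn : ∀ a b a' b', wv a b ≠ 0 → hd (wv a b) (wv a' b') = 1 ∨
    ∃ s t, hd (wv a b) (wv s t) = 1 ∧ hd (wv a b) (wv s t + wv a' b') = 1 := by decide +kernel

theorem nf : ∀ a b, hd (wv a b) x2 = 0 → ∀ a' b', hd (wv a' b') y2 = 0 →
    hd (wv a b) y2 = hd (wv a' b') x2 → hd (wv a b) (wv a' b') = hd x2 y2 →
    ∀ c d, hd (wv c d) x1 = 0 → hd (wv a b) x1 = hd (wv c d) x2 → hd (wv a' b') x1 = hd (wv c d) y2 →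
    hd (wv a b) (wv c d) = hd x2 x1 → hd (wv a' b') (wv c d) = hd y2 x1 →
    ∀ c' d', hd (wv c' d') y1 = 0 → hd (wv a b) y1 = hd (wv c' d') x2 →
    hd (wv a' b') y1 = hd (wv c' d') y2 → hd (wv c d) y1 = hd (wv c' d') x1 →
    hd (wv a b) (wv c' d') = hd x2 y1 → hd (wv a' b') (wv c' d') = hd y2 y1 →
    hd (wv c d) (wv c' d') = hd x1 y1 →
    (wv a b = x2 ∧ wv a' b' = y2 ∧ wv c d = x1 ∧ wv c' d' = y1) ∨ ∃ s t s' t',
      tf (wv s t) (tf (wv s' t') (wv a b)) = uf (tf (wv s t) (tf (wv s' t') x2)) ∧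
      tf (wv s t) (tf (wv s' t') (wv a' b')) = uf (tf (wv s t) (tf (wv s' t') y2)) ∧
      tf (wv s t) (tf (wv s' t') (wv c d)) = uf (tf (wv s t) (tf (wv s' t') x1)) ∧
      tf (wv s t) (tf (wv s' t') (wv c' d')) = uf (tf (wv s t) (tf (wv s' t') y1)) := by
  decide +kernel

/-- Transvections in the centralizer of `phi`. -/
theorem exists_tw {c : V4} (h : phi c = c) : ∃ k, IsLin k ∧ Commute k phi ∧ ∀ v, k v = tf c v := by
  by_cases h0 : c = 0
  · exact ⟨1, IsLin.one, Commute.one_left _, fun v => by simp [tf, h0]⟩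
  · have hc : c ∈ uS 4 := ⟨h0, sing_of_phi h⟩
    refine ⟨tv c, tv_lin hc, ?_, tv_eq_tf hc⟩
    have := phi_semi.ga.conj_tv hc
    rw [h] at this
    exact (commute_of_conj_eq this).symm

/-- Normal form of the linear involutions of type `a`. -/
theorem exists_u0 {u : P4} (hu : IsLin u) (h1 : Commute u phi) (h3 : u ≠ 1)
    (h4 : ∀ x, phi x = x → 𝐡 (u x) x = 0) : ∃ k, IsLin k ∧ Commute k phi ∧ k * u = u0 * k := by
  have e : ∀ x, phi x = x → u x = wv (u x 0) (u x 2) := fun x hx => eq_wv _ (by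
    have := congrArg (· x) h1.eq
    simp only [Equiv.Perm.mul_apply, hx] at this
    exact this.symm)
  have s : ∀ x y, phi x = x → phi y = y → hd (u x) y = hd (u y) x := fun x y hx hy => by
    have a := h4 (x + y) (by rw [phi_semi.add, hx, hy])
    rw [hu.add, h4_add_left, h4_add_right, h4_add_right, h4 x hx, h4 y hy, zero_add, add_zero] at a
    rw [← h4_eq_hd, ← h4_eq_hd]; exact gf_eq_of_add a
  have z : ∀ x, phi x = x → hd (u x) x = 0 := fun x hx => h4_eq_hd _ _ ▸ h4 x hx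
  have f : ∀ x y, hd (u x) (u y) = hd x y := fun x y => by rw [← h4_eq_hd, hu.form, h4_eq_hd]
  have p1 : phi y1 = y1 := by rw [phi_apply]; decide
  have p2 : phi y2 = y2 := by rw [phi_apply]; decide
  have := nf (u x2 0) (u x2 2)
  rw [← e x2 phi_x2] at this
  have := this (z _ phi_x2) (u y2 0) (u y2 2)
  rw [← e y2 p2] at this
  have := this (z _ p2) (s _ _ phi_x2 p2) (f _ _) (u x1 0) (u x1 2)
  rw [← e x1 phi_x1] at this
  have := this (z _ phi_x1) (s _ _ phi_x2 phi_x1) (s _ _ p2 phi_x1) (f _ _) (f _ _) (u y1 0) (u y1 2)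
  rw [← e y1 p1] at this
  rcases this (z _ p1) (s _ _ phi_x2 p1) (s _ _ p2 p1) (s _ _ phi_x1 p1) (f _ _) (f _ _) (f _ _) with
    ⟨a, b, c, d⟩ | ⟨s, t, s', t', a, b, c, d⟩
  · exact absurd (lin_ext hu IsLin.one a b c d) h3
  · obtain ⟨k, k1, k2, k3⟩ := exists_tw (c := wv s t) (phf_wv s t)
    obtain ⟨l, l1, l2, l3⟩ := exists_tw (c := wv s' t') (phf_wv s' t')
    refine ⟨k * l, k1.mul l1, k2.mul_left l2,
      lin_ext ((k1.mul l1).mul hu) (u0_lin.mul (k1.mul l1)) ?_ ?_ ?_ ?_⟩ <;>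
      simp only [Equiv.Perm.mul_apply, k3, l3]
    exacts [a, b, c, d]

end Cfsg.Agent.F6.Gm
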