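import Mathlib
import Cfsg.Agent.F6.Lin
import Cfsg.Agent.F6.GamA
import Cfsg.Agent.Inv.RankOne

/-! Groups of additive isometries of `F₄⁴` with prescribed centralizer of `phi`. -/

set_option autoImplicit false

namespace Cfsg.Agent.F6.Gm

open Subgroup Cfsg.Agent.Class TT TT.UQ U6R ZJ Cfsg.Agent.PLocal.Amb

/-- The induced group `Γ`, the image `Γ0` of the centralizer of `Z`, and the cocycle `lam`. -/
structure GD (Γ Γ0 : Subgroup P4) (lam : P4 → V4 → GF4) : Prop where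
  add : ∀ g ∈ Γ, Ad g
  self : ∀ g ∈ Γ, ∀ v, 𝐡 (g v) (g v) = 𝐡 v v
  le : Γ0 ≤ Γ
  idx : ∀ g ∈ Γ, ∀ k ∈ Γ, g ∉ Γ0 → k ∉ Γ0 → g * k ∈ Γ0
  pm : phi ∈ Γ
  pn : phi ∉ Γ0
  lift : ∀ g, IsLin g → Commute g phi →
    g ∈ Γ0 ∧ ∀ v, lam g v = Qw (phi (g v) + g v) + Qw (phi v + v)
  cphi : ∀ g ∈ Γ, Commute g phi → IsLin g ∧ g ∈ Γ0 ∨ IsLin (g * phi) ∧ g * phi ∈ Γ0
  coc : ∀ g ∈ Γ, ∀ k ∈ Γ, ∀ v, lam (g * k) v = lam g (k v) + lam k v
  ladd : ∀ g ∈ Γ, ∀ u v, lam g (u + v) = lam g u + lam g v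

theorem odd_smul {n : ℕ} (h : Odd n) (a : GF4) : n • a = a := by
  obtain ⟨k, rfl⟩ := h
  rw [add_nsmul, mul_nsmul, two_nsmul, gf_add_self, nsmul_zero, zero_add, one_nsmul]

theorem Ad.smul {f : V4 → V4} (h : Ad f) (u v x : V4) : f (bf u v • x) = bf u v • f x := by
  rcases bf_cases u v with e | e <;> simp [e, h.zero]

/-- The error term. -/
def Er (f : V4 → V4) (v : V4) : GF4 := Qw (phf (f v) + f v) + Qw (phf v + v)

/-- The group of semilinear isometries. -/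
def GaG : Subgroup P4 where
  carrier := {g | IsGa g}
  one_mem' := IsLin.one.ga
  mul_mem' := fun ha hb => ha.elim (fun a => hb.imp a.mul a.mul_semi) fun a =>
    hb.symm.imp a.mul a.mul_lin
  inv_mem' := fun ha => ha.imp (·.inv) (·.inv)

theorem phi_inv : phi⁻¹ = phi := inv_eq_of_mul_eq_one_right phi_sq

theorem pia (g : P4) (v : V4) : g⁻¹ (g v) = v := g.symm_apply_apply v

theorem pai (g : P4) (v : V4) : g (g⁻¹ v) = v := g.apply_symm_apply v

theorem gf_tr : ∀ x : GF4, x + x ^ 2 = 0 → x = 0 ∨ x = 1 := by decide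

theorem gf_root : ∀ a : GF4, 1 + a + a * a = 0 → a = om ∨ a = om ^ 2 := by decide

namespace GD

variable {Γ Γ0 : Subgroup P4} {lam : P4 → V4 → GF4} (h : GD Γ Γ0 lam) {g k γ : P4}
include h

theorem bf (hg : g ∈ Γ) (u v : V4) : bf (g u) (g v) = bf u v := by
  have := h.self g hg (u + v)
  rwa [h.add g hg, h4_add_add, h4_add_add, h.self g hg, h.self g hg, add_right_inj] at this

theorem ext (hg : g ∈ Γ) (hk : k ∈ Γ) (e : ∀ i, g (bs i) = k (bs i)) : g = k :=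
  Equiv.ext (Ad.ext (h.add g hg) (h.add k hk) e)

theorem conj_mem (hg : g ∈ Γ) (hk : k ∈ Γ0) : g * k * g⁻¹ ∈ Γ0 := by
  by_cases h1 : g ∈ Γ0
  · exact mul_mem (mul_mem h1 hk) (inv_mem h1)
  · exact h.idx _ (mul_mem hg (h.le hk)) _ (inv_mem hg)
      (fun e => h1 ((mul_mem_cancel_right hk).1 e)) fun e => h1 (inv_mem_iff.1 e)

theorem conj_phi (hg : g ∈ Γ) : g * phi * g⁻¹ ∉ Γ0 := fun e =>
  h.pn (by simpa [mul_assoc] using h.conj_mem (inv_mem hg) e)

theorem memS (hg : g ∈ Γ) {c : V4} (hc : c ∈ uS 4) : g c ∈ uS 4 :=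
  ⟨fun e => hc.1 (g.injective (e.trans (h.add g hg).zero.symm)), (h.self g hg c).trans hc.2⟩

theorem lin_of (hg : g ∈ Γ0) (hc : Commute g phi) : IsLin g :=
  (h.cphi g (h.le hg) hc).elim (·.1) fun e => absurd ((mul_mem_cancel_left hg).1 e.2) h.pn

theorem semi_of (hg : g ∈ Γ) (h0 : g ∉ Γ0) (hc : Commute g phi) : IsLin (g * phi) :=
  ((h.cphi g hg hc).resolve_left fun e => h0 e.2).1

theorem ga_of (hg : g ∈ Γ) (hc : Commute g phi) : IsGa g :=
  (h.cphi g hg hc).imp (·.1) fun e => by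
    simpa [mul_assoc, phi_sq] using e.1.mul_semi phi_semi

theorem sing (hg : γ ∈ Γ) {v : V4} (e : (γ * phi * γ⁻¹) v = v) : 𝐡 v v = 0 := by
  rw [← h.self _ (inv_mem hg)]
  exact sing_of_phi (γ.injective (e.trans (by simp)))

theorem avg {R : Subgroup P4} (hR : R ≤ Γ) (ho : Odd (Nat.card R))
    (hf : ∀ v, (∀ r ∈ R, r v = v) → v = 0) : ∃ l : V4 → GF4, (∀ u v, l (u + v) = l u + l v) ∧
      ∀ g, IsLin g → Commute g phi → g ∈ 𝐍[R] → ∀ v, Er g v = l (g v + v) := by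
  have := Fintype.ofFinite R
  rw [Nat.card_eq_fintype_card] at ho
  let l : V4 → GF4 := fun v => ∑ r : R, lam r v
  have l1 : ∀ u v, l (u + v) = l u + l v := fun u v => by
    simp only [l, h.ladd _ (hR (Subtype.prop _)), Finset.sum_add_distrib]
  have l2 : ∀ s ∈ R, ∀ v, l (s v) + lam s v = l v := fun s hs v => by
    rw [← odd_smul ho (lam s v), ← Finset.card_univ, ← Finset.sum_const, ← Finset.sum_add_distrib]
    exact Fintype.sum_equiv (Equiv.mulRight (⟨s, hs⟩ : R)) _ _ fun r => (h.coc _ (hR r.2) _ (hR hs) v).symm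
  refine ⟨l, l1, fun g g1 g2 hn v => ?_⟩
  obtain ⟨hg, g3⟩ := h.lift g g1 g2
  replace hg := h.le hg
  let δ : V4 →+ GF4 := AddMonoidHom.mk' (fun v => lam g v + l (g v + v)) fun u v => by
    rw [h.ladd g hg, h.add g hg, add_add_add_comm (g u), l1]; abel
  have d1 : ∀ s ∈ R, ∀ v, δ (s v) = δ v := fun s hs v => by
    have h1 := conj_mem_of_mem_normalizer hn hs
    have h2 := h.coc _ (hR h1) g hg v
    have h3 := l2 _ h1 (g v)
    rw [inv_mul_cancel_right, h.coc g hg s (hR hs)] at h2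
    rw [show (g * s * g⁻¹) (g v) = g (s v) by simp] at h3
    show lam g (s v) + l (g (s v) + s v) = lam g v + l (g v + v)
    rw [l1, l1, ← h3, ← l2 s hs v]
    linear_combination h2 - gf_add_self (lam s v)
  have d2 : ∑ r : R, (r : P4) v = 0 := hf _ fun s hs => by
    rw [show s (∑ r : R, (r : P4) v) = _ from map_sum (AddMonoidHom.mk' s (h.add s (hR hs))) _ _]
    exact Fintype.sum_equiv (Equiv.mulLeft (⟨s, hs⟩ : R)) _ _ fun r => rfl
  have d3 := congrArg δ d2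
  rw [map_sum, map_zero, Finset.sum_congr rfl fun r _ => d1 _ r.2 v, Finset.sum_const,
    Finset.card_univ, odd_smul ho] at d3
  exact (g3 v).symm.trans (gf_eq_of_add d3)

theorem avg1 {R : Subgroup P4} (hR : R ≤ Γ) (ho : Odd (Nat.card R))
    (hf : ∀ v, (∀ r ∈ R, r v = v) → v = 0) (hn : ∀ g, IsLin g → Commute g phi → g ∈ 𝐍[R]) :
    False := by
  obtain ⟨l, l1, l2⟩ := h.avg hR ho hf
  have k : ∀ a b v, Er (tf (wv a b)) v = l (tf (wv a b) v + v) := fun a b v => by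
    obtain ⟨k, k1, k2, k3⟩ := exists_tw (c := wv a b) (phf_wv a b)
    simpa only [Er, k3] using l2 k k1 k2 (hn k k1 k2) v
  have e := l1 (tf (wv 0 1) (om • e2) + om • e2) (tf (wv 1 0) (om • e0) + om • e0)
  rw [← k, ← k, show tf (wv 0 1) (om • e2) + om • e2 + (tf (wv 1 0) (om • e0) + om • e0) =
    tf (wv 1 1) (om • e0) + om • e0 by decide +kernel, ← k] at e
  exact absurd e (by decide +kernel)

theorem caseA (hi : IsIsolatedInvolution (⟨phi, h.pm⟩ : Γ)) (hg : g ∈ Γ) : Commute g phi := by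
  have hn : Γ ≤ 𝐍[(oddCore Γ).map Γ.subtype] := le_normalizer_map_subtype _
  have hO : (oddCore Γ).map Γ.subtype ≤ Γ := map_subtype_le _
  have ho : Odd (Nat.card ((oddCore Γ).map Γ.subtype)) := by
    rw [card_map_of_injective Γ.subtype_injective]; exact Inv.odd_card_pPrimeCore_two Γ
  suffices e : (oddCore Γ).map Γ.subtype = ⊥ by
    have := sup_eq_top_of_isolated hi
    rw [(map_eq_bot_iff_of_injective _ Γ.subtype_injective).1 e, sup_bot_eq] at this
    exact congrArg Subtype.val (mem_centralizer_singleton_iff.1 (this.ge (mem_top (⟨g, hg⟩ : Γ))))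
  generalize (oddCore Γ).map Γ.subtype = O at hn hO ho
  let F : V4 → Prop := fun v => ∀ r ∈ O, r v = v
  have f1 : ∀ g ∈ Γ, ∀ v, F v → F (g v) := fun g hg v hv r hr => by
    have := congrArg g (hv _ (inv_conj_mem_of_mem_normalizer (hn hg) hr))
    rwa [Equiv.Perm.mul_apply, Equiv.Perm.mul_apply, pai] at this
  have f2 : ∀ u v, F u → F v → F (u + v) := fun u v hu hv r hr => by
    rw [h.add r (hO hr), hu r hr, hv r hr]
  obtain ⟨v, hv, h0⟩ : ∃ v, F v ∧ v ≠ 0 := by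
    by_contra! c
    exact h.avg1 hO ho c fun g g1 g2 => hn (h.le (h.lift g g1 g2).1)
  obtain ⟨w, hw, h1, h2⟩ : ∃ w, F w ∧ w ≠ 0 ∧ phi w = w := by
    by_cases e : phi v = v
    · exact ⟨v, hv, h0, e⟩
    · exact ⟨phi v + v, f2 _ _ (f1 _ h.pm v hv) hv, fun c => e (v4_eq_of_add c), by
        rw [phi_semi.add, phi_phi, add_comm]⟩
  have f3 : ∀ c, phi c = c → hd w c = 1 → F c := fun c hc e => by
    obtain ⟨k, k1, k2, k3⟩ := exists_tw hc
    have := f2 _ _ hw (f1 k (h.le (h.lift k k1 k2).1) w hw)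
    rwa [k3, tf, e, one_smul, v4_add_add] at this
  have f4 : ∀ c, phi c = c → F c := fun c hc => by
    have := W_conn (w 0) (w 2) (c 0) (c 2) (eq_wv w h2 ▸ h1)
    rw [← eq_wv w h2, ← eq_wv c hc] at this
    rcases this with e | ⟨s, t, e, e'⟩
    · exact f3 c hc e
    · have := f2 _ _ (f3 _ (phf_wv s t) e) (f3 _ (by
        rw [phi_semi.add, hc, show phi (wv s t) = _ from phf_wv s t]) e')
      rwa [v4_add_add] at this
  refine eq_bot_iff.2 fun o hoO => orderOf_eq_one_iff.1 ?_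
  have f5 : o ^ 2 = 1 := Equiv.ext fun v => by
    have k : ∀ x, phi x = x → bd (o v + v) x = 0 := fun x hx => by
      rw [← bf_eq_bd, bf_add_left, ← h.bf (hO hoO) v, f4 x hx o hoO, gf_add_self]
    have := f4 _ (perp_W _ (k _ phi_x1) (k _ (by rw [phi_apply]; decide)) (k _ phi_x2)
      (k _ (by rw [phi_apply]; decide))) o hoO
    rw [h.add o (hO hoO), add_comm (o v) v, add_left_inj] at this
    exact this
  rcases (Nat.dvd_prime Nat.prime_two).1 (orderOf_dvd_of_pow_eq_one f5) with e | e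
  · exact e
  · exact absurd (e ▸ ho.of_dvd_nat (orderOf_dvd_natCard O hoO)) (by decide)

theorem bad {T : P4} (hT : T ∈ Γ) (e : ∀ v, T v = Tf v) : False := by
  have hx : phi * T * phi * T⁻¹ ∈ Γ := mul_mem (mul_mem (mul_mem h.pm hT) h.pm) (inv_mem hT)
  have e1 : ∀ v, (phi * T * phi * T⁻¹) v = xf v := fun v => by
    obtain ⟨v, rfl⟩ := T.surjective v
    refine Ad.ext ((h.add _ hx).comp (h.add T hT)) (ad_xf.comp (h.add T hT)) (fun i => ?_) v
    simp only [Equiv.Perm.mul_apply, pia]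
    rw [e, e]; exact xf_Tf i
  generalize phi * T * phi * T⁻¹ = x at hx e1
  have e3 : x ^ 3 = 1 := h.ext (pow_mem hx 3) (one_mem _) fun i => by
    simp only [pow_three, Equiv.Perm.mul_apply, e1]; exact xf_three i
  obtain ⟨l, l1, l2⟩ := h.avg (zpowers_le.2 hx) (by
    rw [Nat.card_zpowers]; exact Odd.of_dvd_nat (by decide) (orderOf_dvd_of_pow_eq_one e3))
    fun v hv => xf_fix v (e1 v ▸ hv x (mem_zpowers x))
  have k : ∀ a b a' b', (∀ i, tf (wv a b) (tf (wv a' b') (xf (bs i))) =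
      xf (tf (wv a b) (tf (wv a' b') (bs i)))) → ∀ v, Er (fun v => tf (wv a b) (tf (wv a' b') v)) v =
      l (tf (wv a b) (tf (wv a' b') v) + v) := fun a b a' b' c v => by
    obtain ⟨k, k1, k2, k3⟩ := exists_tw (c := wv a b) (phf_wv a b)
    obtain ⟨m, m1, m2, m3⟩ := exists_tw (c := wv a' b') (phf_wv a' b')
    have hk := h.le (h.lift _ (k1.mul m1) (k2.mul_left m2)).1
    have : Commute (k * m) x := h.ext (mul_mem hk hx) (mul_mem hx hk) fun i => by
      simp only [Equiv.Perm.mul_apply, e1, k3, m3]; exact c i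
    simpa only [Er, Equiv.Perm.mul_apply, k3, m3] using l2 _ (k1.mul m1) (k2.mul_left m2)
      (centralizer_le_normalizer' _ (by
        rw [centralizer_zpowers]; exact mem_centralizer_singleton_iff.2 this)) v
  have a := k _ _ _ _ xf_g1 ![0, 1, 0, 0]
  rw [show tf (wv 0 (om ^ 2)) (tf (wv om 0) ![0, 1, 0, 0]) + ![0, 1, 0, 0] =
    tf (wv 0 (om ^ 2)) (tf (wv om (om ^ 2)) e2) + e2 by decide +kernel, ← k _ _ _ _ xf_g2] at a
  exact absurd a (by decide +kernel)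

theorem good (hb : ∀ c ∈ uS 4, uf (phf c) = c → tv c ∈ Γ0) {c : V4} (hc : c ∈ uS 4) :
    tv c ∈ Γ0 := by
  have k1 : ∀ c ∈ uS 4, phi c = c → tv c ∈ Γ0 := fun c hc e => by
    refine (h.lift _ (tv_lin hc) ?_).1
    have := phi_semi.ga.conj_tv hc
    rw [e] at this
    exact (commute_of_conj_eq this).symm
  have k2 : ∀ (s : GF4) a b, s ≠ 0 → wv a b ≠ 0 →
      uf (phf (s • tf (wv a b) c)) = s • tf (wv a b) c → tv c ∈ Γ0 := fun s a b hs h0 e => by
    have hw : wv a b ∈ uS 4 := ⟨h0, sing_of_phi (phf_wv a b)⟩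
    have h1 := (tv_lin hw).ga.mem hc
    rw [← tv_eq_tf hw] at e
    have h2 := hb _ (smul_mem_uS h1 hs) e
    rw [tv_smul h1 hs] at h2
    rw [← tv_tv hw c, tv_op hw h1]
    exact mul_mem (mul_mem (k1 _ hw (phf_wv a b)) h2) (k1 _ hw (phf_wv a b))
  obtain ⟨s, hs, e | e | e | e⟩ := gen c (h4_eq_hd c c ▸ hc.2)
  · exact tv_smul hc hs ▸ k1 _ (smul_mem_uS hc hs) e
  · exact tv_smul hc hs ▸ hb _ (smul_mem_uS hc hs) e
  · exact k2 s _ _ hs (by decide) e
  · exact k2 s _ _ hs (by decide) e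

theorem caseB0 (hγ : γ ∈ Γ) (hb : γ * phi * γ⁻¹ = u0 * phi) {c : V4} (hc : c ∈ uS 4) :
    tv c ∈ Γ0 := by
  let β : V4 → V4 := fun v => γ (om • γ⁻¹ v)
  have a1 := h.add γ hγ
  have b1 : Ad β := fun u v => by simp only [β, h.add _ (inv_mem hγ) u v, smul_add, a1 _ _]
  have b2 : ∀ v, β (β v) = β v + v := fun v => by
    simp only [β, pia, smul_smul]
    rw [← pow_two, ← add_om_smul, a1, add_comm]; simp
  have b0 : ∀ g, Commute g u0 → Commute g phi → Commute (γ⁻¹ * g * γ⁻¹⁻¹) phi := fun g c1 c2 =>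
    (comm_conj_inv.1 (hb ▸ (c1.mul_right c2).symm)).symm
  have b3 : ∀ g, IsLin g → Commute g phi → Commute g u0 → ∀ v, β (g v) = g (β v) :=
    fun g g1 g2 g3 v => by
      have := (h.lin_of (h.conj_mem (inv_mem hγ) (h.lift g g1 g2).1) (b0 g g3 g2)).smul om (γ⁻¹ v)
      simp only [inv_inv, Equiv.Perm.mul_apply, pai] at this
      simp only [β, ← this, pai]
  have b4 : ∀ v, phi (β v) = β (phi v) + phi v := fun v => by
    have h1 := (h.semi_of (mul_mem (mul_mem (inv_mem hγ) h.pm) (inv_mem (inv_mem hγ)))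
      (h.conj_phi (inv_mem hγ)) (b0 phi u0_phi.symm (Commute.refl _))).mul_semi phi_semi
    rw [mul_assoc, phi_sq, mul_one] at h1
    have := congrArg γ (h1.smul om (γ⁻¹ v))
    simp only [inv_inv, Equiv.Perm.mul_apply, pai] at this
    rw [← add_om_smul, a1, add_comm] at this
    simpa [β] using this
  have b5 := eq_LB b1 (b3 u0 u0_lin u0_phi (Commute.refl _)) (b3 d0 d0_lin d0_phi d0_u0)
  have b6 : ∀ s : GF4, β (s • x2) = ![β (s • x2) 0, β (s • x2) 0, β (s • x2) 2, β (s • x2) 2] := by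
    obtain ⟨k, k1, k2, k3⟩ := exists_tw phi_x1
    obtain ⟨m, m1, m2, m3⟩ := exists_tw phi_x2
    intro s
    have := b3 _ (k1.mul m1) (k2.mul_left m2) (by
      refine lin_ext ((k1.mul m1).mul u0_lin) (u0_lin.mul (k1.mul m1)) ?_ ?_ ?_ ?_ <;>
        simp only [Equiv.Perm.mul_apply, k3, m3] <;> decide +kernel) (s • x2)
    simp only [Equiv.Perm.mul_apply, k3, m3] at this
    rw [(by decide +kernel : ∀ s : GF4, tf x1 (tf x2 (s • x2)) = s • x2)] at this
    generalize β (s • x2) = A at this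
    have := fix_aux (A 0) (A 1) (A 2) (A 3) (by rw [← eq_vec]; exact this.symm)
    rw [← eq_vec] at this
    conv_lhs => rw [this]
    funext i; fin_cases i <;> simp [x1, x2]
  have b7 : ∀ c, uf (phf c) = c → ∃ T ∈ Γ0, ∀ v, T v = TT c (β c) v := fun c e => by
    obtain ⟨k, k1, k2, k3⟩ := exists_tw (c := γ⁻¹ c) (γ.injective (by
      have := congrArg (· c) hb
      simp only [Equiv.Perm.mul_apply] at this
      rw [this, pai]; exact e))
    refine ⟨_, h.conj_mem hγ (h.lift k k1 k2).1, fun v => ?_⟩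
    simp only [Equiv.Perm.mul_apply, k3, tf_eq_TT, TT, ← bf_eq_bd, a1 _ _, a1.smul,
      ← h.bf hγ (γ⁻¹ v), pai, β]
  have b8 := four (β x2 0) (β x2 2) (β (om • x2) 0) (β (om • x2) 2)
  have b9 := b6 1
  rw [one_smul] at b9
  rw [← b9, ← b6 om] at b8
  have := b8 (by have := b4 x2; rw [phi_x2] at this; exact this) (by
    have := b4 (om • x2)
    rw [phi_semi.smul, phi_x2] at this
    rw [← b1, add_om_smul]; exact this) (by rw [← b5, b2])
  rw [b9, b6 om] at b5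
  rcases this with ⟨e1, e2, ⟨e3, e4⟩ | ⟨e3, e4⟩⟩ | ⟨e1, e2, ⟨e3, e4⟩ | ⟨e3, e4⟩⟩ <;>
    rw [e1, e2, e3, e4] at b5
  · refine h.good (fun c hc e => ?_) hc
    obtain ⟨T, h1, h2⟩ := b7 c e
    rwa [show tv c = T from Equiv.ext fun v => by rw [h2, b5, good1, tv_eq_tf hc, tf_eq_TT]]
  · refine h.good (fun c hc e => ?_) hc
    obtain ⟨T, h1, h2⟩ := b7 c e
    rwa [show tv c = T from Equiv.ext fun v => by rw [h2, b5, good2, tv_eq_tf hc, tf_eq_TT, TT_add]]
  · obtain ⟨T, h1, h2⟩ := b7 c1 (by decide +kernel)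
    obtain ⟨T', h3, h4⟩ := b7 c2 (by decide +kernel)
    exact (h.bad (h.le (mul_mem h1 h3)) fun v => by
      rw [Equiv.Perm.mul_apply, h2, h4, b5, b5, bad1.1, bad1.2.1, Tf]).elim
  · obtain ⟨T, h1, h2⟩ := b7 c1 (by decide +kernel)
    obtain ⟨T', h3, h4⟩ := b7 c2 (by decide +kernel)
    exact (h.bad (h.le (mul_mem h1 h3)) fun v => by
      rw [Equiv.Perm.mul_apply, h2, h4, b5, b5, bad1.2.2.1, bad1.2.2.2, TT_add, TT_add, Tf]).elim

theorem caseB (hγ : γ ∈ Γ) (h1 : Commute (γ * phi * γ⁻¹) phi) (h2 : γ * phi * γ⁻¹ ≠ phi) {c : V4}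
    (hc : c ∈ uS 4) : tv c ∈ Γ0 := by
  have hu := h.semi_of (mul_mem (mul_mem hγ h.pm) (inv_mem hγ)) (h.conj_phi hγ) h1
  have h3 := fun v => h.sing hγ (v := v)
  have h4 : γ * phi * γ⁻¹ * (γ * phi * γ⁻¹) = 1 := by rw [conj_mul, phi_sq]; simp
  have h5 : γ * phi * γ⁻¹ = γ * phi * γ⁻¹ * phi * phi := by rw [mul_assoc _ phi phi, phi_sq, mul_one]
  have h6 : Commute (γ * phi * γ⁻¹ * phi) phi := h1.mul_left (Commute.refl _)
  have h7 : γ * phi * γ⁻¹ * phi * (γ * phi * γ⁻¹ * phi) = 1 := by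
    rw [← pow_two, h1.mul_pow, pow_two, pow_two, h4, phi_sq, mul_one]
  obtain ⟨k, k1, k2, k3⟩ := exists_u0 hu h6 (fun e => h2 (by rw [h5, e, one_mul])) fun x hx => by
    rw [h5] at h3
    generalize γ * phi * γ⁻¹ * phi = u at hu h3 h6 h7
    have e1 : phi (u x) = u x := by rw [← Equiv.Perm.mul_apply, ← h6.eq, Equiv.Perm.mul_apply, hx]
    have e2 : u (u x) = x := congrArg (· x) h7
    have := h3 (om • u x + om ^ 2 • x) (by
      rw [Equiv.Perm.mul_apply, phi_semi.add, phi_semi.smul, phi_semi.smul, hx, e1, gf_four, hu.add,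
        hu.smul, hu.smul, e2, add_comm])
    rw [h4_add_add, bf_eq, h4_smul_left, h4_smul_left, h4_smul_left, h4_smul_right, h4_smul_right,
      h4_smul_right, sing_of_phi hx, sing_of_phi e1] at this
    rcases phi_semi.h4_cases e1 hx with e | e
    · exact e
    · rw [e] at this; exact absurd this (by decide)
  refine h.caseB0 (mul_mem (h.le (h.lift k k1 k2).1) hγ) ?_ hc
  rw [show k * γ * phi * (k * γ)⁻¹ = k * (γ * phi * γ⁻¹) * k⁻¹ by group, h5, ← mul_assoc k, k3,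
    mul_assoc u0, k2.eq]
  group

section C

variable (hK : K4 ≤ Γ0)
include hK

theorem mem_K4 (hg : g ∈ Γ) (hl : IsLin g) : g ∈ K4 := by
  obtain ⟨n, hn⟩ := ZJ.IsLin.exists_mul hl
  have h1 : sc4 ^ n ∈ Γ := (mul_mem_cancel_right hg).1 (h.le (hK hn))
  by_cases h2 : sc4 ^ n = 1
  · rwa [h2, one_mul] at hn
  have h3 : sc4 ^ n ∈ LG := zpow_mem sc4_lin n
  have h4 : orderOf (sc4 ^ n) ∣ 3 := sc4_order ▸ orderOf_dvd_of_mem_zpowers ⟨n, rfl⟩
  refine (h.avg1 (zpowers_le.2 h1) (by rw [Nat.card_zpowers]; exact Odd.of_dvd_nat (by decide) h4)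
    (fun v hv => ?_) fun k k1 _ => centralizer_le_normalizer' _ (by
      rw [centralizer_zpowers]
      exact mem_centralizer_singleton_iff.2 ((IsLin.comm_sc4 k1).zpow_right n))).elim
  have := Fact.mk Nat.prime_three
  have h5 : zpowers (sc4 ^ n) = zpowers sc4 := eq_of_le_of_card_ge (zpowers_le.2 ⟨n, rfl⟩) (by
    rw [Nat.card_zpowers, Nat.card_zpowers, sc4_order, ((Nat.dvd_prime Nat.prime_three).1
      h4).resolve_left (mt orderOf_eq_one_iff.1 h2)])
  have h6 := hv sc4 (h5.ge (mem_zpowers _))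
  have h7 := add_om_smul v
  rw [← sc4_apply, h6, v4_add_self] at h7
  exact (smul_eq_zero.1 h7.symm).resolve_left (by decide)

theorem mem_K4' (hg : g ∈ Γ0) (hl : IsGa g) : g ∈ K4 :=
  h.mem_K4 hK (h.le hg) (hl.resolve_right fun hs => h.pn ((mul_mem_cancel_left hg).1
    (hK (h.mem_K4 hK (mul_mem (h.le hg) h.pm) (hs.mul phi_semi)))))

theorem ga_of_conj (hg : g ∈ Γ) (h1 : IsGa (g * phi * g⁻¹)) : IsGa g := by
  have h2 := mul_mem (mul_mem hg h.pm) (inv_mem hg)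
  have h3 := h1.resolve_left fun e => h.conj_phi hg (hK (h.mem_K4 hK h2 e))
  obtain ⟨k, hk, e⟩ := semi_sing h3 (by rw [conj_mul, phi_sq]; simp)
    (h.mem_K4 hK (mul_mem h2 h.pm) (h3.mul phi_semi)) fun v => h.sing hg
  exact (mul_mem_cancel_left (H := GaG) (lin_of_mem_closure hk).ga).1
    (h.ga_of (mul_mem (h.le (hK hk)) hg) (commute_of_conj_eq
      ((by group : k * g * phi * (k * g)⁻¹ = k * (g * phi * g⁻¹) * k⁻¹).trans e)))

omit hK in
/-- A canonical `2`-subgroup attached to a vector. -/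
def QQ (y : V4) : Subgroup P4 where
  carrier := {g | g ∈ Γ ∧ g y = y ∧ ∀ v, U6R.bf v y = 0 → g v = v ∨ g v = v + y}
  one_mem' := ⟨one_mem _, rfl, fun _ _ => Or.inl rfl⟩
  mul_mem' := fun {a b} ha hb => ⟨mul_mem ha.1 hb.1, by
    rw [Equiv.Perm.mul_apply, hb.2.1, ha.2.1], fun v hv => by
    rcases hb.2.2 v hv with e | e <;> rcases ha.2.2 v hv with e' | e' <;>
      simp [e, e', h.add a ha.1 v y, ha.2.1, v4_add_add']⟩
  inv_mem' := fun {a} ha => ⟨inv_mem ha.1, Equiv.Perm.inv_eq_iff_eq.2 ha.2.1.symm, fun v hv => by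
    obtain ⟨v, rfl⟩ := a.surjective v
    rw [← ha.2.1, h.bf ha.1] at hv
    rw [pia]
    exact (ha.2.2 v hv).imp (·.symm) fun e => by rw [e, v4_add_add']⟩

omit hK in
theorem QQ_two (y : V4) : IsPGroup 2 (h.QQ y) := isPGroup_iff.2 fun g hg => ⟨2, Equiv.ext fun v => by
  have h1 : ∀ u, U6R.bf u y = 0 → (g * g) u = u := fun u hu => by
    rcases hg.2.2 u hu with e | e <;> simp [e, h.add g hg.1 u y, hg.2.1, v4_add_add']
  have h2 := mul_mem hg.1 hg.1
  have h3 := h1 ((g * g) v + v) (by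
    rw [bf_add_left, ← h.bf h2 v, h1 y (bf_self y), gf_add_self])
  rw [h.add _ h2, add_comm _ v, add_left_inj] at h3
  rw [show g ^ 2 ^ 2 = g * g * (g * g) by
    rw [show (2 : ℕ) ^ 2 = 2 * 2 from rfl, pow_mul, pow_two, pow_two]]
  exact h3⟩

omit hK in
theorem QQ_conj {y : V4} (hk : k ∈ Γ) (hg : g ∈ h.QQ y) : k * g * k⁻¹ ∈ h.QQ (k y) :=
  ⟨mul_mem (mul_mem hk hg.1) (inv_mem hk), by simp [hg.2.1], fun v hv => by
    obtain ⟨v, rfl⟩ := k.surjective v
    rw [h.bf hk] at hv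
    exact (hg.2.2 v hv).imp (fun e => by simp [e]) fun e => by simp [e, h.add k hk v y]⟩

theorem conj_K4 (hg : g ∈ Γ) (hk : k ∈ K4) : g * k * g⁻¹ ∈ K4 := by
  have := Fact.mk Nat.prime_two
  have hL : K4 ≤ GaG := fun k hk => (lin_of_mem_closure hk).ga
  obtain ⟨S, hS, h1⟩ := exists_isSyl_ge (p := 2) (L := Γ ⊓ GaG)
    (isPGroup_zpowers (x := phi) ⟨1, by rw [pow_one, pow_two, phi_sq]⟩)
    (zpowers_le.2 ⟨h.pm, phi_semi.ga⟩)
  have h2 : IsSyl 2 S Γ := isSyl_of_isSyl_normalizer (hS.mono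
    (le_inf (hS.le.trans inf_le_left) le_normalizer) fun n hn => ⟨hn.1, h.ga_of_conj hK hn.1
      (hS.le (conj_mem_of_mem_normalizer hn.2 (h1 (mem_zpowers _)))).2⟩)
  obtain ⟨m, hm, h3⟩ := h2.exists_cj_le (h.QQ_two x1) fun g hg => hg.1
  obtain ⟨k1, a1, a2⟩ := exists_K4_one (h.memS hm x1_mem)
  refine h.mem_K4' hK (h.conj_mem hg (hK hk)) (show _ ∈ GaG from ?_)
  refine (show K4 ≤ cj(g⁻¹, GaG) from (closure_le _).2 ?_) hk |> fun e => by simpa using mem_cj.1 e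
  rintro _ ⟨c, hc, rfl⟩
  obtain ⟨k2, b1, b2⟩ := exists_K4_one (h.memS hg hc)
  have h4 : tv c ∈ h.QQ c := ⟨h.le (hK (subset_closure ⟨c, hc, rfl⟩)), tv_of_perp hc hc.2,
    fun v hv => by
      rw [tv_apply hc]
      rcases gf_tr _ (bf_eq v c ▸ hv) with e | e <;> simp [e]⟩
  have h5 := h.QQ_conj (inv_mem hm) (h.QQ_conj (h.le (hK a1))
    (h.QQ_conj (inv_mem (h.le (hK b1))) (h.QQ_conj hg h4)))
  rw [← b2, pia, a2, pia] at h5
  have h6 := (hS.le (h3 (mem_cj.2 (by simpa using h5)))).2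
  have h7 := mul_mem (mul_mem (mul_mem (mul_mem (hL b1) (inv_mem (hL a1))) h6) (hL a1))
    (inv_mem (hL b1))
  exact mem_cj.2 (by simpa [mul_assoc] using h7)

theorem caseC (hg : g ∈ Γ0) : g ∈ K4 := by
  have h0 := h.le hg
  obtain ⟨a, ha⟩ := scalar_of_comm (j := fun v => g (om • g⁻¹ v))
    (fun u v => by rw [h.add _ (inv_mem h0), smul_add, h.add g h0]) fun k v => by
      have := congrArg g ((lin_of_mem_closure (h.conj_K4 hK (inv_mem h0) k.2)).smul om (g⁻¹ v))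
      simpa using this.symm
  have h1 : ∀ v, g (om • v) = a • g v := fun v => by simpa using ha (g v)
  have h2 := h1 (om • x1)
  rw [smul_smul, ← pow_two, ← add_om_smul, h.add g h0, h1, smul_smul] at h2
  have h3 : (1 + a + a * a) • g x1 = 0 := by rw [add_smul, add_smul, one_smul, h2, v4_add_self]
  refine h.mem_K4' hK hg ?_
  rcases gf_root a ((smul_eq_zero.1 h3).resolve_right (h.memS h0 x1_mem).1) with rfl | rfl
  exacts [Or.inl (isLin_of (h.add g h0) h1 (h.self g h0)),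
    Or.inr (isSemi_of (h.add g h0) h1 (h.self g h0))]

end C

theorem main : (∀ g ∈ Γ0, g ∈ K4) ∧ ((∀ g ∈ Γ, Commute g phi) ∨ ∀ c ∈ uS 4, tv c ∈ Γ0) := by
  by_cases hi : IsIsolatedInvolution (⟨phi, h.pm⟩ : Γ)
  · exact ⟨fun g hg => mem_K4_of_phi (h.lin_of hg (h.caseA hi (h.le hg))) (h.caseA hi (h.le hg)),
      Or.inl fun g hg => h.caseA hi hg⟩
  obtain ⟨γ, h1⟩ := not_forall.1 (mt (And.intro (Inv.orderOf_two_of_mul_self
    (Subtype.ext phi_sq) fun e => h.pn (by rw [show phi = 1 from congrArg Subtype.val e]; simp))) hi)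
  obtain ⟨h2, h3⟩ := Classical.not_imp.1 h1
  have k := fun c => h.caseB (c := c) γ.2 (congrArg Subtype.val h2.symm) fun e => h3 (Subtype.ext e)
  exact ⟨fun g => h.caseC ((closure_le _).2 (by rintro _ ⟨c, hc, rfl⟩; exact k c hc)), Or.inr k⟩

end GD

end Cfsg.Agent.F6.Gm
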