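import Mathlib
import Cfsg.Agent.F6.GamB

/-! The group induced by `N(J)` on `J / Z`. -/

set_option autoImplicit false

namespace Cfsg.Agent.F6

open Subgroup Cfsg.Agent.Class TT TT.UQ U6R ZJ Cfsg.Agent.PLocal.Amb

variable {G : Type*} [Group G] [Finite G] {A Z J : Subgroup G} {z d a e w : G} {π : G → V4}
  {ρ : G → P4} {μ : G → GF4}

namespace Fr

variable (h : Fr A Z J z d a e w π ρ μ)
include h

omit [Finite G] in
theorem mu_conjZ {g y : G} (hg : g ∈ 𝐍[J]) (hy : y ∈ Z) : μ (g * y * g⁻¹) = μ y := by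
  have k : μ (g * d * g⁻¹) = μ d := by
    rcases h.conj_d hg with e | e <;> simp [e, h.μadd d h.dJ z h.zJ, h.μz]
  rcases (h.memZ y).1 hy with rfl | rfl | rfl | rfl
  · simp
  · rw [conj_eq_of_commute (h.commz hg)]
  · exact k
  · rw [← conj_mul, conj_eq_of_commute (h.commz hg),
      h.μadd _ (conj_mem_of_mem_normalizer hg h.dJ) _ h.zJ, k, h.μadd d h.dJ z h.zJ]

omit [Finite G] in
theorem comm_d {g k : G} (hg : g ∈ 𝐍[J]) (h1 : g * d * g⁻¹ = d * z) (h2 : k * d * k⁻¹ = d * z) :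
    Commute (g * k) d := commute_of_conj_eq (by
  rw [show g * k * d * (g * k)⁻¹ = g * (k * d * k⁻¹) * g⁻¹ by group, h2, ← conj_mul, h1,
    conj_eq_of_commute (h.commz hg), mul_assoc, h.zz, mul_one])

theorem ker_rho {g : G} (hg : g ∈ 𝐍[J]) (h1 : ρ g = 1) :
    CZ Z g ∧ ∀ x ∈ J, μ (g * x * g⁻¹) = μ x := by
  let S : Subgroup G :=
    { carrier := {g | g ∈ 𝐍[J] ∧ CZ Z g ∧ ∀ x ∈ J, μ (g * x * g⁻¹) = μ x}
      one_mem' := ⟨one_mem _, fun _ _ => Commute.one_left _, fun x _ => by simp⟩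
      mul_mem' := fun {s t} hs ht => ⟨mul_mem hs.1 ht.1, hs.2.1.mul ht.2.1, fun x hx => by
        rw [← ht.2.2 x hx, ← hs.2.2 _ (conj_mem_of_mem_normalizer ht.1 hx)]
        congr 1; group⟩
      inv_mem' := fun {s} hs => ⟨inv_mem hs.1, hs.2.1.inv, fun x hx => by
        rw [← hs.2.2 _ (conj_mem_of_mem_normalizer (inv_mem hs.1) hx)]
        congr 1; group⟩ }
  have h2 : J ≤ S := fun q hq => ⟨le_normalizer hq, h.cz hq, fun x hx => by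
    rcases h.comm q hq x hx with e | e <;> simp [e, h.μadd x hx z h.zJ, h.μz]⟩
  have h3 : g ^ 2 ∈ S := by
    rw [pow_two]
    refine ⟨mul_mem hg hg, h.cz_of (mul_mem hg hg) ?_, fun x hx => ?_⟩
    · rcases h.conj_d hg with e | e
      · exact (commute_of_conj_eq e).mul_left (commute_of_conj_eq e)
      · exact h.comm_d hg e e
    · have c := conj_mem_of_mem_normalizer hg hx
      have hy := h.mem_of_pi hx c (by rw [h.act g hg x hx, h1]; rfl)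
      have e : g * x * g⁻¹ = x * (x⁻¹ * (g * x * g⁻¹)) := by group
      generalize x⁻¹ * (g * x * g⁻¹) = y at hy e
      rw [show g * g * x * (g * g)⁻¹ = g * (g * x * g⁻¹) * g⁻¹ by group, e, ← conj_mul,
        h.μadd _ c _ (h.le (h.normZ hg hy)), h.mu_conjZ hg hy, e, h.μadd x hx y (h.le hy),
        add_assoc, gf_add_self, add_zero]
  obtain ⟨k, m, ⟨j, rfl⟩, h4⟩ := Nat.exists_eq_two_pow_mul_odd (orderOf_pos g).ne'
  have h5 := h2 (h.triv _ (pow_mem hg (2 * j + 1)) (by rw [h.rho_pow hg, h1, one_pow]) k (by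
    rw [← pow_mul, mul_comm, ← h4, pow_orderOf_eq_one]))
  rw [pow_succ, pow_mul] at h5
  exact ((mul_mem_cancel_left (pow_mem h3 j)).1 h5).2

omit [Finite G] in
theorem rho_div {m n : G} (hm : m ∈ 𝐍[J]) (hn : n ∈ 𝐍[J]) (e : ρ n = ρ m) : ρ (n * m⁻¹) = 1 := by
  rw [h.rho_mul hn (inv_mem hm), h.rho_inv hm, e, mul_inv_cancel]

theorem exists_lam : ∃ lam : P4 → V4 → GF4, ∀ m ∈ 𝐍[J], ∀ x ∈ J,
    lam (ρ m) (π x) = μ (m * x * m⁻¹) + μ x := by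
  refine ⟨fun g v => Classical.epsilon fun c => ∀ m ∈ 𝐍[J], ∀ x ∈ J, ρ m = g → π x = v →
    c = μ (m * x * m⁻¹) + μ x, fun m hm x hx => Classical.epsilon_spec
      (p := fun c => ∀ n ∈ 𝐍[J], ∀ y ∈ J, ρ n = ρ m → π y = π x → c = μ (n * y * n⁻¹) + μ y)
      ⟨μ (m * x * m⁻¹) + μ x, fun n hn y hy e1 e2 => ?_⟩ m hm x hx rfl rfl⟩
  have h1 := (h.ker_rho (mul_mem hn (inv_mem hm)) (h.rho_div hm hn e1)).2 _
    (conj_mem_of_mem_normalizer hm hy)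
  rw [show n * m⁻¹ * (m * y * m⁻¹) * (n * m⁻¹)⁻¹ = n * y * n⁻¹ by group] at h1
  have h2 := h.mem_of_pi hx hy e2.symm
  obtain ⟨t, rfl⟩ : ∃ t, y = x * t := ⟨x⁻¹ * y, by group⟩
  rw [inv_mul_cancel_left] at h2
  rw [h1, ← conj_mul, h.μadd _ (conj_mem_of_mem_normalizer hm hx) _ (h.le (h.normZ hm h2)),
    h.mu_conjZ hm h2, h.μadd x hx t (h.le h2), add_add_add_comm, gf_add_self, add_zero]

theorem gam : HK Z J ρ ∧ ((∀ g ∈ 𝐍[J], Commute (ρ g) phi) ∨ SU Z J ρ) := by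
  obtain ⟨lam, hl⟩ := h.exists_lam
  let Γ0 := ((centralizer (Z : Set G)).subgroupOf 𝐍[J]).map h.hom
  have m0 : ∀ g ∈ 𝐍[J], ρ g ∈ Γ0 ↔ CZ Z g := fun g hg =>
    ⟨fun ⟨n, hn, e⟩ => by
      simpa using (h.ker_rho (mul_mem hg (inv_mem n.2)) (h.rho_div n.2 hg e.symm)).1.mul
        (cz_iff.1 hn), fun c => ⟨⟨g, hg⟩, cz_iff.2 c, rfl⟩⟩
  have m1 : ∀ g ∈ 𝐍[J], ¬ CZ Z g → g * d * g⁻¹ = d * z := fun g hg c =>
    (h.conj_d hg).resolve_left fun e => c (h.cz_of hg (commute_of_conj_eq e))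
  have H : Gm.GD h.hom.range Γ0 lam := by
    refine ⟨?_, ?_, map_le_range _ _, ?_, ⟨⟨a, h.aM⟩, h.ρa⟩, fun c => ?_, fun g g1 g2 => ?_, ?_,
      ?_, ?_⟩
    · rintro _ ⟨g, rfl⟩; exact h.rho_add g.2
    · rintro _ ⟨g, rfl⟩; exact h.rho_self g.2
    · rintro _ ⟨g, rfl⟩ _ ⟨k, rfl⟩ h1 h2
      rw [← map_mul]
      exact (m0 _ (g * k).2).2 (h.cz_of (g * k).2 (h.comm_d g.2 (m1 _ g.2 (mt (m0 _ g.2).2 h1))
        (m1 _ k.2 (mt (m0 _ k.2).2 h2))))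
    · have := conj_eq_of_commute ((m0 a h.aM).1 (h.ρa ▸ c) d h.dZ)
      rw [h.ad, mul_eq_left] at this
      exact h.z1 this
    · obtain ⟨m, hm, -, h1, rfl, h2⟩ := h.lift g g1 g2
      refine ⟨(m0 m hm).2 h1, fun v => ?_⟩
      obtain ⟨x, hx, rfl⟩ := h.surj v
      rw [hl m hm x hx]
      linear_combination h2 x hx + gf_add_self (μ x) - gf_add_self (Qw (phi (ρ m (π x)) + ρ m (π x)))
    · rintro _ ⟨g, rfl⟩ c
      refine (h.cphi g g.2 c).imp (fun e => ⟨e.1, (m0 _ g.2).2 e.2⟩) fun e => ⟨e.1, ?_⟩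
      rw [h.hom_apply, ← h.ρa, ← h.rho_mul g.2 h.aM]
      exact (m0 _ (mul_mem g.2 h.aM)).2 e.2
    · rintro _ ⟨⟨g, hg⟩, rfl⟩ _ ⟨⟨k, hk⟩, rfl⟩ v
      obtain ⟨x, hx, rfl⟩ := h.surj v
      show lam (ρ g * ρ k) _ = lam (ρ g) (ρ k _) + lam (ρ k) _
      rw [← h.rho_mul hg hk, ← h.act k hk x hx, hl _ (mul_mem hg hk) x hx, hl k hk x hx,
        hl g hg _ (conj_mem_of_mem_normalizer hk hx), add_assoc, ← add_assoc (μ (k * x * k⁻¹)),
        gf_add_self, zero_add]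
      congr 2; group
    · rintro _ ⟨⟨g, hg⟩, rfl⟩ u v
      obtain ⟨x, hx, rfl⟩ := h.surj u
      obtain ⟨y, hy, rfl⟩ := h.surj v
      show lam (ρ g) _ = lam (ρ g) _ + lam (ρ g) _
      rw [← h.add x hx y hy, hl g hg _ (mul_mem hx hy), hl g hg x hx, hl g hg y hy, ← conj_mul,
        h.μadd _ (conj_mem_of_mem_normalizer hg hx) _ (conj_mem_of_mem_normalizer hg hy),
        h.μadd x hx y hy, add_add_add_comm]
  refine ⟨fun g hg c => H.main.1 _ ((m0 g hg).2 c), H.main.2.imp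
    (fun k g hg => k _ ⟨⟨g, hg⟩, rfl⟩) fun k c hc => ?_⟩
  obtain ⟨g, h1, h2⟩ := k c hc
  exact ⟨g, g.2, cz_iff.1 h1, h2⟩

end Fr

end Cfsg.Agent.F6
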