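import Mathlib
import Cfsg.Agent.Loc3.PrE
import Cfsg.Agent.Class.Sp.Gen

/-! A faithful module of order `64` for `Sp₆(2)` is the natural module. -/

set_option autoImplicit false
set_option maxRecDepth 100000

namespace Cfsg.Agent.F6.NatM

open Cfsg Cfsg.Agent.Class.Sp Cfsg.Agent.Loc3.Pr Cfsg.Agent.Comp
open Cfsg.Agent.W6 (vc opv opv_eq)

section ring
variable {R : Type*} [Ring R]

/-- projection on the commutator -/
def pp (x : R) : R := x + x * x

/-- projection on the fixed space -/
def qq (x : R) : R := 1 + x + x * x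

def e3 (a b c : R) : R := qq (a * b) * qq (a * c) * pp a

def f3 (a b c : R) : R := qq (a * b) * pp a * qq c

def E4 (a b c : R) : Fin 4 → R := ![e3 a b c, e3 a (b * b) c, e3 a b (c * c), e3 a (b * b) (c * c)]

def F4 (a b c : R) : Fin 4 → R := ![f3 a b c, f3 a (b * b) c, f3 a c b, f3 a (c * c) b]

/-- four orthogonal idempotents -/
def Orth (a : R) (e : Fin 4 → R) : Prop := (∀ i j, i ≠ j → e i * e j = 0) ∧ e 0 * e 0 = e 0 ∧
  pp a * e 0 = e 0 ∧ ∀ i, e i * a = a * e i

def Ids (a b c : R) : Prop := Orth a (E4 a b c) ∧ Orth a (F4 a b c) ∧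
  pp a * pp b = E4 a b c 0 + E4 a b c 1 + E4 a b c 2 + E4 a b c 3 + F4 a b c 0 + F4 a b c 1

end ring

section comm
variable {R : Type*} [CommRing R] (h2 : (2 : R) = 0) {a b c : R} (ha : a * a * a = 1)
  (hb : b * b * b = 1) (hc : c * c * c = 1)
include h2 ha

theorem pp_pp : pp a * pp a = pp a := by simp only [pp]; grind

theorem qq_qq : qq a * qq a = qq a := by simp only [qq]; grind

include hb

theorem l1 : qq (a * b) * qq (a * (b * b)) * pp a = 0 := by simp only [pp, qq]; grind

theorem l2 : qq (a * b) * pp a * qq b = 0 := by simp only [pp, qq]; grind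

theorem l3 : qq (a * (b * b)) * pp a * qq b = 0 := by simp only [pp, qq]; grind

theorem l4 : (qq (a * b) + qq (a * (b * b))) * pp a = pp a * pp b := by simp only [pp, qq]; grind

include hc

theorem ids_comm : Ids a b c := by
  have p := pp_pp h2 ha
  have q1 := qq_qq h2 (a := a * b) (by linear_combination b * b * b * ha + hb)
  have q2 := qq_qq h2 (a := a * c) (by linear_combination c * c * c * ha + hc)
  have q3 := qq_qq h2 hc
  have b1 := l1 h2 ha hb
  have b2 := l2 h2 ha hb
  have b3 := l3 h2 ha hb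
  have b4 := l4 h2 ha hb
  have c1 := l1 h2 ha hc
  have c2 := l2 h2 ha hc
  have c3 := l3 h2 ha hc
  have c4 := l4 h2 ha hc
  have c5 : pp c + qq c = 1 := by simp only [pp, qq]; linear_combination (c + c * c) * h2
  simp only [Ids, Orth, E4, F4, e3, f3]
  generalize qq (a * b) = x1 at *
  generalize qq (a * (b * b)) = x2 at *
  generalize qq (a * c) = y1 at *
  generalize qq (a * (c * c)) = y2 at *
  generalize pp a = pa at *
  generalize pp b = pb at *
  generalize pp c = pc at *
  generalize qq b = qb at *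
  generalize qq c = qc at *
  refine ⟨⟨fun i j ij => ?_, ?_, ?_, fun i => mul_comm _ _⟩,
    ⟨fun i j ij => ?_, ?_, ?_, fun i => mul_comm _ _⟩, ?_⟩
  · fin_cases i <;> fin_cases j <;> first | exact absurd rfl ij | (simp; grind)
  · simp; grind
  · simp; grind
  · fin_cases i <;> fin_cases j <;> first | exact absurd rfl ij | (simp; grind)
  · simp; grind
  · simp; grind
  · simp; grind

end comm

theorem ids {R : Type*} [Ring R] (h2 : (2 : R) = 0) {a b c : R} (ha : a * a * a = 1)
    (hb : b * b * b = 1) (hc : c * c * c = 1) (ab : a * b = b * a) (ac : a * c = c * a)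
    (bc : b * c = c * b) : Ids a b c := by
  let S := Subring.closure ({a, b, c} : Set R)
  have : IsMulCommutative S := Subring.isMulCommutative_closure (by
    rintro x (rfl | rfl | rfl) y (rfl | rfl | rfl) <;> simp [*])
  let _ : CommRing S := { (inferInstance : Ring S) with mul_comm := this.1.1 }
  have := ids_comm (R := S) (Subtype.ext h2) (a := ⟨a, Subring.subset_closure (by simp)⟩)
    (b := ⟨b, Subring.subset_closure (by simp)⟩) (c := ⟨c, Subring.subset_closure (by simp)⟩)
    (Subtype.ext ha) (Subtype.ext hb) (Subtype.ext hc)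
  have k : ∀ {x : S} {e : Fin 4 → S} {e' : Fin 4 → R}, (∀ i, (e i : R) = e' i) → Orth x e →
      Orth (x : R) e' := fun {x e e'} he o => by
    obtain rfl : e' = fun i => (e i : R) := funext fun i => (he i).symm
    exact ⟨fun i j ij => congrArg Subtype.val (o.1 i j ij), congrArg Subtype.val o.2.1,
      congrArg Subtype.val o.2.2.1, fun i => congrArg Subtype.val (o.2.2.2 i)⟩
  exact ⟨k (fun i => by fin_cases i <;> rfl) this.1, k (fun i => by fin_cases i <;> rfl) this.2.1,
    congrArg Subtype.val this.2.2⟩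

section semi
variable {R : Type*} [Ring R] {s a b c a' b' c' : R}

theorem semi_pp (h : SemiconjBy s a a') : SemiconjBy s (pp a) (pp a') := h.add_right (h.mul_right h)

theorem semi_qq (h : SemiconjBy s a a') : SemiconjBy s (qq a) (qq a') :=
  ((SemiconjBy.one_right s).add_right h).add_right (h.mul_right h)

theorem semi_e3 (h : SemiconjBy s a a') (k : SemiconjBy s b b') (l : SemiconjBy s c c') :
    SemiconjBy s (e3 a b c) (e3 a' b' c') :=
  ((semi_qq (h.mul_right k)).mul_right (semi_qq (h.mul_right l))).mul_right (semi_pp h)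

theorem semi_f3 (h : SemiconjBy s a a') (k : SemiconjBy s b b') (l : SemiconjBy s c c') :
    SemiconjBy s (f3 a b c) (f3 a' b' c') :=
  ((semi_qq (h.mul_right k)).mul_right (semi_pp h)).mul_right (semi_qq l)

end semi

section mod
variable {W : Type*} [AddCommGroup W]

/-- the `F₄`-line spanned by `w` -/
def gam (x : AddMonoid.End W) (w : W) (i : Bool × Bool) : W :=
  (if i.1 then w else 0) + if i.2 then x w else 0

theorem app_eq {x y : AddMonoid.End W} (e : x = y) (w : W) : x w = y w := by rw [e]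

theorem pp_apply (x : AddMonoid.End W) (w : W) : pp x w = x w + x (x w) := rfl

theorem ne_of_cube {x : AddMonoid.End W} (x3 : x * x * x = 1) {w : W} (w0 : w ≠ 0) : x w ≠ 0 :=
  fun e => w0 (by simpa [e] using (app_eq x3 w).symm)

theorem gam_inj (h2 : ∀ w : W, w + w = 0) {x : AddMonoid.End W} (x3 : x * x * x = 1) {w : W}
    (w0 : w ≠ 0) (hp : pp x w = w) : Function.Injective (gam x w) := by
  have n1 := ne_of_cube x3 w0
  have n2 : x w ≠ w := fun e => w0 (by simpa [pp_apply, e, h2] using hp.symm)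
  have n3 : w + x w ≠ 0 := fun e => n2 (add_left_cancel (e.trans (h2 w).symm))
  rintro ⟨_ | _, _ | _⟩ ⟨_ | _, _ | _⟩ e <;> simp [gam, w0, n1, n2, n3, w0.symm, n1.symm, n2.symm,
    n3.symm] at e ⊢

theorem gam_map {x e : AddMonoid.End W} (c : e * x = x * e) (w : W) (i : Bool × Bool) :
    e (gam x w i) = gam x (e w) i := by
  have : e (x w) = x (e w) := app_eq c w
  rcases i with ⟨_ | _, _ | _⟩ <;> simp [gam, this]

theorem gam_zero (x : AddMonoid.End W) (i : Bool × Bool) : gam x 0 i = 0 := by simp [gam]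

theorem sum_inj (h2 : ∀ w : W, w + w = 0) {k : ℕ} {x e : Fin k → AddMonoid.End W} {w : Fin k → W}
    (x3 : ∀ i, x i * x i * x i = 1) (c : ∀ i j, e i * x j = x j * e i) (w0 : ∀ i, w i ≠ 0)
    (hp : ∀ i, pp (x i) (w i) = w i) (h1 : ∀ i, e i (w i) = w i) (h0 : ∀ i j, i ≠ j → e i (w j) = 0) :
    Function.Injective fun f : Fin k → Bool × Bool => ∑ i, gam (x i) (w i) (f i) := by
  have k : ∀ i (f : Fin k → Bool × Bool), e i (∑ j, gam (x j) (w j) (f j)) = gam (x i) (w i) (f i) :=
    fun i f => by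
      rw [map_sum, Finset.sum_eq_single i, gam_map (c i i), h1]
      · intro j _ ij
        rw [gam_map (c i j), h0 i j ij.symm, gam_zero]
      · simp
  intro f g e'
  funext i
  refine gam_inj h2 (x3 i) (w0 i) (hp i) ?_
  rw [← k, ← k]
  exact congrArg _ e'

variable [Finite W]

theorem orth_zero (h2 : ∀ w : W, w + w = 0) (hc : Nat.card W = 64) {a : AddMonoid.End W}
    (a3 : a * a * a = 1) {e g : Fin 4 → AddMonoid.End W} (o : Orth a e)
    (inj : ∀ i w, g i w = 0 → w = 0) (s1 : ∀ i, SemiconjBy (g i) (e 0) (e i))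
    (s2 : ∀ i, SemiconjBy (g i) a a) (i : Fin 4) : e i = 0 := by
  have e0 : e 0 = 0 := by
    ext u
    by_contra u0
    have h1 : ∀ i, e i (g i (e 0 u)) = g i (e 0 u) := fun i =>
      (app_eq (s1 i) _).symm.trans (congrArg (g i) (app_eq o.2.1 u))
    have := Nat.card_le_card_of_injective _ (sum_inj h2 (x := fun _ => a) (e := e)
      (w := fun i => g i (e 0 u)) (fun _ => a3) (fun i _ => o.2.2.2 i) (fun i e => u0 (inj i _ e))
      (fun i => (app_eq (semi_pp (s2 i)) _).symm.trans (congrArg (g i) (app_eq o.2.2.1 u))) h1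
      fun i j ij => by rw [← h1 j]; exact app_eq (o.1 i j ij) _)
    simp [hc] at this
  ext u
  obtain ⟨v, rfl⟩ := Finite.surjective_of_injective ((injective_iff_map_eq_zero (g i)).2 (inj i)) u
  exact (app_eq (s1 i) v).symm.trans (by simp [e0])

omit [Finite W] in
theorem fix_of_gam (h2 : ∀ w : W, w + w = 0) {x d : AddMonoid.End W} (x3 : x * x * x = 1)
    (dd : d * d = 1) (c : d * x = x * d) {w : W} (w0 : w ≠ 0) (hp : pp x w = w) {i : Bool × Bool}
    (e : d w = gam x w i) : d w = w := by
  have e1 : d (d w) = w := app_eq dd w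
  have e2 : d (x w) = x (d w) := app_eq c w
  have e3 : x w + x (x w) = w := hp
  have n1 := ne_of_cube x3 w0
  rcases i with ⟨_ | _, _ | _⟩ <;> simp only [gam, Bool.false_eq_true, if_true, if_false, add_zero,
    zero_add] at e
  · exact absurd (by simpa [e] using e1.symm) w0
  · rw [e, e2, e] at e1
    exact absurd (by simpa [e1] using e3) n1
  · exact e
  · rw [e, map_add, e2, e, map_add, add_assoc, ← add_assoc (x w), h2, zero_add] at e1
    exact absurd (by simpa using e1) (ne_of_cube x3 n1)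

theorem core3 (h2 : ∀ w : W, w + w = 0) (hc : Nat.card W = 64) {a b c d s t : AddMonoid.End W}
    (a3 : a * a * a = 1) (b3 : b * b * b = 1) (c3 : c * c * c = 1) (ab : SemiconjBy a b b)
    (ac : SemiconjBy a c c) (bc : SemiconjBy b c c) (pab : pp a * pp b = 0) (pba : pp b * pp a = 0)
    (pac : pp a * pp c = 0) (pca : pp c * pp a = 0) (pbc : pp b * pp c = 0) (pcb : pp c * pp b = 0)
    (dd : d * d = 1) (da : SemiconjBy d a (a * a)) (db : SemiconjBy d b b) (dc : SemiconjBy d c c)
    (a1 : a ≠ 1) (sab : SemiconjBy s a b) (sac : SemiconjBy t a c) (r1 : ∀ w, s w = 0 → w = 0)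
    (r2 : ∀ w, t w = 0 → w = 0) : (∃ w ≠ 0, ∀ u, d u = u ∨ d u = u + w) ∧
      ∀ u, pp a u = 0 → pp b u = 0 → pp c u = 0 → u = 0 := by
  have a3' : ∀ u, a (a (a u)) = u := app_eq a3
  have da' : ∀ u, d (a u) = a (a (d u)) := app_eq da
  have dp : ∀ u, d (pp a u) = pp a (d u) := fun u => by
    simp only [pp_apply, map_add, da', a3', add_comm]
  obtain ⟨w, w0, hp, hd⟩ : ∃ w ≠ 0, pp a w = w ∧ d w = w := by
    obtain ⟨u, hu⟩ : ∃ u, pp a u ≠ 0 := by
      by_contra! e
      refine a1 (AddMonoidHom.ext fun u => ?_)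
      have := e (a (a u))
      simp only [pp_apply, a3'] at this
      exact add_left_cancel (this.trans (h2 u).symm)
    have e : pp a (pp a u) = pp a u := by
      simp only [pp_apply, map_add, a3']
      rw [add_assoc, ← add_assoc u, h2, zero_add, add_comm]
    generalize pp a u = v at *
    by_cases k : d v = v
    · exact ⟨v, hu, e, k⟩
    · exact ⟨v + d v, fun q => k (add_left_cancel (q.trans (h2 v).symm)), by
        rw [map_add, ← dp, e], by rw [map_add, show d (d v) = v from app_eq dd v, add_comm]⟩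
  have hb : pp b (s w) = s w := (app_eq (semi_pp sab) w).symm.trans (congrArg s hp)
  have hc' : pp c (t w) = t w := (app_eq (semi_pp sac) w).symm.trans (congrArg t hp)
  have s0 : s w ≠ 0 := fun e => w0 (r1 w e)
  have t0 : t w ≠ 0 := fun e => w0 (r2 w e)
  generalize s w = w' at *
  generalize t w = w'' at *
  have z : ∀ {x y : AddMonoid.End W} {u : W}, pp x * pp y = 0 → pp y u = u → pp x u = 0 :=
    fun {x y u} e k => k ▸ app_eq e u
  have cm : ∀ {x y : AddMonoid.End W}, SemiconjBy x y y → pp x * y = y * pp x ∧ pp y * x = x * pp y :=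
    fun {x y} e => ⟨(semi_pp (Commute.symm e)).symm, (semi_pp e).symm⟩
  have I := sum_inj h2 (x := ![a, b, c]) (e := ![pp a, pp b, pp c]) (w := ![w, w', w''])
    (fun i => by fin_cases i <;> assumption) (fun i j => by
      fin_cases i <;> fin_cases j
      exacts [(cm (Commute.refl a)).1, (cm ab).1, (cm ac).1, (cm ab).2, (cm (Commute.refl b)).1,
        (cm bc).1, (cm ac).2, (cm bc).2, (cm (Commute.refl c)).1])
    (fun i => by fin_cases i <;> assumption) (fun i => by fin_cases i <;> assumption)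
    (fun i => by fin_cases i <;> assumption) fun i j ij => by
      fin_cases i <;> fin_cases j
      exacts [absurd rfl ij, z pab hb, z pac hc', z pba hp, absurd rfl ij, z pbc hc', z pca hp,
        z pcb hb, absurd rfl ij]
  have S : ∀ u, ∃ i j k, u = gam a w i + gam b w' j + gam c w'' k := fun u => by
    obtain ⟨f, hf⟩ := (I.bijective_of_nat_card_le (by simp [hc])).2 u
    exact ⟨f 0, f 1, f 2, by simpa [Fin.sum_univ_three] using hf.symm⟩
  have pa : ∀ i j k, pp a (gam a w i + gam b w' j + gam c w'' k) = gam a w i := fun i j k => by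
    simp [gam_map (cm (Commute.refl a)).1, gam_map (cm ab).1, gam_map (cm ac).1, hp, z pab hb,
      z pac hc', gam_zero]
  have pb : ∀ i j k, pp b (gam a w i + gam b w' j + gam c w'' k) = gam b w' j := fun i j k => by
    simp [gam_map (cm (Commute.refl b)).1, gam_map (cm ab).2, gam_map (cm bc).1, hb, z pba hp,
      z pbc hc', gam_zero]
  have pc : ∀ i j k, pp c (gam a w i + gam b w' j + gam c w'' k) = gam c w'' k := fun i j k => by
    simp [gam_map (cm (Commute.refl c)).1, gam_map (cm ac).2, gam_map (cm bc).2, hc', z pca hp,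
      z pcb hb, gam_zero]
  have d1 : d w' = w' := by
    obtain ⟨i, j, k, e⟩ := S (d w')
    refine fix_of_gam h2 b3 dd db s0 hb (i := j) ?_
    rw [← pb i j k, ← e]
    exact (congrArg d hb).symm.trans (app_eq (semi_pp db) w')
  have d2 : d w'' = w'' := by
    obtain ⟨i, j, k, e⟩ := S (d w'')
    refine fix_of_gam h2 c3 dd dc t0 hc' (i := k) ?_
    rw [← pc i j k, ← e]
    exact (congrArg d hc').symm.trans (app_eq (semi_pp dc) w'')
  refine ⟨⟨w, w0, fun u => ?_⟩, fun u h1 h2 h3 => ?_⟩
  · obtain ⟨i, j, k, rfl⟩ := S u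
    rw [map_add, map_add, gam_map db, gam_map dc, d1, d2]
    have e : d (a w) = a w + w := by
      rw [da', hd]; nth_rw 3 [← hp]; rw [pp_apply, ← add_assoc, h2, zero_add]
    rcases i with ⟨_ | _, _ | _⟩ <;> simp only [gam, Bool.false_eq_true, if_true, if_false, map_add,
      map_zero, hd, e]
    · simp
    · right; abel
    · simp
    · right; abel
  · obtain ⟨i, j, k, rfl⟩ := S u
    rw [pa] at h1
    rw [pb] at h2
    rw [pc] at h3
    simp [h1, h2, h3]

end mod

/-- transvections by number -/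
noncomputable def xT (u : ℕ) : S62 := tv (vc u) 1

def actT (l : List ℕ) (u : ℕ) : ℕ := l.foldr opn u

theorem evT_smul (l : List ℕ) (hl : ∀ v ∈ l, v < 64) (u : ℕ) (hu : u < 64) :
    BN.ev xT l • vc u = vc (actT l u) ∧ actT l u < 64 := by
  induction l with
  | nil => exact ⟨one_smul _ _, hu⟩
  | cons k l ih =>
    have := ih fun v hv => hl v (List.mem_cons_of_mem _ hv)
    rw [BN.ev_cons, mul_smul, this.1, xT, tv_smul, one_mul]; erw [opv_eq]
    exact (by decide +kernel : ∀ k < 64, ∀ u < 64, opv (vc k) (vc u) = vc (opn k u) ∧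
      opn k u < 64) k (hl k List.mem_cons_self) _ this.2

theorem evT_eq (l m : List ℕ) (h : (∀ v ∈ l, v < 64) ∧ (∀ v ∈ m, v < 64) ∧
    ∀ u < 64, actT l u = actT m u) : BN.ev xT l = BN.ev xT m := ext_smul fun v => by
  obtain ⟨u, hu, rfl⟩ := vc_surj v
  rw [(evT_smul l h.1 u hu).1, (evT_smul m h.2.1 u hu).1, h.2.2 u hu]

section nat
variable {W : Type*} [AddCommGroup W] [Finite W] (h2 : ∀ w : W, w + w = 0) (hc : Nat.card W = 64)
  (ρ : S62 →* AddMonoid.End W) (inj : ∀ g, ρ g = 1 → g = 1)
include h2 hc inj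

theorem transv : (∃ w ≠ 0, ∀ u, ρ (xT 1) u = u ∨ ρ (xT 1) u = u + w) ∧
    ∀ u, (∀ g, ρ g u = u) → u = 0 := by
  obtain ⟨r, hr⟩ : ∃ r : List ℕ → AddMonoid.End W, ∀ l, r l = ρ (BN.ev xT l) := ⟨_, fun _ => rfl⟩
  have mul : ∀ l m, r l * r m = r (l ++ m) := fun l m => by rw [hr, hr, hr, BN.ev_append, map_mul]
  have one : 1 = r [] := by rw [hr]; exact (map_one ρ).symm
  have eq : ∀ l m, (∀ v ∈ l, v < 64) ∧ (∀ v ∈ m, v < 64) ∧ (∀ u < 64, actT l u = actT m u) →
      r l = r m := fun l m h => by rw [hr, hr, evT_eq l m h]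
  have sc : ∀ l m n, (∀ v ∈ l ++ m, v < 64) ∧ (∀ v ∈ n ++ l, v < 64) ∧
      (∀ u < 64, actT (l ++ m) u = actT (n ++ l) u) → SemiconjBy (r l) (r m) (r n) :=
    fun l m n h => by rw [SemiconjBy, mul, mul, eq _ _ h]
  have cube : ∀ l, (∀ v ∈ l ++ l ++ l, v < 64) ∧ (∀ v ∈ ([] : List ℕ), v < 64) ∧
      (∀ u < 64, actT (l ++ l ++ l) u = actT [] u) → r l * r l * r l = 1 := fun l h => by
    rw [mul, mul, one, eq _ _ h]
  have ri : ∀ l w, r l w = 0 → w = 0 := fun l w e => by
    have := app_eq (show ρ (BN.ev xT l)⁻¹ * r l = 1 by rw [hr, ← map_mul, inv_mul_cancel, map_one]) w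
    simpa [e] using this.symm
  have a3 := cube [1, 8] (by decide +kernel)
  have b3 := cube [2, 16] (by decide +kernel)
  have c3 := cube [4, 32] (by decide +kernel)
  have ab := sc [1, 8] [2, 16] [2, 16] (by decide +kernel)
  have ac := sc [1, 8] [4, 32] [4, 32] (by decide +kernel)
  have bc := sc [2, 16] [4, 32] [4, 32] (by decide +kernel)
  have two : (2 : AddMonoid.End W) = 0 := by
    ext w; rw [← one_add_one_eq_two]; exact h2 w
  obtain ⟨o1, o2, o3⟩ := ids two a3 b3 c3 ab ac bc
  have z1 := orth_zero h2 hc a3 (g := ![r [], r [2], r [4], r [2, 4]]) o1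
    (fun i => by fin_cases i <;> exact ri _) (fun i => by
      fin_cases i <;> refine semi_e3 ?_ ?_ ?_ <;> simp only [mul] <;> exact sc _ _ _ (by decide +kernel))
    (fun i => by fin_cases i <;> exact sc _ _ _ (by decide +kernel))
  have z2 := orth_zero h2 hc a3 (g := ![r [], r [2], r [6, 48, 54], r [4, 6, 48, 54]]) o2
    (fun i => by fin_cases i <;> exact ri _) (fun i => by
      fin_cases i <;> refine semi_f3 ?_ ?_ ?_ <;> simp only [mul] <;> exact sc _ _ _ (by decide +kernel))
    (fun i => by fin_cases i <;> exact sc _ _ _ (by decide +kernel))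
  simp only [z1, z2, add_zero] at o3
  have tr : ∀ {l m n m' n'}, SemiconjBy (r l) (r m) (r m') → SemiconjBy (r l) (r n) (r n') →
      pp (r m') * pp (r n') = 0 → pp (r m) * pp (r n) = 0 := fun {l m n m' n'} a b e => by
    ext u
    exact ri l _ ((app_eq ((semi_pp a).mul_right (semi_pp b)) u).trans (by simp [e]))
  have sab := sc [3, 24, 27] [1, 8] [2, 16] (by decide +kernel)
  have sac := sc [5, 40, 45] [1, 8] [4, 32] (by decide +kernel)
  have pba := tr (sc [3, 24, 27] [2, 16] [1, 8] (by decide +kernel)) sab o3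
  have pac := tr (sc [6, 48, 54] [1, 8] [1, 8] (by decide +kernel))
    (sc [6, 48, 54] [4, 32] [2, 16] (by decide +kernel)) o3
  have pca := tr (sc [5, 40, 45] [4, 32] [1, 8] (by decide +kernel)) sac pac
  have pbc := tr (sc [3, 24, 27] [2, 16] [1, 8] (by decide +kernel))
    (sc [3, 24, 27] [4, 32] [4, 32] (by decide +kernel)) pac
  have pcb := tr (sc [5, 40, 45] [4, 32] [1, 8] (by decide +kernel))
    (sc [5, 40, 45] [2, 16] [2, 16] (by decide +kernel)) o3
  have dd : r [1] * r [1] = 1 := by rw [mul, one]; exact eq _ _ (by decide +kernel)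
  have da : SemiconjBy (r [1]) (r [1, 8]) (r [1, 8] * r [1, 8]) := by
    rw [mul]; exact sc _ _ _ (by decide +kernel)
  have db := sc [1] [2, 16] [2, 16] (by decide +kernel)
  have dc := sc [1] [4, 32] [4, 32] (by decide +kernel)
  have a1 : r [1, 8] ≠ 1 := fun e => by
    have := (evT_smul [1, 8] (by decide) 1 (by decide)).1
    rw [inj _ ((hr _).symm.trans e), one_smul] at this
    exact absurd this (by decide +kernel)
  have ra : r [1] = ρ (xT 1) := by rw [hr]; simp
  have fx : ∀ u, (∀ g, ρ g u = u) → ∀ l, pp (r l) u = 0 := fun u hu l => by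
    simp [pp_apply, hr, hu, h2]
  have := core3 h2 hc a3 b3 c3 ab ac bc o3 pba pac pca pbc pcb dd da db dc a1 sab sac (ri _) (ri _)
  exact ⟨ra ▸ this.1, fun u hu => this.2 u (fx u hu _) (fx u hu _) (fx u hu _)⟩

theorem natural : ∃ β : (Fin 3 ⊕ Fin 3 → ZMod 2) ≃+ W, ∀ (g : S62) v, ρ g (β v) = β (g • v) := by
  obtain ⟨⟨w, w0, hw⟩, fx⟩ := transv h2 hc ρ inj
  have ri : ∀ g u, ρ g u = 0 → u = 0 := fun g u e => by
    have := app_eq (show ρ g⁻¹ * ρ g = 1 by rw [← map_mul, inv_mul_cancel, map_one]) u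
    simpa [e] using this.symm
  have ap : ∀ g k u, ρ (g * k) u = ρ g (ρ k u) := fun g k u => by rw [map_mul]; rfl
  have cj : ∀ g v x, (∀ u, ρ (tv v 1) u = u ∨ ρ (tv v 1) u = u + x) →
      ∀ u, ρ (tv (g • v) 1) u = u ∨ ρ (tv (g • v) 1) u = u + ρ g x := fun g v x e u => by
    have e1 : ρ g (ρ g⁻¹ u) = u := by rw [← ap, mul_inv_cancel, map_one]; rfl
    rw [← conj_tv, ap, ap]
    rcases e (ρ g⁻¹ u) with d | d <;> rw [d]
    exacts [Or.inl e1, Or.inr (by rw [map_add, e1])]
  have z2 : ∀ a : ZMod 2, a = 0 ∨ a = 1 := by decide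
  have vv : ∀ v : Fin 3 ⊕ Fin 3 → ZMod 2, v + v = 0 := fun v => funext fun i =>
    CharTwo.add_self_eq_zero _
  have ti : ∀ u v : Fin 3 ⊕ Fin 3 → ZMod 2, sympForm 3 (ZMod 2) u v = 1 → tv v 1 • u = u + v :=
    fun u v e => by rw [tv_smul, e]; simp
  have t1 : ∀ v ≠ 0, ∃ u, ρ (tv v 1) u ≠ u := fun v v0 => by
    by_contra! e
    refine v0 (eq_zero_of_form_right fun u => (z2 _).resolve_right fun d => v0 ?_)
    simpa [inj _ (AddMonoidHom.ext e)] using ti u v d
  have ex : ∀ v, ∃ x, (x = 0 ↔ v = 0) ∧ ∀ u, ρ (tv v 1) u = u ∨ ρ (tv v 1) u = u + x := fun v => by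
    by_cases v0 : v = 0
    · exact ⟨0, by simp [v0], fun u => Or.inl (by rw [v0, tv_zero_vec, map_one]; rfl)⟩
    obtain ⟨g, rfl⟩ := exists_smul_eq (u := vc 1) (by decide +kernel) v0
    exact ⟨ρ g w, ⟨fun e => absurd (ri g w e) w0, fun e => absurd e v0⟩, cj g _ w hw⟩
  choose β b0 b1 using ex
  have eqv : ∀ (g : S62) v, ρ g (β v) = β (g • v) := fun g v => by
    by_cases v0 : v = 0
    · rw [v0, smul_zero, (b0 0).2 rfl, map_zero]
    obtain ⟨u, hu⟩ := t1 (g • v) fun e => v0 (by simpa using congrArg (g⁻¹ • ·) e)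
    exact add_left_cancel (((cj g v _ (b1 v) u).resolve_left hu).symm.trans
      ((b1 _ u).resolve_left hu))
  have fb : ∀ v, ρ (tv v 1) (β v) = β v := fun v => by
    rw [eqv, tv_smul_of_orth _ (form_self v)]
  have ne : ∀ u v, sympForm 3 (ZMod 2) u v = 1 → β u ≠ β v := fun u v e d => by
    have c : tv v 1 * tv u 1 = tv u 1 * tv v 1 := by
      rw [← mul_inv_eq_one]
      refine inj _ ?_
      rw [map_mul, show ρ (tv v 1 * tv u 1) = ρ (tv u 1 * tv v 1) from AddMonoidHom.ext fun x => ?_,
        ← map_mul, mul_inv_cancel, map_one]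
      have f1 := fb u
      have f2 := fb v
      rw [d] at f1
      change ρ (tv v 1 * tv u 1) x = ρ (tv u 1 * tv v 1) x
      rw [ap, ap]
      rcases b1 u x with p | p <;> rcases b1 v x with q | q <;> simp [p, q, f1, f2, d]
    have := congrArg (· • u) c
    simp only [mul_smul, tv_smul_of_orth _ (form_self u), ti u v e, smul_add,
      ti v u (by rw [form_skew, e]; rfl)] at this
    have u0 : u = 0 := by simpa using this
    simp [u0, form_zero_left] at e
  have act : ∀ t x, β (tv t 1 • x) = β x + (sympForm 3 (ZMod 2) x t).val • β t := fun t x => by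
    rcases z2 (sympForm 3 (ZMod 2) x t) with e | e
    · rw [tv_smul_of_orth _ e, e]; simp
    · rw [e, ← eqv, show (1 : ZMod 2).val = 1 from rfl, one_smul]
      refine (b1 t (β x)).resolve_left fun d => ne (x + t) x ?_ (by rw [← ti x t e, ← eqv, d])
      rw [form_add_left, form_self, form_skew, e]; rfl
  have add : ∀ u v, β (u + v) = β u + β v := fun u v => by
    have := fx (β (u + v) + (β u + β v)) fun g => by
      have k : ∀ t, ρ (tv t 1) (β (u + v) + (β u + β v)) = β (u + v) + (β u + β v) := fun t => by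
        have := h2 (β t)
        simp only [map_add, eqv, act, form_add_left]
        rcases z2 (sympForm 3 (ZMod 2) u t) with e | e <;>
          rcases z2 (sympForm 3 (ZMod 2) v t) with e' | e' <;> rw [e, e'] <;>
          simp only [show (1 : ZMod 2) + 1 = 0 from rfl, add_zero, zero_add, ZMod.val_zero, zero_smul,
            show (1 : ZMod 2).val = 1 from rfl, one_smul]
        all_goals rw [← add_zero (β (u + v) + (β u + β v)), ← this]; abel
      generalize β (u + v) + (β u + β v) = y at k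
      let H : Subgroup S62 := {
        carrier := {g | ρ g y = y}
        one_mem' := app_eq (map_one ρ) y
        mul_mem' := fun {a b} (p : ρ a y = y) (q : ρ b y = y) => (ap a b y).trans (by rw [q, p])
        inv_mem' := fun {a} (p : ρ a y = y) => show ρ a⁻¹ y = y by
          conv_lhs => rw [← p, ← ap, inv_mul_cancel, map_one]
          rfl }
      exact (eq_top_of_tv_mem (H := H) fun t c => by
        rcases z2 c with rfl | rfl
        exacts [tv_zero t ▸ one_mem H, k t]).ge (Subgroup.mem_top g)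
    exact add_left_cancel (a := β (u + v)) ((h2 _).trans this.symm)
  let B := AddMonoidHom.mk' β add
  have bi : Function.Bijective B := Function.Injective.bijective_of_nat_card_le
    ((injective_iff_map_eq_zero B).2 fun v e => (b0 v).1 e) (by simp [hc])
  exact ⟨AddEquiv.ofBijective B bi, eqv⟩

end nat

end Cfsg.Agent.F6.NatM
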