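import Mathlib
import Cfsg.Agent.F6.Mod
import Cfsg.Agent.F6.NatA
import Cfsg.Agent.Loc3.Tools5
import Cfsg.Agent.Class.FieldTransport

/-! From the hypotheses of the statement to the frame `St` . -/

set_option autoImplicit false

namespace Cfsg.Agent.F6

open Subgroup Cfsg.Agent.Class TT TT.UQ U6R ZJ Cfsg.Agent.PLocal.Amb

open Cfsg.Agent.Loc3 Cfsg.Agent.Loc3.Pr

/-- coordinates over the prime field -/
def kap : V6 ≃+ (Fin 3 ⊕ Fin 3 → ZMod 2) where
  toFun x := Sum.elim (fun i => (x i).re) fun i => (x i).im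
  invFun v i := ⟨v (.inl i), v (.inr i)⟩
  left_inv _ := rfl
  right_inv v := by funext i; rcases i with i | i <;> rfl
  map_add' x y := by funext i; rcases i with i | i <;> rfl

theorem f6_kap (x y : V6) : f6 x y = ⟨sympForm 3 (ZMod 2) (kap x) (kap y), 0⟩ := by
  have h : ∀ a b : GF4, a * b ^ 2 + a ^ 2 * b = ⟨a.im * b.re - a.re * b.im, 0⟩ := by decide
  rw [f6, h, h, h, Sp.form_eq, Fin.sum_univ_three]
  ext
  exacts [rfl, by simp]

/-- the linear action on `V6` -/
noncomputable def lin62 : S62 →* P6 :=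
  (kap.toEquiv.symm.permCongrHom.toMonoidHom).comp (MulAction.toPermHom S62 _)

theorem lin62_apply (g : S62) (x : V6) : lin62 g x = kap.symm (g • kap x) := rfl

theorem lin62_add (g : S62) (x y : V6) : lin62 g (x + y) = lin62 g x + lin62 g y := by
  simp only [lin62_apply, map_add, smul_add]

theorem lin62_zero (g : S62) : lin62 g 0 = 0 := by simp [lin62_apply]

theorem lin62_tv (v : V6) : lin62 (Sp.tv (kap v) 1) = rv v := Equiv.ext fun x => by
  rw [lin62_apply, rv_apply, Sp.tv_smul, one_mul, f6_kap, map_add, kap.symm_apply_apply]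
  rcases (by decide : ∀ a : ZMod 2, a = 0 ∨ a = 1) (sympForm 3 (ZMod 2) (kap x) (kap v)) with e | e <;>
    rw [e]
  · rw [zero_smul, map_zero]; exact congrArg _ (zero_smul GF4 v).symm
  · rw [one_smul, kap.symm_apply_apply]; exact congrArg _ (one_smul GF4 v).symm

theorem isAS_aff (x : V6) (g : S62) : IsAS (tr x * lin62 g) := by
  have e : ∀ y, (tr x * lin62 g) y + (tr x * lin62 g) 0 = lin62 g y := fun y => by
    change lin62 g y + x + (lin62 g 0 + x) = _
    rw [lin62_zero, zero_add, add_assoc, v6_add_self, add_zero]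
  refine ⟨fun y z => ?_, fun y z => ?_⟩
  · rw [add_assoc, e]
    change lin62 g (y + z) + x = lin62 g y + x + _
    rw [lin62_add]; abel
  · rw [e, e, f6_kap, f6_kap, lin62_apply, lin62_apply, kap.apply_symm_apply, kap.apply_symm_apply,
      Sp.form_smul_smul]

theorem exists_alpha {G : Type*} [Group G] [Finite G] {A : Subgroup G}
    (hA : IsElementaryAbelian 2 A) (hA64 : Nat.card A = 64) {π : G → S62} (q : PH 𝐍[A] 𝐂[A] π) :
    ∃ α : V6 → G, (∀ x y, α (x + y) = α x * α y) ∧ Function.Injective α ∧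
      (∀ g, g ∈ A ↔ ∃ x, α x = g) ∧ ∀ g ∈ 𝐍[A], ∀ x, g * α x * g⁻¹ = α (lin62 (π g) x) := by
  let _ : CommGroup A := { (inferInstance : Group A) with mul_comm := hA.1.1.1 }
  let F : MulAut A →* AddMonoid.End (Additive A) :=
    ⟨⟨fun g => MonoidHom.toAdditive g.toMonoidHom, rfl⟩, fun _ _ => rfl⟩
  have hF : ∀ (g : 𝐍[A]) (a : Additive A),
      ((F (A.normalizerMonoidHom g) a).toMul : G) = g * a.toMul * (g : G)⁻¹ := fun g a => rfl
  obtain ⟨ρ, hρ⟩ := q.exists_hom A.normalizerMonoidHom fun g hg => MulEquiv.ext fun a =>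
    Subtype.ext (conj_of_comm (mem_centralizer_iff.1 hg _ a.2).symm)
  obtain ⟨β, hβ⟩ := NatM.natural (W := Additive A) (fun w => Additive.toMul.injective
    (Subtype.ext (by simpa [pow_two] using hA.2 _ w.toMul.2))) hA64 (F.comp ρ) fun s hs => by
      obtain ⟨g, hg, rfl⟩ := q.surj s
      refine q.of_mem (mem_centralizer_iff.2 fun a ha => (comm_of_conj ?_).symm)
      refine (hF ⟨g, hg⟩ (Additive.ofMul ⟨a, ha⟩)).symm.trans ?_
      rw [← hρ ⟨g, hg⟩, ← MonoidHom.comp_apply, hs]; rfl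
  refine ⟨fun x => (β (kap x)).toMul, fun x y => by simp, fun x y e => kap.injective (β.injective
    (Additive.toMul.injective (Subtype.ext e))), fun g => ⟨fun hg =>
      ⟨kap.symm (β.symm (Additive.ofMul ⟨g, hg⟩)), by simp⟩, fun ⟨x, e⟩ => e ▸ Subtype.prop _⟩,
    fun g hg x => ?_⟩
  rw [← hF ⟨g, hg⟩, ← hρ ⟨g, hg⟩, ← MonoidHom.comp_apply, hβ, lin62_apply]
  simp

/-- From the hypotheses of the statement to the frame `St`. -/
theorem exists_St {G : Type*} [Group G] [Finite G] {F : Type*} [Field F] [Fintype F]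
    (hF : Fintype.card F = 2) (A : Subgroup G) (hA : IsElementaryAbelian 2 A)
    (hA64 : Nat.card A = 64)
    (hC : IsInternalDirectProduct ((oddCore ↥(normalizer (A : Set G))).map
      (normalizer (A : Set G)).subtype) A (centralizer (A : Set G)))
    [hn : ((centralizer (A : Set G)).subgroupOf (normalizer (A : Set G))).Normal]
    (e : (↥(normalizer (A : Set G)) ⧸ (centralizer (A : Set G)).subgroupOf (normalizer (A : Set G)))
      ≃* PSp 3 F)
    (hsplit : ∃ K : Subgroup G, K ≤ normalizer (A : Set G) ∧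
      K ⊔ ((oddCore ↥(normalizer (A : Set G))).map (normalizer (A : Set G)).subtype ⊔ A) =
        normalizer (A : Set G) ∧
      K ⊓ ((oddCore ↥(normalizer (A : Set G))).map (normalizer (A : Set G)).subtype ⊔ A) =
        (oddCore ↥(normalizer (A : Set G))).map (normalizer (A : Set G)).subtype) :
    ∃ α ϖ, St A α ϖ := by
  classical
  obtain ⟨π, q⟩ := PH.of_equiv (centralizer_le_normalizer' A) (e.trans
    ((pspCongr 3 (FiniteField.ringEquivOfCardEq (K' := ZMod 2) (by simpa using hF))).trans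
      ((QuotientGroup.quotientMulEquivOfEq (TT.spD_model 3).2.2).trans QuotientGroup.quotientBot)))
  obtain ⟨α, add, inj, mem, act⟩ := exists_alpha hA hA64 q
  obtain ⟨K, KN, h1, h2⟩ := hsplit
  have odd : ∀ g ∈ (oddCore ↥(normalizer (A : Set G))).map (normalizer (A : Set G)).subtype,
      Odd (orderOf g) := fun g hg =>
    (Nat.coprime_two_right.1 (coprime_Op' 2 𝐍[A])).of_dvd_nat (orderOf_dvd_natCard _ hg)
  generalize (oddCore ↥(normalizer (A : Set G))).map (normalizer (A : Set G)).subtype = O at *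
  have mA : ∀ x, α x ∈ A := fun x => (mem _).2 ⟨x, rfl⟩
  have mN : ∀ x, α x ∈ 𝐍[A] := fun x => le_normalizer (mA x)
  have a0 : α 0 = 1 := by simpa using add 0 0
  have pA : ∀ x, π (α x) = 1 := fun x => q.of_mem (hC.2.1 (mA x))
  have ai : ∀ x, (α x)⁻¹ = α x := fun x => inv_eq_of_mul_eq_one_right (by rw [← add, v6_add_self, a0])
  have uq : ∀ x, α x ∈ K → x = 0 := fun x hx => inj (by
    rw [a0, ← mem_bot, ← hC.2.2.2.1]
    exact ⟨h2.le ⟨hx, mem_sup_right (mA x)⟩, mA x⟩)
  have ex : ∀ g, ∃ x, g ∈ 𝐍[A] → α x * g ∈ K := fun g => by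
    by_cases hg : g ∈ 𝐍[A]
    swap
    · exact ⟨0, fun a => absurd a hg⟩
    rw [← h1, ← sup_assoc, sup_eq_left.2 (h2.ge.trans inf_le_left), sup_comm] at hg
    obtain ⟨a, ha, k, hk, rfl⟩ := (mem_sup_of_le_normalizer_left KN).1 hg
    obtain ⟨x, rfl⟩ := (mem a).1 ha
    exact ⟨x, fun _ => by rwa [← mul_assoc, ← add, v6_add_self, a0, one_mul]⟩
  choose ξ hξ using ex
  have uq' : ∀ g ∈ 𝐍[A], ∀ x, α x * g ∈ K → ξ g = x := fun g hg x hx => by
    have := uq (ξ g + x) (by simpa [add, ai] using mul_mem (hξ g hg) (inv_mem hx))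
    rw [← add_zero (ξ g), ← v6_add_self x, ← add_assoc, this, zero_add]
  have mul : ∀ g ∈ 𝐍[A], ∀ k ∈ 𝐍[A], tr (ξ (g * k)) * lin62 (π (g * k)) =
      tr (ξ g) * lin62 (π g) * (tr (ξ k) * lin62 (π k)) := fun g hg k hk => Equiv.ext fun y => by
    rw [uq' _ (mul_mem hg hk) (ξ g + lin62 (π g) (ξ k)) (by
      rw [add, ← act g hg]
      simpa [mul_assoc] using mul_mem (hξ g hg) (hξ k hk)), q.mul hg hk, map_mul]
    change lin62 (π g) (lin62 (π k) y) + (ξ g + lin62 (π g) (ξ k)) =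
      lin62 (π g) (lin62 (π k) y + ξ k) + ξ g
    rw [lin62_add]; abel
  have tra : ∀ x, tr (ξ (α x)) * lin62 (π (α x)) = tr x := fun x => by
    rw [uq' _ (mN x) x (by rw [← add, v6_add_self, a0]; exact one_mem _), pA, map_one, mul_one]
  have full : ∀ R : Subgroup G, A ≤ R → R ≤ 𝐍[A] → (∀ s, ∃ g ∈ R, π g = s) →
      ∀ σ, IsAS σ → ∃ g ∈ R, tr (ξ g) * lin62 (π g) = σ := fun R AR RN hs σ hσ => by
    let f : 𝐍[A] →* P6 := MonoidHom.mk' (fun g => tr (ξ g) * lin62 (π g)) fun g k => mul g g.2 k k.2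
    have t : ∀ x, tr x ∈ (R.subgroupOf 𝐍[A]).map f := fun x => ⟨⟨α x, mN x⟩, AR (mA x), tra x⟩
    obtain ⟨g, hg, e⟩ := hσ.mem t fun v => by
      obtain ⟨g, hg, e⟩ := hs (Sp.tv (kap v) 1)
      refine (mul_mem_cancel_left (t (ξ g))).1 ⟨⟨g, RN hg⟩, hg, ?_⟩
      rw [← lin62_tv, ← e]; rfl
    exact ⟨g, hg, e⟩
  refine ⟨α, fun g => tr (ξ g) * lin62 (π g), add, inj, mem, mul, fun g _ => isAS_aff _ _,
    fun g hg x => ?_, tra, full _ le_normalizer le_rfl q.surj, fun g hg e => odd g ?_,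
    fun R AR RN hn => ?_⟩
  · rw [act g hg]
    congr 1
    change _ = lin62 (π g) x + ξ g + (lin62 (π g) 0 + ξ g)
    rw [lin62_zero, zero_add, add_assoc, v6_add_self, add_zero]
  · have e0 : ξ g = 0 := by
      have : lin62 (π g) 0 + ξ g = 0 := congrArg (· 0) e
      rwa [lin62_zero, zero_add] at this
    refine h2.le ⟨by simpa [e0, a0] using hξ g hg, hC.2.2.2.2.ge (mem_centralizer_iff.2 fun a ha => ?_)⟩
    obtain ⟨x, rfl⟩ := (mem a).1 ha
    have : lin62 (π g) x + ξ g = x := congrArg (· x) e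
    rw [e0, add_zero] at this
    exact (comm_of_conj (by rw [act g hg, this])).symm
  · have := simple62
    have := normal_subgroupOf' hn
    rcases ((this.map q.hom q.hom_surj).eq_bot_or_eq_top) with e | e
    · refine Or.inl fun g hg => ⟨ξ g, ?_⟩
      rw [show π g = 1 from mem_bot.1 (e.le ⟨⟨g, RN hg⟩, hg, rfl⟩), map_one, mul_one]
    · refine Or.inr (full R AR RN fun s => ?_)
      obtain ⟨g, hg, e⟩ := e.ge (mem_top s)
      exact ⟨g, hg, e⟩

end Cfsg.Agent.F6
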