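import Mathlib
import Cfsg.Agent.F6.Mod

/-! The elementary abelian subgroup of order `512` of `2⁶ : Sp₆(2)` in binary codes. -/

set_option autoImplicit false
set_option synthInstance.maxSize 2048

namespace Cfsg.Agent.F6.One

open Subgroup Cfsg.Agent.Class TT TT.UQ U6R ZJ Finset

/-- A bit as an element of `F₂`. -/
def tz (b : Bool) : ZMod 2 := bif b then 1 else 0

def bt (c i : ℕ) : ZMod 2 := tz (c.testBit i)

theorem bt_xor (a b i : ℕ) : bt (a ^^^ b) i = bt a i + bt b i := by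
  rw [bt, bt, bt, Nat.testBit_xor]
  exact (by decide : ∀ x y, tz (x ^^ y) = tz x + tz y) _ _

theorem bt_zero (i : ℕ) : bt 0 i = 0 := by simp [bt, tz]

theorem two0 (a : ZMod 2) : a + a = 0 := by revert a; decide

theorem ext6 {u v : V6} (h0 : u 0 = v 0) (h1 : u 1 = v 1) (h2 : u 2 = v 2) : u = v := by
  funext i; fin_cases i; exacts [h0, h1, h2]

theorem ext6_iff {u v : V6} : u = v ↔ u 0 = v 0 ∧ u 1 = v 1 ∧ u 2 = v 2 :=
  ⟨fun e => e ▸ ⟨rfl, rfl, rfl⟩, fun e => ext6 e.1 e.2.1 e.2.2⟩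

/-- A row of the symmetric matrix. -/
def sw (c j k l : ℕ) (v : V6) : ZMod 2 := bt c j * (v 0).im + bt c k * (v 1).im + bt c l * (v 2).im

/-- The element with code `c`. -/
def mf (c : ℕ) (v : V6) : V6 :=
  ![⟨(v 0).re + (bt c 0 + sw c 3 6 7 v), (v 0).im⟩, ⟨(v 1).re + (bt c 1 + sw c 6 4 8 v), (v 1).im⟩,
    ⟨(v 2).re + (bt c 2 + sw c 7 8 5 v), (v 2).im⟩]

theorem mf_mf (a b : ℕ) (v : V6) : mf a (mf b v) = mf (a ^^^ b) v := by
  refine ext6 ?_ ?_ ?_ <;> refine QuadraticAlgebra.ext ?_ rfl <;> simp only [mf, sw, bt_xor,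
    Matrix.cons_val_zero, Matrix.cons_val_one, Matrix.cons_val] <;> ring

theorem mf_zero (v : V6) : mf 0 v = v := by
  refine ext6 ?_ ?_ ?_ <;> refine QuadraticAlgebra.ext ?_ rfl <;> simp [mf, sw, bt_zero]

theorem mf_inv (c : ℕ) (v : V6) : mf c (mf c v) = v := by rw [mf_mf, Nat.xor_self, mf_zero]

def md (c : ℕ) : P6 := ⟨mf c, mf c, mf_inv c, mf_inv c⟩

theorem md_apply (c : ℕ) (v : V6) : md c v = mf c v := rfl

theorem md_mul (a b : ℕ) : md a * md b = md (a ^^^ b) := Equiv.ext (mf_mf a b)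

theorem md_zero : md 0 = 1 := Equiv.ext mf_zero

theorem md_sq (c : ℕ) : md c * md c = 1 := Equiv.ext (mf_inv c)

theorem f6_eq (x y : V6) : f6 x y = ⟨(x 0).re * (y 0).im + (x 0).im * (y 0).re +
    ((x 1).re * (y 1).im + (x 1).im * (y 1).re) + ((x 2).re * (y 2).im + (x 2).im * (y 2).re), 0⟩ := by
  have h : ∀ a b : GF4, a * b ^ 2 + a ^ 2 * b = ⟨a.re * b.im + a.im * b.re, 0⟩ := by decide
  rw [f6, h, h, h]
  rfl

theorem isAS_md (c : ℕ) : IsAS (md c) := by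
  refine ⟨fun x y => ?_, fun x y => ?_⟩
  · refine ext6 ?_ ?_ ?_ <;> refine QuadraticAlgebra.ext ?_ ?_ <;>
      simp [md_apply, mf, sw] <;> grind
  · rw [f6_eq, f6_eq]
    refine QuadraticAlgebra.ext ?_ rfl
    simp [md_apply, mf, sw]
    grind

/-- Real vectors. -/
def io (n : ℕ) : V6 := ![⟨bt n 0, 0⟩, ⟨bt n 1, 0⟩, ⟨bt n 2, 0⟩]

/-- Imaginary vectors. -/
def jj (n : ℕ) : V6 := ![⟨0, bt n 0⟩, ⟨0, bt n 1⟩, ⟨0, bt n 2⟩]

theorem io_xor (a b : ℕ) : io (a ^^^ b) = io a + io b := by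
  refine ext6 ?_ ?_ ?_ <;> refine QuadraticAlgebra.ext ?_ ?_ <;> simp [io, bt_xor]

theorem jj_xor (a b : ℕ) : jj (a ^^^ b) = jj a + jj b := by
  refine ext6 ?_ ?_ ?_ <;> refine QuadraticAlgebra.ext ?_ ?_ <;> simp [jj, bt_xor]

theorem io_inj : ∀ a < 8, ∀ b < 8, io a = io b → a = b := by decide +kernel

theorem exists_code (v : V6) : ∃ n < 8, ∃ a < 8, v = io n + jj a := by
  revert v; refine forall3 ?_; decide +kernel

theorem exists_io {v : V6} (h : ∀ i, (v i).im = 0) : ∃ n < 8, v = io n :=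
  forall3 (p := fun v => (∀ i, (v i).im = 0) → ∃ n < 8, v = io n) (by decide +kernel) v h

theorem real_iff {v : V6} : (∀ i, v i ^ 2 = v i) ↔ ∀ i, (v i).im = 0 :=
  forall_congr' fun i => (by decide : ∀ a : GF4, a ^ 2 = a ↔ a.im = 0) _

theorem io_im (n : ℕ) (i : Fin 3) : (io n i).im = 0 := by fin_cases i <;> rfl

theorem mf_im (c : ℕ) (v : V6) (i : Fin 3) : (mf c v i).im = (v i).im := by fin_cases i <;> rfl

theorem mf_0 (c : ℕ) : mf c 0 = io c := by
  refine ext6 ?_ ?_ ?_ <;> refine QuadraticAlgebra.ext ?_ rfl <;> simp [mf, sw, io]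

theorem mf_io (c n : ℕ) : mf c (io n) + mf c 0 = io n := by
  refine ext6 ?_ ?_ ?_ <;> refine QuadraticAlgebra.ext ?_ ?_ <;> simp [mf, sw, io, add_assoc, two0]

theorem bt_high {n : ℕ} (h : n < 8) {i : ℕ} (hi : 3 ≤ i) : bt n i = 0 := by
  rw [bt, Nat.testBit_lt_two_pow (h.trans_le (Nat.pow_le_pow_right two_pos hi))]; rfl

theorem md_tr {n : ℕ} (h : n < 8) : md n = tr (io n) := Equiv.ext fun v => by
  refine ext6 ?_ ?_ ?_ <;> refine QuadraticAlgebra.ext ?_ ?_ <;>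
    simp [md_apply, tr_apply, mf, sw, io, bt_high h]

theorem md_mod (c : ℕ) : md (c % 512) = md c := Equiv.ext fun v => by
  have h : ∀ i < 9, bt (c % 512) i = bt c i := fun i hi => by
    rw [bt, bt, show 512 = 2 ^ 9 from rfl, Nat.testBit_mod_two_pow, decide_eq_true hi, Bool.true_and]
  simp [md_apply, mf, sw, h]

theorem exists_bits : ∀ a b c : ZMod 2, ∃ n < 8, bt n 0 = a ∧ bt n 1 = b ∧ bt n 2 = c := by
  decide +kernel

theorem bt_join {a b c : ℕ} (ha : a < 8) (hb : b < 8) (hc : c < 8) : a + 8 * b + 64 * c < 512 ∧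
    ∀ i < 3, bt (a + 8 * b + 64 * c) i = bt a i ∧ bt (a + 8 * b + 64 * c) (3 + i) = bt b i ∧
      bt (a + 8 * b + 64 * c) (6 + i) = bt c i := by
  revert a b c
  exact fun {a b c} ha hb hc => (by decide +kernel : ∀ a < 8, ∀ b < 8, ∀ c < 8,
    a + 8 * b + 64 * c < 512 ∧ ∀ i < 3, bt (a + 8 * b + 64 * c) i = bt a i ∧
      bt (a + 8 * b + 64 * c) (3 + i) = bt b i ∧ bt (a + 8 * b + 64 * c) (6 + i) = bt c i) a ha b hb c hc

/-- The linear part. -/
def ln (σ : P6) (v : V6) : V6 := σ v + σ 0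

theorem ln_add {σ : P6} (h : IsAS σ) (u v : V6) : ln σ (u + v) = ln σ u + ln σ v := by
  rw [ln, ln, ln, h.add]; abel

theorem ln_zero (σ : P6) : ln σ 0 = 0 := v6_add_self _

theorem ln_mul {σ τ : P6} (h : IsAS σ) (v : V6) : ln (σ * τ) v = ln σ (ln τ v) := by
  simp only [ln, Equiv.Perm.mul_apply, h.add, add_assoc, v6_add_self, add_zero]

theorem ln_one (v : V6) : ln 1 v = v := add_zero v

theorem ln_adj {σ : P6} (h : IsAS σ) (h2 : σ * σ = 1) (x y : V6) :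
    f6 (ln σ x) y = f6 x (ln σ y) := by
  have e : ln σ (ln σ y) = y := by rw [← ln_mul h, h2, ln_one]
  nth_rw 1 [← e]
  exact h.form x (ln σ y)

theorem eq_of_gen {σ τ : P6} (h : IsAS σ) (h' : IsAS τ) (h0 : σ 0 = τ 0)
    (h1 : ∀ n < 8, ln σ (io n) = ln τ (io n)) (h2 : ∀ n ∈ [1, 2, 4], ln σ (jj n) = ln τ (jj n)) :
    σ = τ := Equiv.ext fun v => by
  obtain ⟨n, hn, a, ha, rfl⟩ := exists_code v
  have h3 : ln σ (jj a) = ln τ (jj a) := by
    have k := fun a b (p : ln σ (jj a) = ln τ (jj a)) (q : ln σ (jj b) = ln τ (jj b)) =>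
      show ln σ (jj (a ^^^ b)) = ln τ (jj (a ^^^ b)) by rw [jj_xor, ln_add h, ln_add h', p, q]
    have a1 := h2 1 (by simp)
    have a2 := h2 2 (by simp)
    have a4 := h2 4 (by simp)
    interval_cases a
    exacts [k 1 1 a1 a1, a1, a2, k 1 2 a1 a2, a4, k 1 4 a1 a4, k 2 4 a2 a4, k 3 4 (k 1 2 a1 a2) a4]
  have h4 := (ln_add h (io n) (jj a)).trans (by rw [h1 n hn, h3, ← ln_add h'])
  rwa [ln, ln, h0, add_left_inj] at h4

theorem exists_md {σ : P6} (h : IsAS σ) (h0 : ∀ i, (σ 0 i).im = 0)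
    (h1 : ∀ n < 8, ln σ (io n) = io n) : ∃ c < 512, σ = md c := by
  have k : ∀ n < 8, ∀ a, f6 (io n) (ln σ (jj a)) = f6 (io n) (jj a) := fun n hn a => by
    nth_rw 1 [← h1 n hn]
    exact h.form _ _
  have k' : ∀ a b, f6 (ln σ (jj a)) (ln σ (jj b)) = f6 (jj a) (jj b) := fun a b => h.form _ _
  have b12 := k' 1 2
  have b14 := k' 1 4
  have b24 := k' 2 4
  have c := fun a => And.intro (k 1 (by norm_num) a) (And.intro (k 2 (by norm_num) a)
    (k 4 (by norm_num) a))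
  have c1 := c 1
  have c2 := c 2
  have c4 := c 4
  obtain ⟨n, hn, hx⟩ := exists_io h0
  obtain ⟨p, hp, p0, p1, p2⟩ := exists_bits (ln σ (jj 1) 0).re (ln σ (jj 2) 1).re (ln σ (jj 4) 2).re
  obtain ⟨q, hq, q0, q1, q2⟩ := exists_bits (ln σ (jj 1) 1).re (ln σ (jj 1) 2).re (ln σ (jj 2) 2).re
  obtain ⟨l, hl⟩ := bt_join hn hp hq
  have l0 := hl 0 (by norm_num)
  have l1 := hl 1 (by norm_num)
  have l2 := hl 2 (by norm_num)
  refine ⟨_, l, eq_of_gen h (isAS_md _) ?_ (fun m hm => (h1 m hm).trans (mf_io _ m).symm) ?_⟩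
  · rw [hx, md_apply, mf_0, io, io, l0.1, l1.1, l2.1]
  simp only [List.mem_cons, List.not_mem_nil, or_false, forall_eq_or_imp, forall_eq]
  generalize ln σ (jj 1) = A at *
  generalize ln σ (jj 2) = B at *
  generalize ln σ (jj 4) = C at *
  have e : bt 1 0 = 1 ∧ bt 1 1 = 0 ∧ bt 1 2 = 0 ∧ bt 2 0 = 0 ∧ bt 2 1 = 1 ∧ bt 2 2 = 0 ∧ bt 4 0 = 0 ∧
    bt 4 1 = 0 ∧ bt 4 2 = 1 := by decide
  simp only [f6_eq, io, jj, e, QuadraticAlgebra.mk.injEq, Matrix.cons_val_zero, Matrix.cons_val_one,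
    Matrix.cons_val, mul_zero, zero_mul, one_mul, mul_one, add_zero, zero_add, and_true]
    at c1 c2 c4 b12 b14 b24
  simp only [c1, c2, c4, mul_zero, zero_mul, one_mul, mul_one, add_zero, zero_add] at b12 b14 b24
  refine ⟨ext6 ?_ ?_ ?_, ext6 ?_ ?_ ?_, ext6 ?_ ?_ ?_⟩ <;> refine QuadraticAlgebra.ext ?_ ?_ <;>
    simp [ln, md_apply, mf, sw, jj, e, l0, l1, l2, p0, p1, p2, q0, q1, q2, c1, c2, c4] <;> grind

theorem tr_tr (x : V6) : tr x * tr x = 1 := Equiv.ext fun v => by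
  rw [Equiv.Perm.mul_apply, tr_apply, tr_apply, add_assoc, v6_add_self, add_zero]; rfl

theorem ln_tr (x v : V6) : ln (tr x) v = v := by
  rw [ln, tr_apply, tr_apply, zero_add, add_assoc, v6_add_self, add_zero]

theorem exists_md' {σ : P6} (h : IsAS σ) (h1 : ∀ n < 8, ln σ (io n) = io n) :
    ∃ a < 8, ∃ c < 512, σ = tr (jj a) * md c := by
  obtain ⟨n, -, a, ha, e⟩ := exists_code (σ 0)
  obtain ⟨c, hc, e1⟩ := exists_md ((isAS_tr (jj a)).mul h) (fun i => by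
    rw [Equiv.Perm.mul_apply, tr_apply, e, add_assoc, v6_add_self, add_zero, io_im])
    fun m hm => by rw [ln_mul (isAS_tr _), ln_tr, h1 m hm]
  exact ⟨a, ha, c, hc, by rw [← e1, ← mul_assoc, tr_tr, one_mul]⟩

theorem xor_lt {a b : ℕ} (ha : a < 512) (hb : b < 512) : a ^^^ b < 512 :=
  Nat.xor_lt_two_pow (n := 9) ha hb

theorem md_inj {a b : ℕ} (ha : a < 512) (hb : b < 512) (e : md a = md b) : a = b := by
  have h : md (a ^^^ b) = 1 := by rw [← md_mul, e, md_sq]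
  have k := fun v => (DFunLike.congr_fun h v : mf (a ^^^ b) v = v)
  exact Nat.xor_eq_zero_iff.1 ((by decide +kernel : ∀ c < 512, mf c 0 = 0 → mf c (jj 1) = jj 1 →
    mf c (jj 2) = jj 2 → mf c (jj 4) = jj 4 → c = 0) _ (xor_lt ha hb) (k _) (k _) (k _) (k _))

/-! ### Types -/

def dot (c j k l w : ℕ) : Bool :=
  (c.testBit j && w.testBit 0) ^^ (c.testBit k && w.testBit 1) ^^ (c.testBit l && w.testBit 2)

def imc (y : V6) : ℕ := (y 0).im.val + 2 * (y 1).im.val + 4 * (y 2).im.val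

theorem bt_imc (y : V6) :
    (y 0).im = bt (imc y) 0 ∧ (y 1).im = bt (imc y) 1 ∧ (y 2).im = bt (imc y) 2 :=
  (by decide : ∀ a b c : ZMod 2, a = bt (a.val + 2 * b.val + 4 * c.val) 0 ∧
    b = bt (a.val + 2 * b.val + 4 * c.val) 1 ∧ c = bt (a.val + 2 * b.val + 4 * c.val) 2) _ _ _

theorem sw_eq (c j k l : ℕ) (y : V6) : sw c j k l y = tz (dot c j k l (imc y)) := by
  rw [sw, (bt_imc y).1, (bt_imc y).2.1, (bt_imc y).2.2]
  exact (by decide : ∀ a b c d e f, tz a * tz b + tz c * tz d + tz e * tz f =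
    tz ((a && b) ^^ (c && d) ^^ (e && f))) _ _ _ _ _ _

def p1 (c w : ℕ) : Bool := (c.testBit 0 == dot c 3 6 7 w) && (c.testBit 1 == dot c 6 4 8 w) &&
  (c.testBit 2 == dot c 7 8 5 w)

def p2 (c w : ℕ) : Bool := !dot c 3 6 7 w && !dot c 6 4 8 w && !dot c 7 8 5 w

def p3 (c w : ℕ) : Bool := !((w.testBit 0 && dot c 3 6 7 w) ^^ (w.testBit 1 && dot c 6 4 8 w) ^^
  (w.testBit 2 && dot c 7 8 5 w))

theorem p1_iff (c : ℕ) (y : V6) : mf c y = y ↔ p1 c (imc y) = true := by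
  have h : ∀ (r : GF4) a b, (⟨r.re + (tz a + tz b), r.im⟩ : GF4) = r ↔ (a == b) = true := by decide
  simp only [ext6_iff, mf, sw_eq, bt, Matrix.cons_val_zero, Matrix.cons_val_one, Matrix.cons_val, h,
    p1, Bool.and_eq_true, and_assoc]

theorem ln_md (c : ℕ) (y : V6) : mf c y + mf c 0 = ![⟨(y 0).re + tz (dot c 3 6 7 (imc y)), (y 0).im⟩,
    ⟨(y 1).re + tz (dot c 6 4 8 (imc y)), (y 1).im⟩, ⟨(y 2).re + tz (dot c 7 8 5 (imc y)), (y 2).im⟩] := by
  rw [mf_0, ← sw_eq, ← sw_eq, ← sw_eq]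
  refine ext6 ?_ ?_ ?_ <;> refine QuadraticAlgebra.ext ?_ ?_ <;> simp [mf, io] <;> grind

theorem p2_iff (c : ℕ) (y : V6) : mf c y + mf c 0 = y ↔ p2 c (imc y) = true := by
  have h : ∀ (r : GF4) b, (⟨r.re + tz b, r.im⟩ : GF4) = r ↔ (!b) = true := by decide
  simp only [ln_md, ext6_iff, Matrix.cons_val_zero, Matrix.cons_val_one, Matrix.cons_val, h,
    p2, Bool.and_eq_true, and_assoc]

theorem p3_iff (c : ℕ) (y : V6) : f6 y (mf c y + mf c 0) = 0 ↔ p3 c (imc y) = true := by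
  have h : ∀ (r b : ZMod 2) a, r * tz a + tz a * (r + b) = tz a * b := by decide
  rw [ln_md, f6_eq, p3]
  simp only [Matrix.cons_val_zero, Matrix.cons_val_one, Matrix.cons_val]
  rw [(bt_imc y).1, (bt_imc y).2.1, (bt_imc y).2.2, bt, bt, bt, h, h, h]
  exact (by decide : ∀ a b c d e f, (⟨tz a * tz b + tz c * tz d + tz e * tz f, 0⟩ : GF4) = 0 ↔
    (!((a && b) ^^ (c && d) ^^ (e && f))) = true) _ _ _ _ _ _

def L64 : List ℕ := [0, 0, 4, 4, 0, 0, 4, 4, 2, 2, 6, 6, 2, 2, 6, 6, 0, 0, 4, 4, 0, 0, 4, 4, 2, 2, 6,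
  6, 2, 2, 6, 6, 1, 1, 5, 5, 1, 1, 5, 5, 3, 3, 7, 7, 3, 3, 7, 7, 1, 1, 5, 5, 1, 1, 5, 5, 3, 3, 7, 7,
  3, 3, 7, 7]

def tyf (c : ℕ) : ℕ × ℕ × Bool := (L64.countP (p1 c), L64.countP (p2 c), L64.all (p3 c))

theorem ty_md (c : ℕ) : ty ⇑(md c) = tyf c := by
  rw [tyf, ← (by decide +kernel : all6.map imc = L64), List.countP_map, List.countP_map,
    List.all_map, ty, Prod.mk.injEq, Prod.mk.injEq]
  refine ⟨List.countP_congr fun y _ => ?_, List.countP_congr fun y _ => ?_,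
    List.all_congr rfl fun y => Bool.eq_iff_iff.2 ?_⟩ <;> rw [decide_eq_true_iff]
  exacts [p1_iff c y, p2_iff c y, p3_iff c y]

/-- The type of a code. -/
def tp (c : ℕ) : ℕ := (nat_lit 0x23333332667777666767767688888888677667768888888888888888544545548888888888888888888888886776677676676776888888888888888845544554888888888888888876676776888888888888888867677676888888884545545466777766323333328888888876767676888888887676767688888888545454548888888876676776888888888888888888888888888888886677776644555544676776768888888833233332776677668888888888888888776677665544554467766776888888888888888888888888333323327777666677776666555544448888888876767676776677663332333277776666333332323333332211111110 >>> (4 * c)) % 16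

/-- Representatives of the types. -/
def rp (k : ℕ) : ℕ := [0, 1, 8, 10, 64, 68, 24, 28, 56].getD k 0

theorem tp_spec : ∀ c < 512, tp c < 9 ∧ (tp c = 0 → c = 0) ∧ (tp c = 1 → c < 8) ∧
    tyf c = [(64, 64, true), (0, 64, true), (32, 32, false), (0, 32, false), (16, 16, true),
      (0, 16, true), (16, 16, false), (0, 16, false), (8, 8, false)].getD (tp c) (0, 0, true) := by
  decide +kernel

theorem rp_spec : ∀ k < 9, rp k < 512 ∧ tp (rp k) = k := by decide +kernel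

theorem conj_of_tp {a b : ℕ} (ha : a < 512) (hb : b < 512) (e : tp a = tp b) :
    ∃ g, IsAS g ∧ g * md a * g⁻¹ = md b :=
  (isAS_md a).conj_of_ty (isAS_md b) (md_sq a) (md_sq b) (by
    rw [ty_md, ty_md, (tp_spec a ha).2.2.2, (tp_spec b hb).2.2.2, e])

def cnt (m k : ℕ) : ℕ :=
  #{c ∈ range 512 | (m.testBit (tp c) && m.testBit (tp (c ^^^ rp k))) = true}

theorem fin1 : ∀ m < 512, m.testBit 2 = true → m.testBit 0 = false → m.testBit 1 = false →
    ¬ 4 ∣ cnt m 0 → (∀ k < 9, m.testBit k = true → cnt m k = cnt m 2) →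
      ∀ k < 9, cnt m k = cnt m 1 → k = 1 ∨ k = 6 := by
  decide +kernel

theorem fin2 : ∀ m < 512, m.testBit 1 = true → m.testBit 6 = true →
    (∀ k < 9, m.testBit k = true → k = 1 ∨ k = 6) → cnt m 6 ≠ cnt m 1 := by
  decide +kernel

theorem exists_mask (n : ℕ) (p : ℕ → Prop) : ∃ m < 2 ^ n, ∀ i < n, m.testBit i = true ↔ p i := by
  classical
  exact ⟨Nat.ofBits fun i : Fin n => decide (p i), Nat.ofBits_lt_two_pow _, fun i hi => by
    rw [Nat.testBit_ofBits_lt _ _ hi, decide_eq_true_iff]⟩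

/-! ### The action on the real vectors -/

def ap (G n : ℕ) : ℕ := (bif n.testBit 0 then G % 8 else 0) ^^^
  (bif n.testBit 1 then G / 8 % 8 else 0) ^^^ (bif n.testBit 2 then G / 64 else 0)

theorem ap_lt : ∀ G < 512, ∀ n < 8, ap G n < 8 := by decide +kernel

theorem exists_ap {σ : P6} (h : IsAS σ) (h1 : ∀ n < 8, ∀ i, (ln σ (io n) i).im = 0) :
    ∃ G < 512, ∀ n < 8, ln σ (io n) = io (ap G n) := by
  obtain ⟨a, ha, ea⟩ := exists_io (h1 1 (by norm_num))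
  obtain ⟨b, hb, eb⟩ := exists_io (h1 2 (by norm_num))
  obtain ⟨c, hc, ec⟩ := exists_io (h1 4 (by norm_num))
  refine ⟨a + 8 * b + 64 * c, by omega, fun n hn => ?_⟩
  rw [ap, show (a + 8 * b + 64 * c) % 8 = a by omega, show (a + 8 * b + 64 * c) / 8 % 8 = b by omega,
    show (a + 8 * b + 64 * c) / 64 = c by omega]
  have k := fun m n p q (x : ln σ (io m) = io p) (y : ln σ (io n) = io q) =>
    show ln σ (io (m ^^^ n)) = io (p ^^^ q) by rw [io_xor, io_xor, ln_add h, x, y]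
  have e0 : ln σ (io 0) = io 0 := by simpa using k 1 1 a a ea ea
  have k' : ∀ (t : Bool) m p, ln σ (io m) = io p →
      ln σ (io (bif t then m else 0)) = io (bif t then p else 0) := fun t m p x => by
    cases t
    exacts [e0, x]
  nth_rw 1 [(by decide : ∀ n < 8, n = (bif n.testBit 0 then 1 else 0) ^^^
    (bif n.testBit 1 then 2 else 0) ^^^ (bif n.testBit 2 then 4 else 0)) n hn]
  exact k _ _ _ _ (k _ _ _ _ (k' _ _ _ ea) (k' _ _ _ eb)) (k' _ _ _ ec)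

def IL : List ℕ := [84, 124, 161, 167, 214, 233, 266, 273, 275, 277, 279, 281, 302, 305, 309, 313,
  337, 345, 401, 403, 458, 465]

theorem mem_IL : ∀ G < 512, (∀ n < 8, ap G (ap G n) = n) → G ∈ IL := by decide +kernel

def Cm (G G' : ℕ) : Prop := ∀ n < 8, ap G (ap G' n) = ap G' (ap G n)

instance (G G' : ℕ) : Decidable (Cm G G') := by unfold Cm; infer_instance

theorem card_le4 {s : Finset ℕ} (h1 : ∀ G ∈ s, G ∈ IL) (h2 : ∀ G ∈ s, ∀ G' ∈ s, Cm G G') :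
    #s ≤ 4 := by
  by_cases a : s ⊆ {273}
  · exact (card_le_card a).trans (by simp)
  obtain ⟨G1, b1, b2⟩ := not_subset.1 a
  by_cases a : s ⊆ {273, G1}
  · exact (card_le_card a).trans (card_le_two.trans (by simp))
  obtain ⟨G2, c1, c2⟩ := not_subset.1 a
  simp only [mem_insert, mem_singleton, not_or] at b2 c2
  obtain ⟨G3, -, d⟩ := (by decide +kernel : ∀ G1 ∈ IL, G1 ≠ 273 → ∀ G2 ∈ IL, G2 ≠ 273 → G2 ≠ G1 →
    Cm G1 G2 → ∃ G3 ∈ IL, ∀ G ∈ IL, Cm G1 G → Cm G2 G → G = 273 ∨ G = G1 ∨ G = G2 ∨ G = G3)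
    G1 (h1 _ b1) b2 G2 (h1 _ c1) c2.1 c2.2 (h2 _ b1 _ c1)
  refine (card_le_card (t := {273, G1, G2, G3}) fun G hG => ?_).trans Finset.card_le_four
  simpa using d G (h1 _ hG) (h2 _ b1 _ hG) (h2 _ c1 _ hG)

def tb (x y z : Bool) : ℕ := (bif x then 1 else 0) + (bif y then 2 else 0) + (bif z then 4 else 0)

def col (c j k l : ℕ) : ℕ := tb (c.testBit j) (c.testBit k) (c.testBit l)

theorem col_spec (c j k l : ℕ) : col c j k l < 8 ∧ bt (col c j k l) 0 = bt c j ∧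
    bt (col c j k l) 1 = bt c k ∧ bt (col c j k l) 2 = bt c l :=
  (by decide : ∀ x y z, tb x y z < 8 ∧ bt (tb x y z) 0 = tz x ∧ bt (tb x y z) 1 = tz y ∧
    bt (tb x y z) 2 = tz z) _ _ _

def sy (G c : ℕ) : Bool :=
  ((ap G (col c 3 6 7)).testBit 1 == (ap G (col c 6 4 8)).testBit 0) &&
  ((ap G (col c 3 6 7)).testBit 2 == (ap G (col c 7 8 5)).testBit 0) &&
  ((ap G (col c 6 4 8)).testBit 2 == (ap G (col c 7 8 5)).testBit 1)

theorem sy_of {σ : P6} (h : IsAS σ) (h2 : σ * σ = 1) {G c : ℕ}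
    (hG : ∀ n < 8, ln σ (io n) = io (ap G n)) (e : Commute σ (md c)) : sy G c = true := by
  have k : ∀ x y, f6 (ln σ (ln (md c) x + x)) y = f6 x (ln σ (ln (md c) y + y)) := fun x y => by
    rw [ln_add h, ln_add h, ← ln_mul h, e.eq, ln_mul (isAS_md c), f6_add_left, f6_add_right,
      ln_adj (isAS_md c) (md_sq c), ln_adj h h2, ln_adj h h2]
  have e : bt 1 0 = 1 ∧ bt 1 1 = 0 ∧ bt 1 2 = 0 ∧ bt 2 0 = 0 ∧ bt 2 1 = 1 ∧ bt 2 2 = 0 ∧ bt 4 0 = 0 ∧
    bt 4 1 = 0 ∧ bt 4 2 = 1 := by decide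
  have c : ln (md c) (jj 1) + jj 1 = io (col c 3 6 7) ∧ ln (md c) (jj 2) + jj 2 = io (col c 6 4 8) ∧
      ln (md c) (jj 4) + jj 4 = io (col c 7 8 5) := by
    refine ⟨ext6 ?_ ?_ ?_, ext6 ?_ ?_ ?_, ext6 ?_ ?_ ?_⟩ <;> refine QuadraticAlgebra.ext ?_ ?_ <;>
      simp [ln, md_apply, mf, sw, jj, io, e, col_spec, two0] <;> grind
  have k1 := k (jj 1) (jj 2)
  have k2 := k (jj 1) (jj 4)
  have k3 := k (jj 2) (jj 4)
  simp only [c, hG _ (col_spec _ _ _ _).1] at k1 k2 k3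
  simp only [f6_eq, io, jj, e, QuadraticAlgebra.mk.injEq, Matrix.cons_val_zero, Matrix.cons_val_one,
    Matrix.cons_val, mul_zero, zero_mul, one_mul, mul_one, add_zero, zero_add, and_true] at k1 k2 k3
  have t : ∀ a b, tz a = tz b → (a == b) = true := by decide
  simp only [sy, Bool.and_eq_true]
  exact ⟨⟨t _ _ k1, t _ _ k2⟩, t _ _ k3⟩

theorem div_spec : ∀ c < 512, (∀ a < 8, p2 (8 * (c / 8)) a = p2 c a) ∧
    col (8 * (c / 8)) 3 6 7 = col c 3 6 7 ∧ col (8 * (c / 8)) 6 4 8 = col c 6 4 8 ∧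
      col (8 * (c / 8)) 7 8 5 = col c 7 8 5 := by
  decide +kernel

theorem sy_div {c : ℕ} (hc : c < 512) (G : ℕ) : sy G (8 * (c / 8)) = sy G c := by
  obtain ⟨-, a, b, d⟩ := div_spec c hc
  rw [sy, sy, a, b, d]

theorem p2_of {a c c' : ℕ} (ha : a < 8) (e : Commute (tr (jj a) * md c) (md c')) :
    p2 c' a = true := by
  have h : Commute (tr (jj a)) (md c') := by
    have h1 : Commute (md c) (md c') := by rw [Commute, SemiconjBy, md_mul, md_mul, Nat.xor_comm]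
    simpa [mul_assoc, md_sq] using e.mul_left h1
  have h1 : mf c' 0 + jj a = mf c' (0 + jj a) := DFunLike.congr_fun h.eq 0
  rw [← (by decide : ∀ a < 8, imc (jj a) = a) a ha, ← p2_iff, ← zero_add (jj a), ← h1, zero_add,
    add_right_comm, v6_add_self, zero_add]

theorem fin3 : ∀ G ∈ IL, G ≠ 273 →
    #{n ∈ range 8 | ap G n = n} ≤ 4 ∧ #{s ∈ range 64 | sy G (8 * s) = true} ≤ 16 := by
  decide +kernel

theorem fin4 : ∀ m < 256, (∃ a < 8, a ≠ 0 ∧ m.testBit a = true) →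
    #{a ∈ range 8 | m.testBit a = true} *
      #{s ∈ range 64 | ∀ a < 8, m.testBit a = true → p2 (8 * s) a = true} ≤ 16 := by
  decide +kernel

theorem div_eq : ∀ a < 512, ∀ n < 8, a ^^^ (8 * (a / 8) + n) < 8 := by decide +kernel

/-- The code of a transvection. -/
def sqc (n : ℕ) : ℕ := [0, 8, 16, 88, 32, 168, 304, 504].getD n 0

theorem sqc_spec : ∀ n < 8, n ≠ 0 → sqc n < 512 ∧ tp (sqc n) = 2 := by decide +kernel

theorem rv_io {n : ℕ} (hn : n < 8) : rv (io n) = md (sqc n) := Equiv.ext (forall3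
  ((by decide +kernel : ∀ n < 8, ∀ a b c, rf (io n) ![a, b, c] = mf (sqc n) ![a, b, c]) n hn))

theorem conj_rv' {σ : P6} (h : IsAS σ) {u : V6} (e : ln σ u = u) :
    σ * rv u * σ⁻¹ = rv u ∨ σ * rv u * σ⁻¹ = tr u * rv u := by
  have k : ∀ y, σ (rv u y) = rv u (σ y) + f6 (σ 0) u • u := fun y => by
    have h1 : f6 (σ y) u + f6 (σ 0) u = f6 y u := by
      rw [← f6_add_left, ← h.form y u]; congr 1; exact e.symm
    rw [rv_apply, rv_apply, add_assoc, ← add_smul, h1]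
    rcases f6_cases y u with a | a <;> rw [a]
    · simp
    · rw [one_smul, h.add, add_assoc]; congr 1
  rw [mul_inv_eq_iff_eq_mul, mul_inv_eq_iff_eq_mul]
  exact (f6_cases (σ 0) u).imp (fun a => Equiv.ext fun y => by simpa [a] using k y)
    fun a => Equiv.ext fun y => by simpa [a, tr_apply] using k y

end Cfsg.Agent.F6.One
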